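import Cfsg.Agent.Lib.SzSq.Sub

/-!
Owner: helper19. The four classes for a subfield lie inside those for the field.
-/

set_option autoImplicit false
set_option linter.unusedSectionVars false

namespace CfsgLib.SzSq

/-- A torus order of a subfield divides a torus order. -/
theorem torus_dvd {m k d A : ℕ} (hd : 2 * m + 1 = (2 * k + 1) * (2 * d + 1))
    (hA : (2 : ZMod A) ^ (2 * k + 1) + 2 ^ (k + 1) + 1 = 0 ∨ (2 : ZMod A) ^ (2 * k + 1) - 2 ^ (k + 1) + 1 = 0) :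
    A ∣ cl m 2 ∨ A ∣ cl m 3 := by
  obtain ⟨Q, hQ⟩ : ∃ Q : ZMod A, Q = 2 ^ (2 * k + 1) := ⟨_, rfl⟩
  obtain ⟨u, hu⟩ : ∃ u : ZMod A, u = 2 ^ (k + 1) := ⟨_, rfl⟩
  have hu2 : u ^ 2 = 2 * Q := by rw [hu, hQ, ← pow_mul, ← pow_succ']; congr 1; ring
  rw [← hQ, ← hu] at hA
  have hQ2 : Q ^ 2 = -1 := by
    rcases hA with h | h
    · linear_combination (Q + 1 - u) * h + hu2
    · linear_combination (Q + 1 + u) * h + hu2
  have hq : (2 : ZMod A) ^ (2 * m + 1) = (-1) ^ d * Q := by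
    rw [hd, pow_mul, ← hQ, pow_succ, pow_mul, hQ2]
  have hr : (2 : ZMod A) ^ (m + 1) = u * Q ^ d := by
    rw [hu, hQ, ← pow_mul, ← pow_add]
    congr 1
    nlinarith
  obtain ⟨e, he⟩ : ∃ e, d = 2 * e ∨ d = 2 * e + 1 := ⟨d / 2, by omega⟩
  have key : (2 : ZMod A) ^ (2 * m + 1) + 2 ^ (m + 1) + 1 = 0 ∨ (2 : ZMod A) ^ (2 * m + 1) - 2 ^ (m + 1) + 1 = 0 := by
    rw [hq, hr]
    rcases he with rfl | rfl
    · rw [pow_mul, pow_mul, hQ2, neg_one_sq, one_pow, one_mul]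
      rcases neg_one_pow_eq_or (ZMod A) e with h | h <;> rw [h] <;> rcases hA with h' | h'
      · left; linear_combination h'
      · right; linear_combination h'
      · right; linear_combination h'
      · left; linear_combination h'
    · rw [pow_succ, pow_succ Q, pow_mul, pow_mul, hQ2, neg_one_sq, one_pow, one_mul]
      rcases neg_one_pow_eq_or (ZMod A) e with h | h <;> rw [h] <;> rcases hA with h' | h'
      · right; linear_combination (-Q) * h' + hQ2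
      · left; linear_combination (-Q) * h' + hQ2
      · left; linear_combination (-Q) * h' + hQ2
      · right; linear_combination (-Q) * h' + hQ2
  have hle : 2 ^ (m + 1) ≤ 2 ^ (2 * m + 1) := Nat.pow_le_pow_right two_pos (by omega)
  rcases key with h | h
  · left
    rw [← ZMod.natCast_eq_zero_iff]
    show ((2 ^ (2 * m + 1) + 2 ^ (m + 1) + 1 : ℕ) : ZMod A) = 0
    push_cast
    exact h
  · right
    rw [← ZMod.natCast_eq_zero_iff]
    show ((2 ^ (2 * m + 1) - 2 ^ (m + 1) + 1 : ℕ) : ZMod A) = 0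
    rw [Nat.cast_add, Nat.cast_sub hle]
    push_cast
    exact h

/-- Each class of a subfield is inside one class. -/
theorem cl_dvd {m k : ℕ} (hd : 2 * k + 1 ∣ 2 * m + 1) (i : Fin 4) : ∃ j, cl k i ∣ cl m j := by
  obtain ⟨c, hc⟩ := hd
  obtain ⟨d, rfl⟩ : ∃ d, c = 2 * d + 1 := by
    rcases Nat.even_or_odd c with ⟨d, rfl⟩ | ho
    · exfalso
      have : (2 * k + 1) * (d + d) = 2 * ((2 * k + 1) * d) := by ring
      omega
    · exact ⟨c / 2, (Nat.two_mul_div_two_add_one_of_odd ho).symm⟩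
  have hle : 2 ^ (k + 1) ≤ 2 ^ (2 * k + 1) := Nat.pow_le_pow_right two_pos (by omega)
  fin_cases i
  · exact ⟨0, dvd_rfl⟩
  · exact ⟨1, Nat.pow_sub_one_dvd_pow_sub_one 2 ⟨_, hc⟩⟩
  · have h0 : (2 : ZMod (cl k 2)) ^ (2 * k + 1) + 2 ^ (k + 1) + 1 = 0 := by
      have h : ((2 ^ (2 * k + 1) + 2 ^ (k + 1) + 1 : ℕ) : ZMod (cl k 2)) = 0 := ZMod.natCast_self (cl k 2)
      push_cast at h
      exact h
    rcases torus_dvd (A := cl k 2) hc (Or.inl h0) with h | h
    · exact ⟨2, h⟩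
    · exact ⟨3, h⟩
  · have h0 : (2 : ZMod (cl k 3)) ^ (2 * k + 1) - 2 ^ (k + 1) + 1 = 0 := by
      have h : ((2 ^ (2 * k + 1) - 2 ^ (k + 1) + 1 : ℕ) : ZMod (cl k 3)) = 0 := ZMod.natCast_self (cl k 3)
      rw [Nat.cast_add, Nat.cast_sub hle] at h
      push_cast at h
      exact h
    rcases torus_dvd (A := cl k 3) hc (Or.inr h0) with h | h
    · exact ⟨2, h⟩
    · exact ⟨3, h⟩

end CfsgLib.SzSq
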