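import Cfsg.Agent.Lib.SzSq.Top
import Cfsg.Agent.Lib.Lie.Suzuki.Subfield
import Cfsg.Agent.Lib.ThreePrimeUse.SzFacts

/-!
Owner: helper19. A group with two Suzuki components and trivial solvable radical.
-/

set_option autoImplicit false
set_option linter.unusedSectionVars false

namespace CfsgLib.SzSq

open Subgroup CfsgLib.Lie.Suzuki CfsgLib.Components CfsgLib.Known.SuzukiAut
open scoped Pointwise

universe u v

/-- The two primitive primes and their classes. -/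
theorem primes_class {m r p k : ℕ} (P : ThreePrimeUse.Primes m r p) (hk : 1 ≤ k) (hd : 2 * k + 1 ∣ 2 * m + 1) :
    (r ∣ (2 ^ (2 * k + 1)) ^ 2 * ((2 ^ (2 * k + 1)) ^ 2 + 1) * (2 ^ (2 * k + 1) - 1) → k = m) ∧
    (p ∣ (2 ^ (2 * k + 1)) ^ 2 * ((2 ^ (2 * k + 1)) ^ 2 + 1) * (2 ^ (2 * k + 1) - 1) → k = m) ∧
    ¬ r ∣ 2 * m + 1 ∧ ¬ p ∣ 2 * m + 1 := by
  have hle : 2 * k + 1 ≤ 2 * m + 1 := Nat.le_of_dvd (by omega) hd
  have big : ∀ {s : ℕ}, s.Prime → s ≠ 2 → (∀ j : ℕ, 0 < j → j < 2 * m + 1 → ¬ s ∣ 2 ^ j - 1) →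
      ¬ s ∣ 2 * m + 1 := by
    intro s hs hs2 hppd h
    haveI := Fact.mk hs
    have h1 : s ∣ 2 ^ (s - 1) - 1 := by
      have h' := Nat.ModEq.pow_totient (x := 2) (n := s) ((Nat.coprime_primes Nat.prime_two hs).2 (Ne.symm hs2))
      rw [Nat.totient_prime hs] at h'
      exact (Nat.modEq_iff_dvd' Nat.one_le_two_pow).1 h'.symm
    have := Nat.le_of_dvd (by omega) h
    exact hppd (s - 1) (by have := hs.two_le; omega) (by omega) h1
  refine ⟨fun h => ?_, fun h => ?_, big P.hr P.r2 fun j hj hj' => P.rppd j hj (by omega), big P.hp P.p2 P.pppd⟩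
  · by_contra hne
    exact P.r_not_dvd_small (k := k) (by omega) h
  · by_contra hne
    have hlt : 2 * k + 1 < 2 * m + 1 := by omega
    rcases P.hp.dvd_mul.1 h with h1 | h1
    · rcases P.hp.dvd_mul.1 h1 with h2 | h2
      · exact (P.two_pow _).2 ((pow_mul 2 (2 * k + 1) 2).symm ▸ h2)
      · obtain ⟨c, hc⟩ := hd
        refine P.p_not_dvd_add (h2.trans ?_)
        have ho : Odd c := by
          rcases Nat.even_or_odd c with ⟨d, rfl⟩ | he
          · exfalso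
            have : (2 * k + 1) * (d + d) = 2 * ((2 * k + 1) * d) := by ring
            omega
          · exact he
        rw [hc, show (2 ^ ((2 * k + 1) * c)) ^ 2 = ((2 ^ (2 * k + 1)) ^ 2) ^ c by
          rw [← pow_mul, ← pow_mul, ← pow_mul]; congr 1; ring]
        simpa using ho.nat_add_dvd_pow_add_pow ((2 ^ (2 * k + 1)) ^ 2) 1
    · exact P.pppd _ (by omega) hlt h1

section Field

variable {m : ℕ} {F : Type} [Field F] [CharP F 2] [Fintype F] (hF : Fintype.card F = 2 ^ (2 * m + 1))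

include hF in
theorem fa_eq_one (hm : 1 ≤ m) {γ : F ≃+* F} (h : (fa γ : MulAut (Cfsg.Sz F m)) = 1) : γ = 1 := by
  refine RingEquiv.ext fun a => ?_
  have h1 : fa γ (uS hF a 0) = uS hF a 0 := by rw [h]; rfl
  rw [fa_uS, map_zero] at h1
  exact (uS_inj hF h1).1

include hF in
/-- A proper field automorphism fixes an element of prime order in a class different from two given ones. -/
theorem exists_fixed_sub (hm : 1 ≤ m) {γ : F ≃+* F} (hne : orderOf γ ≠ 2 * m + 1) (c : Fin 4) :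
    ∃ (y : Cfsg.Sz F m) (p : ℕ) (j : Fin 4), p.Prime ∧ orderOf y = p ∧ p ∣ cl m j ∧ j ≠ 0 ∧ j ≠ c ∧ fa γ y = y := by
  classical
  haveI : Fact (Nat.Prime 2) := ⟨Nat.prime_two⟩
  haveI : Finite (F ≃+* F) := Finite.of_injective (fun f => (f : F → F)) DFunLike.coe_injective
  have hdvd : orderOf γ ∣ 2 * m + 1 := by
    rw [← (CfsgLib.Known.AutPSL.card_ringAut hF (by omega : 1 ≤ 2 * m + 1)).1]
    exact orderOf_dvd_natCard γ
  obtain ⟨j, hj⟩ := hdvd
  have hj1 : j ≠ 1 := fun e => hne (by rw [hj, e, mul_one])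
  obtain ⟨k, rfl⟩ : ∃ k, j = 2 * k + 1 := by
    rcases Nat.even_or_odd j with ⟨d, rfl⟩ | ho
    · exfalso
      have : orderOf γ * (d + d) = 2 * (orderOf γ * d) := by ring
      omega
    · exact ⟨j / 2, (Nat.two_mul_div_two_add_one_of_odd ho).symm⟩
  have hk : 1 ≤ k := by omega
  let A : Subgroup (F ≃+* F) := Subgroup.zpowers γ
  let E : Subfield F := FixedPoints.subfield A F
  haveI : Fintype E := Fintype.ofFinite E
  haveI : Fintype A := Fintype.ofFinite A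
  have hfin : Module.finrank E F = orderOf γ := by
    rw [FixedPoints.finrank_eq_card A F, ← Nat.card_eq_fintype_card, Nat.card_zpowers]
  have hE : Fintype.card E = 2 ^ (2 * k + 1) := by
    have h := Module.natCard_eq_pow_finrank (K := E) (V := F)
    rw [hfin, Nat.card_eq_fintype_card, Nat.card_eq_fintype_card, hF, hj, mul_comm, pow_mul] at h
    exact (Nat.pow_left_injective (orderOf_pos γ).ne' h).symm
  haveI : CharP E 2 := charTwo_of_card hE
  have hd : 2 * k + 1 ∣ 2 * m + 1 := ⟨orderOf γ, by rw [hj, mul_comm]⟩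
  have hfix : ∀ a : E, γ (a : F) = a := fun a => a.2 ⟨γ, Subgroup.mem_zpowers γ⟩
  have hle : subGroup hk hF hE hd E.subtype ≤
      (fa γ : MulAut (Cfsg.Sz F m)).toMonoidHom.eqLocus (MonoidHom.id _) := by
    refine subGroup_le hk hF hE hd E.subtype (fun a b => ?_) (fun t => ?_) ?_
    · show fa γ (uS hF (a : F) (b : F)) = uS hF (a : F) (b : F)
      rw [fa_uS, hfix, hfix]
    · show fa γ (tS hF _) = tS hF _
      rw [fa_tS]
      exact congrArg (tS hF) (Units.ext (hfix (t : E)))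
    · exact Subtype.ext (Subtype.ext (map_wM (γ : F →+* F)))
  obtain ⟨-, ⟨t1, p1, hp1, ht1, hc1⟩, ⟨t2, p2, j2, hp2, ht2, hc2, hj20, hj21⟩⟩ :=
    exists_sz_prime hE hm hk hd
  have key : ∀ t : Cfsg.Sz E k, orderOf (subHom hk hF hE hd E.subtype t) = orderOf t ∧
      fa γ (subHom hk hF hE hd E.subtype t) = subHom hk hF hE hd E.subtype t := fun t =>
    ⟨orderOf_injective _ (subHom_injective _ _ _ _ _) t, hle ⟨t, rfl⟩⟩
  rcases eq_or_ne c 1 with rfl | hc
  · exact ⟨_, p2, j2, hp2, (key t2).1.trans ht2, hc2, hj20, hj21, (key t2).2⟩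
  · exact ⟨_, p1, 1, hp1, (key t1).1.trans ht1, hc1, by decide, hc.symm, (key t1).2⟩

include hF in
/-- Some power of an automorphism is inner. -/
theorem inner_pow (hm : 1 ≤ m) (φ : MulAut (Cfsg.Sz F m)) {n : ℕ} (hn : 2 * m + 1 ∣ n) :
    ∃ s : Cfsg.Sz F m, φ ^ n = MulAut.conj s := by
  haveI : Finite (Cfsg.Sz F m) := Subtype.finite
  haveI : Finite (MulAut (Cfsg.Sz F m)) :=
    Finite.of_injective (fun f => (f : Cfsg.Sz F m → Cfsg.Sz F m)) DFunLike.coe_injective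
  have hmem : φ ^ n ∈ Cfsg.Inn (Cfsg.Sz F m) := by
    rw [← QuotientGroup.eq_one_iff, QuotientGroup.mk_pow]
    obtain ⟨c, rfl⟩ := hn
    rw [pow_mul, ← CfsgLib.Known.SuzukiAut.card_out hF hm]
    rw [show (QuotientGroup.mk φ : Cfsg.Out (Cfsg.Sz F m)) ^ Nat.card (Cfsg.Out (Cfsg.Sz F m)) = 1 from
      pow_card_eq_one', one_pow]
  obtain ⟨s, hs⟩ := hmem
  exact ⟨s, hs.symm⟩

end Field

/-- A prime degree inside a class. -/
theorem five_of_class {m : ℕ} {e : ℕ} (he : e.Prime) (hn : 2 * m + 1 = e) {c : Fin 4} (hc : e ∣ cl m c) : m = 2 := by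
  haveI := Fact.mk he
  have hm1 : 1 ≤ m := by
    rcases Nat.eq_zero_or_pos m with h | h
    · exfalso
      subst h
      rw [← hn] at he
      exact Nat.not_prime_one he
    · exact h
  have hpow : ((2 ^ (2 * m + 1) : ℕ) : ZMod e) = 2 := by
    rw [hn, Nat.cast_pow, Nat.cast_ofNat, ZMod.pow_card]
  have hprod : ∀ x : ℕ, e ∣ x → x ∣ (2 ^ (2 * m + 1)) ^ 2 + 1 → m = 2 := by
    intro x hx hxd
    have h0 := (ZMod.natCast_eq_zero_iff _ e).2 (hx.trans hxd)
    rw [Nat.cast_add, Nat.cast_pow, hpow, Nat.cast_one] at h0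
    have h5 : ((5 : ℕ) : ZMod e) = 0 := by rw [← h0]; norm_num
    have := (Nat.prime_dvd_prime_iff_eq he (by norm_num)).1 ((ZMod.natCast_eq_zero_iff _ e).1 h5)
    omega
  obtain ⟨-, -, hp⟩ := CIT.SzPrimeGraph.q_facts m hm1
  fin_cases c
  · have := class_zero he hc
    omega
  · exfalso
    have h1 := (ZMod.natCast_eq_zero_iff _ e).2 (show e ∣ 2 ^ (2 * m + 1) - 1 from hc)
    rw [Nat.cast_sub Nat.one_le_two_pow, hpow, Nat.cast_one] at h1
    norm_num at h1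
  · exact hprod _ hc (hp ▸ dvd_mul_right _ _)
  · exact hprod _ hc (hp ▸ dvd_mul_left _ _)

variable {G : Type u} [Group G] [Finite G] {m : ℕ}

theorem component_normal (h3p : ThreePrimeUse.ThreePrimeSimple.{u}) (hm : 1 ≤ m) (hR : solRadical G = ⊥)
    (hG : Good m G) {K : Subgroup G} (hK : Cfsg.IsComponent K) : K.Normal :=
  ⟨fun x hx g => by
    have h := smul_mem_pointwise_smul x (MulAut.conj g) K hx
    rw [component_fixed h3p hm hR hG hK g] at h
    simpa [MulAut.smul_def] using h⟩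

/-- Nothing centralises two components. -/
theorem eq_one_of_centralizes (h3p : ThreePrimeUse.ThreePrimeSimple.{u}) (hm : 1 ≤ m) (hR : solRadical G = ⊥)
    (hG : Good m G) {K L : Subgroup G} (hK : Cfsg.IsComponent K) (hL : Cfsg.IsComponent L) (hne : K ≠ L) {g : G}
    (h1 : ∀ x ∈ K, g * x * g⁻¹ = x) (h2 : ∀ x ∈ L, g * x * g⁻¹ = x) : g = 1 := by
  rw [← mem_bot, ← centralizer_layer hR, mem_centralizer_iff]
  intro x hx
  have hle : Cfsg.layer G ≤ centralizer ({g} : Set G) := layer_le_iff.2 fun M hM y hy => by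
    refine mem_centralizer_singleton_iff.2 (mul_inv_eq_iff_eq_mul.1 ?_).symm
    rcases eq_or_ne M K with rfl | hMK
    · exact h1 y hy
    · obtain rfl := components_le_two h3p hm hR hG hK hL hM hne hMK.symm
      exact h2 y hy
  exact mem_centralizer_singleton_iff.1 (hle hx)

/-- The action on a component. -/
theorem exists_action {K : Subgroup G} [K.Normal] {F : Type} [Field F] {k : ℕ} (e : K ≃* Cfsg.Sz F k) :
    ∃ Φ : G →* MulAut (Cfsg.Sz F k), ∀ (g : G) (x : K), ((e.symm (Φ g (e x)) : K) : G) = g * x * g⁻¹ := by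
  refine ⟨(MulAut.congr e).toMonoidHom.comp MulAut.conjNormal, fun g x => ?_⟩
  simp [MulAut.congr]

/-- A group with two components and large element orders is the square of a Suzuki group. -/
theorem two_main (h3p : ThreePrimeUse.ThreePrimeSimple.{u}) (hm : 1 ≤ m) (hm2 : m ≠ 2) (hR : solRadical G = ⊥)
    (hG : Good m G) (hfull : ∀ i j : Fin 4, i ≠ j → ∃ g : G, orderOf g = cl m i * cl m j) {K L : Subgroup G}
    (hK : Cfsg.IsComponent K) (hL : Cfsg.IsComponent L) (hne : K ≠ L) {F : Type v} [Field F] [Fintype F]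
    (hF : Fintype.card F = 2 ^ (2 * m + 1)) : Nonempty (G ≃* Cfsg.Sz F m × Cfsg.Sz F m) := by
  classical
  haveI : CharP F 2 := charTwo_of_card hF
  haveI := component_normal h3p hm hR hG hK
  haveI := component_normal h3p hm hR hG hL
  obtain ⟨F₁, i₁, j₁, k₁, hk₁, hF₁, hd₁, ⟨e₁⟩⟩ := component_sz h3p hm hR hG hK
  obtain ⟨F₂, i₂, j₂, k₂, hk₂, hF₂, hd₂, ⟨e₂⟩⟩ := component_sz h3p hm hR hG hL
  haveI := charTwo_of_card hF₁
  haveI := charTwo_of_card hF₂
  obtain ⟨Φ₁, hΦ₁⟩ := exists_action e₁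
  obtain ⟨Φ₂, hΦ₂⟩ := exists_action e₂
  -- elements acting by inner automorphisms on both are products
  have hprod : ∀ (g : G) (s : Cfsg.Sz F₁ k₁) (t : Cfsg.Sz F₂ k₂), Φ₁ g = MulAut.conj s → Φ₂ g = MulAut.conj t →
      g = ((e₁.symm s : K) : G) * ((e₂.symm t : L) : G) := by
    intro g s t hs ht
    obtain ⟨a, ha⟩ : ∃ a, a = ((e₁.symm s : K) : G) := ⟨_, rfl⟩
    obtain ⟨b, hb⟩ : ∃ b, b = ((e₂.symm t : L) : G) := ⟨_, rfl⟩
    rw [← ha, ← hb]
    have haK : a ∈ K := ha ▸ SetLike.coe_mem _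
    have hbL : b ∈ L := hb ▸ SetLike.coe_mem _
    refine (inv_mul_eq_one.1 (eq_one_of_centralizes h3p hm hR hG hK hL hne (g := (a * b)⁻¹ * g) ?_ ?_)).symm
    · intro x hx
      have h := hΦ₁ g ⟨x, hx⟩
      rw [hs, MulAut.conj_apply, map_mul, map_mul, map_inv, e₁.symm_apply_apply, Subgroup.coe_mul, Subgroup.coe_mul,
        Subgroup.coe_inv, ← ha] at h
      rw [show (a * b)⁻¹ * g * x * ((a * b)⁻¹ * g)⁻¹ = b⁻¹ * (a⁻¹ * (g * x * g⁻¹) * a) * b by group, ← h,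
        show a⁻¹ * (a * x * a⁻¹) * a = x by group, mul_assoc, (commute_of_ne hK hL hne hx hbL).eq,
        inv_mul_cancel_left]
    · intro x hx
      have h := hΦ₂ g ⟨x, hx⟩
      rw [ht, MulAut.conj_apply, map_mul, map_mul, map_inv, e₂.symm_apply_apply, Subgroup.coe_mul, Subgroup.coe_mul,
        Subgroup.coe_inv, ← hb] at h
      have hc : Commute a (b * x * b⁻¹) := commute_of_ne hK hL hne haK (mul_mem (mul_mem hbL hx) (inv_mem hbL))
      rw [show (a * b)⁻¹ * g * x * ((a * b)⁻¹ * g)⁻¹ = b⁻¹ * (a⁻¹ * (g * x * g⁻¹) * a) * b by group, ← h,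
        mul_assoc a⁻¹, ← hc.eq, inv_mul_cancel_left]
      group
  -- the parameters
  have hkk : k₁ = m ∧ k₂ = m := by
    obtain ⟨r, p, P⟩ := ThreePrimeUse.exists_primes hm
    obtain ⟨hr1, hp1, hrn, hpn⟩ := primes_class P hk₁ hd₁
    obtain ⟨hr2, hp2, -, -⟩ := primes_class P hk₂ hd₂
    obtain ⟨j, hrj, hj0, hj1⟩ : ∃ j : Fin 4, r ∣ cl m j ∧ j ≠ 0 ∧ j ≠ 1 := by
      obtain ⟨-, -, hq⟩ := CIT.SzPrimeGraph.q_facts m hm
      rcases P.hr.dvd_mul.1 (hq.symm ▸ P.rq) with h | h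
      · exact ⟨2, h, by decide, by decide⟩
      · exact ⟨3, h, by decide, by decide⟩
    have hpr : p ≠ r := fun e => P.r_not_dvd_sub (e ▸ P.pq)
    obtain ⟨g, hg⟩ := hfull 1 j hj1.symm
    obtain ⟨g', hg'⟩ : ∃ g', g' = g ^ (2 * m + 1) := ⟨_, rfl⟩
    have hdiv : ∀ s : ℕ, s.Prime → ¬ s ∣ 2 * m + 1 → s ∣ orderOf g → s ∣ orderOf g' := by
      intro s hs hsn hsg
      rw [hg', orderOf_pow g]
      exact ((Nat.Coprime.coprime_dvd_right (Nat.gcd_dvd_right _ _) (hs.coprime_iff_not_dvd.2 hsn))).dvd_of_dvd_mul_right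
        (by rwa [Nat.div_mul_cancel (Nat.gcd_dvd_left _ _)])
    have hpg := hdiv p P.hp hpn (hg ▸ dvd_mul_of_dvd_left (show p ∣ cl m 1 from P.pq) _)
    have hrg := hdiv r P.hr hrn (hg ▸ dvd_mul_of_dvd_right hrj _)
    obtain ⟨s, hs⟩ := inner_pow hF₁ hk₁ (Φ₁ g) hd₁
    obtain ⟨t, ht⟩ := inner_pow hF₂ hk₂ (Φ₂ g) hd₂
    have he := hprod g' s t (by rw [hg', map_pow, hs]) (by rw [hg', map_pow, ht])
    haveI : Finite (Cfsg.Sz F₁ k₁) := Subtype.finite
    haveI : Finite (Cfsg.Sz F₂ k₂) := Subtype.finite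
    have hd' : orderOf g' ∣ Nat.lcm (orderOf s) (orderOf t) := by
      rw [he]
      refine (commute_of_ne hK hL hne (SetLike.coe_mem _) (SetLike.coe_mem _)).orderOf_mul_dvd_lcm.trans ?_
      rw [orderOf_coe, orderOf_coe, MulEquiv.orderOf_eq, MulEquiv.orderOf_eq]
    have single : ∀ {k : ℕ} (x : ℕ) (i : Fin 4), 1 ≤ k → 2 * k + 1 ∣ 2 * m + 1 → x ∣ cl k i →
        ¬ (p ∣ x ∧ r ∣ x) := by
      rintro k x i hk hd hx ⟨h1, h2⟩
      obtain ⟨a, ha, -, ea⟩ := sub_class hm hd hk P.hp (h1.trans hx)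
      obtain ⟨b, hb, -, eb⟩ := sub_class hm hd hk P.hr (h2.trans hx)
      have ha1 : a = 1 := class_unique hm P.hp ha (show p ∣ cl m 1 from P.pq)
      exact hj1 ((class_unique hm P.hr hrj hb).trans (eb.1 (ea.2 ha1)))
    obtain ⟨ia, hia⟩ := sz_order hF₁ hk₁ s
    obtain ⟨ib, hib⟩ := sz_order hF₂ hk₂ t
    have hcs : orderOf s ∣ (2 ^ (2 * k₁ + 1)) ^ 2 * ((2 ^ (2 * k₁ + 1)) ^ 2 + 1) * (2 ^ (2 * k₁ + 1) - 1) := by
      rw [← Cfsg.Agent.S0324.result hk₁ hF₁]
      exact orderOf_dvd_natCard s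
    have hct : orderOf t ∣ (2 ^ (2 * k₂ + 1)) ^ 2 * ((2 ^ (2 * k₂ + 1)) ^ 2 + 1) * (2 ^ (2 * k₂ + 1) - 1) := by
      rw [← Cfsg.Agent.S0324.result hk₂ hF₂]
      exact orderOf_dvd_natCard t
    have split : ∀ x : ℕ, x.Prime → x ∣ orderOf g' → x ∣ orderOf s ∨ x ∣ orderOf t := fun x hx h =>
      hx.dvd_mul.1 ((h.trans hd').trans (Nat.lcm_dvd_mul _ _))
    rcases split p P.hp hpg with h | h
    · have h' := (split r P.hr hrg).resolve_left fun h' => single _ ia hk₁ hd₁ hia ⟨h, h'⟩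
      exact ⟨hp1 (h.trans hcs), hr2 (h'.trans hct)⟩
    · have h' := (split r P.hr hrg).resolve_right fun h' => single _ ib hk₂ hd₂ hib ⟨h, h'⟩
      exact ⟨hr1 (h'.trans hcs), hp2 (h.trans hct)⟩
  obtain ⟨h₁, h₂⟩ := hkk
  subst k₁
  subst k₂
  -- no outer automorphisms
  have hin : ∀ g : G, ∃ a ∈ K, ∃ b ∈ L, g = a * b := by
    intro g
    obtain ⟨γ₀, s, hs⟩ := exists_inner_field hF₁ hk₁ (Φ₁ g)
    obtain ⟨δ₀, t, ht⟩ := exists_inner_field hF₂ hk₁ (Φ₂ g)
    obtain ⟨a, ha⟩ : ∃ a : K, a = e₁.symm s := ⟨_, rfl⟩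
    obtain ⟨b, hb⟩ : ∃ b : L, b = e₂.symm t := ⟨_, rfl⟩
    obtain ⟨g1, hg1⟩ : ∃ g1 : G, g1 = ((a : G) * b)⁻¹ * g := ⟨_, rfl⟩
    have hconjK : ∀ x : K, Φ₁ (x : G) = MulAut.conj (e₁ x) := fun x => MulEquiv.ext fun w => by
      refine e₁.symm.injective (Subtype.ext ?_)
      have h := hΦ₁ (x : G) (e₁.symm w)
      rw [e₁.apply_symm_apply] at h
      rw [h, MulAut.conj_apply, map_mul, map_mul, map_inv, e₁.symm_apply_apply]
      rfl
    have hconjL : ∀ x : L, Φ₂ (x : G) = MulAut.conj (e₂ x) := fun x => MulEquiv.ext fun w => by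
      refine e₂.symm.injective (Subtype.ext ?_)
      have h := hΦ₂ (x : G) (e₂.symm w)
      rw [e₂.apply_symm_apply] at h
      rw [h, MulAut.conj_apply, map_mul, map_mul, map_inv, e₂.symm_apply_apply]
      rfl
    have htrivK : ∀ x : L, Φ₁ (x : G) = 1 := fun x => MulEquiv.ext fun w => by
      refine e₁.symm.injective (Subtype.ext ?_)
      have h := hΦ₁ (x : G) (e₁.symm w)
      rw [e₁.apply_symm_apply] at h
      rw [h, MulAut.one_apply, (commute_of_ne hL hK hne.symm x.2 (e₁.symm w).2).eq, mul_inv_cancel_right]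
    have htrivL : ∀ x : K, Φ₂ (x : G) = 1 := fun x => MulEquiv.ext fun w => by
      refine e₂.symm.injective (Subtype.ext ?_)
      have h := hΦ₂ (x : G) (e₂.symm w)
      rw [e₂.apply_symm_apply] at h
      rw [h, MulAut.one_apply, (commute_of_ne hK hL hne x.2 (e₂.symm w).2).eq, mul_inv_cancel_right]
    have hg1K : Φ₁ g1 = faHom γ₀ := by
      rw [hg1, map_mul, map_inv, map_mul, htrivK, mul_one, hconjK, ha, e₁.apply_symm_apply, hs,
        inv_mul_cancel_left]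
      rfl
    have hg1L : Φ₂ g1 = faHom δ₀ := by
      rw [hg1, map_mul, map_inv, map_mul, htrivL, one_mul, hconjL, hb, e₂.apply_symm_apply, ht,
        inv_mul_cancel_left]
      rfl
    rcases eq_or_ne g1 1 with h1 | h1
    · rw [hg1, inv_mul_eq_one] at h1
      exact ⟨a, a.2, b, b.2, h1.symm⟩
    exfalso
    have hzero : ∀ g : G, Φ₁ g = 1 → Φ₂ g = 1 → g = 1 := fun g h h' => by
      have := hprod g 1 1 (by rw [h, map_one]) (by rw [h', map_one])
      rwa [map_one, map_one, Subgroup.coe_one, Subgroup.coe_one, mul_one] at this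
    haveI : Fact (Nat.Prime 2) := ⟨Nat.prime_two⟩
    have hn : g1 ^ (2 * m + 1) = 1 := by
      refine hzero _ ?_ ?_
      · haveI : Finite (F₁ ≃+* F₁) := Finite.of_injective (fun f => (f : F₁ → F₁)) DFunLike.coe_injective
        rw [map_pow, hg1K, ← map_pow, ← (CfsgLib.Known.AutPSL.card_ringAut hF₁ (by omega : 1 ≤ 2 * m + 1)).1,
          pow_card_eq_one', map_one]
      · haveI : Finite (F₂ ≃+* F₂) := Finite.of_injective (fun f => (f : F₂ → F₂)) DFunLike.coe_injective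
        rw [map_pow, hg1L, ← map_pow, ← (CfsgLib.Known.AutPSL.card_ringAut hF₂ (by omega : 1 ≤ 2 * m + 1)).1,
          pow_card_eq_one', map_one]
    obtain ⟨e, he, hed⟩ := Nat.exists_prime_and_dvd (fun h => h1 (orderOf_eq_one_iff.1 h) : orderOf g1 ≠ 1)
    obtain ⟨i, hi⟩ := exists_pow_orderOf he hed
    have hen : e ∣ 2 * m + 1 := hed.trans (orderOf_dvd_of_pow_eq_one hn)
    obtain ⟨c, hc⟩ := hG.class_of he hed
    have hne_e : e ≠ 2 * m + 1 := fun h => hm2 (five_of_class he h.symm hc)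
    have hc0 : c ≠ 0 := fun h => by
      have h2' := class_zero he (h ▸ hc)
      subst h2'
      omega
    have hγ : orderOf (γ₀ ^ i) ∣ e := by
      refine orderOf_dvd_of_pow_eq_one (fa_eq_one hF₁ hk₁ ?_)
      show faHom ((γ₀ ^ i) ^ e) = 1
      rw [map_pow, map_pow, ← hg1K, ← map_pow, ← map_pow, ← hi, pow_orderOf_eq_one, map_one]
    have hγn : orderOf (γ₀ ^ i) ≠ 2 * m + 1 := fun h => by
      rcases (Nat.dvd_prime he).1 hγ with h' | h'
      · omega
      · exact hne_e (h'.symm.trans h)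
    obtain ⟨y, p, j, hp, hy, hpj, hj0, hjc, hfy⟩ := exists_fixed_sub hF₁ hk₁ hγn c
    have hz2 : orderOf (uS hF₂ (0 : F₂) 1) = 2 := by
      refine orderOf_eq_prime (by rw [uS_sq, map_zero, zero_mul, uS_zero_zero]) fun h => ?_
      exact one_ne_zero ((uS_eq_one_iff hF₂).1 h).2
    have hcK : Commute (g1 ^ i) ((e₁.symm y : K) : G) := by
      have h := hΦ₁ (g1 ^ i) (e₁.symm y)
      rw [e₁.apply_symm_apply, map_pow, hg1K, ← map_pow, show faHom (γ₀ ^ i) y = y from hfy] at h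
      exact mul_inv_eq_iff_eq_mul.1 h.symm
    have hcL : Commute (g1 ^ i) ((e₂.symm (uS hF₂ (0 : F₂) 1) : L) : G) := by
      have h := hΦ₂ (g1 ^ i) (e₂.symm (uS hF₂ (0 : F₂) 1))
      rw [e₂.apply_symm_apply, map_pow, hg1L, ← map_pow,
        show faHom (δ₀ ^ i) (uS hF₂ (0 : F₂) 1) = uS hF₂ (0 : F₂) 1 by
          show fa (δ₀ ^ i) (uS hF₂ (0 : F₂) 1) = _
          rw [fa_uS, map_zero, map_one]] at h
      exact mul_inv_eq_iff_eq_mul.1 h.symm
    exact hG.false3 hm hj0.symm hc0.symm hjc Nat.prime_two hp he (by norm_num [cl]) hpj hc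
      (x := ((e₂.symm (uS hF₂ (0 : F₂) 1) : L) : G)) (y := ((e₁.symm y : K) : G)) (z := g1 ^ i)
      (by rw [orderOf_coe, MulEquiv.orderOf_eq, hz2]) (by rw [orderOf_coe, MulEquiv.orderOf_eq, hy]) hi
      (commute_of_ne hL hK hne.symm (SetLike.coe_mem _) (SetLike.coe_mem _)) hcL.symm hcK.symm
  -- the isomorphism
  let μ : K × L →* G :=
    { toFun := fun x => (x.1 : G) * x.2
      map_one' := by simp
      map_mul' := fun x y => by
        show ((x.1 : G) * y.1) * ((x.2 : G) * y.2) = (x.1 : G) * x.2 * ((y.1 : G) * y.2)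
        rw [mul_assoc, ← mul_assoc (y.1 : G), (commute_of_ne hK hL hne y.1.2 x.2.2).eq, mul_assoc, ← mul_assoc] }
  have hμ : Function.Bijective μ := by
    refine ⟨(MonoidHom.ker_eq_bot_iff μ).1 ((eq_bot_iff_forall _).2 fun x hx => ?_), fun g => ?_⟩
    · have h : (x.1 : G) = (x.2 : G)⁻¹ := eq_inv_of_mul_eq_one_left (MonoidHom.mem_ker.1 hx)
      have h1 : (x.1 : G) = 1 := component_inf hR hK hL hne x.1.2 (h ▸ inv_mem x.2.2)
      have h2 : (x.2 : G) = 1 := by rw [h1] at h; exact inv_eq_one.1 h.symm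
      exact Prod.ext (Subtype.ext h1) (Subtype.ext h2)
    · obtain ⟨a, ha, b, hb, rfl⟩ := hin g
      exact ⟨(⟨a, ha⟩, ⟨b, hb⟩), rfl⟩
  haveI : Finite (Cfsg.Sz F m) := Subtype.finite
  have hiso : ∀ {F' : Type} [Field F'] [Fintype F'] (hF' : Fintype.card F' = 2 ^ (2 * m + 1)),
      Nonempty (Cfsg.Sz F' m ≃* Cfsg.Sz F m) := by
    intro F' _ _ hF'
    haveI := charTwo_of_card hF'
    haveI : Finite (Cfsg.Sz F' m) := Subtype.finite
    obtain ⟨ψ, hψ⟩ : ∃ ψ : Cfsg.Sz F' m →* Cfsg.Sz F m, Function.Bijective ψ := by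
      refine ⟨subHom hk₁ hF hF' dvd_rfl (FiniteField.ringEquivOfCardEq (hF'.trans hF.symm)).toRingHom,
        (Nat.bijective_iff_injective_and_card _).2 ⟨subHom_injective _ _ _ _ _, ?_⟩⟩
      rw [Cfsg.Agent.S0324.result hk₁ hF, Cfsg.Agent.S0324.result hk₁ hF']
    exact ⟨MulEquiv.ofBijective ψ hψ⟩
  obtain ⟨w₁⟩ := hiso hF₁
  obtain ⟨w₂⟩ := hiso hF₂
  exact ⟨(MulEquiv.ofBijective μ hμ).symm.trans ((e₁.trans w₁).prodCongr (e₂.trans w₂))⟩

end CfsgLib.SzSq
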