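import Cfsg.Agent.Lib.SzSq.Radical

/-!
Owner: helper19. Two Suzuki groups on top of a solvable radical.
-/

set_option autoImplicit false
set_option linter.unusedSectionVars false

namespace CfsgLib.SzSq

open Subgroup CfsgLib.Lie.Suzuki
open scoped Pointwise

universe u

variable {G : Type u} [Group G] [Finite G] {m : ℕ}
variable {F₁ F₂ : Type} [Field F₁] [Fintype F₁] [Field F₂] [Fintype F₂] {k₁ k₂ : ℕ}

/-- An abelian radical below two Suzuki groups is impossible. -/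
theorem two_abelian (hfix : FixFacts.{u}) (hm : 1 ≤ m) (hG : Good m G) {R : Subgroup G} [R.Normal]
    [IsMulCommutative R] {l : ℕ} (hl : l.Prime) (hexp : ∀ r ∈ R, r ^ l = 1) (hR : R ≠ ⊥)
    {E₁ E₂ : Subgroup G} {f₁ : E₁ →* Cfsg.Sz F₁ k₁} {f₂ : E₂ →* Cfsg.Sz F₂ k₂}
    (hc₁ : IsCover m f₁) (hc₂ : IsCover m f₂) (hker₁ : ∀ e : E₁, f₁ e = 1 → (e : G) ∈ R)
    (hker₂ : ∀ e : E₂, f₂ e = 1 → (e : G) ∈ R)
    (hcomm : ∀ a ∈ E₁, ∀ b ∈ E₂, a * b * a⁻¹ * b⁻¹ ∈ R) : False := by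
  haveI := Fact.mk hl
  have hRc : ∀ r ∈ R, ∀ r' ∈ R, Commute r r' := fun r hr r' hr' =>
    congrArg Subtype.val (mul_comm' (⟨r, hr⟩ : R) ⟨r', hr'⟩)
  obtain ⟨r0, hr0, hr01⟩ := R.bot_or_exists_ne_one.resolve_left hR
  have hro : ∀ r ∈ R, r ≠ 1 → orderOf r = l := fun r hr h1 => orderOf_eq_prime (hexp r hr) h1
  obtain ⟨c, hlc⟩ := hG.class_of hl (g := r0) (hro r0 hr0 hr01).symm.dvd
  rcases eq_or_ne l 2 with rfl | hl2
  · have h8 : ∀ g : G, orderOf g ≠ 8 := fun g hg => hG.no_eight hm g (dvd_of_eq hg.symm)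
    have hc1 : ∀ e : E₁, ∀ v ∈ R, Commute (e : G) v :=
      hfix.cent hc₁.hk hc₁.card h8 hexp le_normalizer_of_normal f₁ hc₁.surj hc₁.min
    have hc2 : ∀ e : E₂, ∀ v ∈ R, Commute (e : G) v :=
      hfix.cent hc₂.hk hc₂.card h8 hexp le_normalizer_of_normal f₂ hc₂.surj hc₂.min
    have h12 : ∀ a ∈ E₁, ∀ b ∈ E₂, Commute a b := by
      intro a ha b hb
      let χ : E₁ →* R :=
        { toFun := fun x => ⟨x * b * (x : G)⁻¹ * b⁻¹, hcomm x x.2 b hb⟩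
          map_one' := Subtype.ext (by simp)
          map_mul' := fun x y => Subtype.ext (by
            show (x : G) * y * b * ((x : G) * y)⁻¹ * b⁻¹ = x * b * (x : G)⁻¹ * b⁻¹ * (y * b * (y : G)⁻¹ * b⁻¹)
            have hy := hcomm y y.2 b hb
            rw [← (hRc _ hy _ (hcomm x x.2 b hb)).eq,
              show (x : G) * y * b * ((x : G) * y)⁻¹ * b⁻¹ =
                (x : G) * ((y : G) * b * (y : G)⁻¹ * b⁻¹) * (b * (x : G)⁻¹ * b⁻¹) by group,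
              (hc1 x _ hy).eq]
            group) }
      have hχ : commutator E₁ ≤ χ.ker := by
        rw [_root_.commutator_def, commutator_le]
        intro x _ y _
        rw [MonoidHom.mem_ker, map_commutatorElement, commutatorElement_eq_one_iff_commute]
        exact mul_comm' _ _
      rw [hc₁.perfect] at hχ
      have h := congrArg Subtype.val (MonoidHom.mem_ker.1 (hχ (mem_top ⟨a, ha⟩)))
      exact mul_inv_eq_iff_eq_mul.1 (mul_inv_eq_one.1 h)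
    obtain ⟨x₁, p₁, j₁, hp₁, hx₁, hc1', hj₁, -⟩ := hc₁.exists_class hm (c := 0)
    obtain ⟨x₂, p₂, j₂, hp₂, hx₂, hc2', hj₂, hj₁₂⟩ := hc₂.exists_class hm (c := j₁)
    obtain ⟨e₁, he₁⟩ := hc₁.surj x₁
    obtain ⟨e₂, he₂⟩ := hc₂.surj x₂
    obtain ⟨i₁, hi₁⟩ := exists_pow_orderOf hp₁ (g := (e₁ : G)) (by
      rw [← hx₁, ← he₁, Subgroup.orderOf_coe]; exact orderOf_map_dvd f₁ e₁)
    obtain ⟨i₂, hi₂⟩ := exists_pow_orderOf hp₂ (g := (e₂ : G)) (by
      rw [← hx₂, ← he₂, Subgroup.orderOf_coe]; exact orderOf_map_dvd f₂ e₂)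
    exact hG.false3 hm hj₁.symm hj₂.symm hj₁₂.symm Nat.prime_two hp₁ hp₂ (by norm_num [cl]) hc1' hc2'
      (hro r0 hr0 hr01) hi₁ hi₂ ((hc1 e₁ r0 hr0).symm.pow_right i₁) ((hc2 e₂ r0 hr0).symm.pow_right i₂)
      ((h12 e₁ e₁.2 e₂ e₂.2).pow_pow i₁ i₂)
  · have hc0 : c ≠ 0 := fun e => hl2 (class_zero hl (e ▸ hlc))
    obtain ⟨A, y, hA, hAE, -, -⟩ := hc₁.exists_frame hfix hm hG
    obtain ⟨a0, ha0, ha01⟩ := hA.exists_ne_one
    have ha2 : a0 ^ 2 = 1 := hA.exp a0 ha0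
    have hRodd : ¬ 2 ∣ Nat.card R := fun hd => by
      haveI : Fact (Nat.Prime 2) := ⟨Nat.prime_two⟩
      obtain ⟨r, hr⟩ := exists_prime_orderOf_dvd_card' 2 hd
      have h := orderOf_dvd_of_pow_eq_one (hexp r r.2)
      rw [Subgroup.orderOf_coe, hr] at h
      exact hl2 ((Nat.prime_dvd_prime_iff_eq Nat.prime_two hl).1 h).symm
    obtain ⟨W, hW⟩ : ∃ W : Subgroup G, W = R ⊓ centralizer ({a0} : Set G) := ⟨_, rfl⟩
    haveI : IsMulCommutative W := ⟨⟨fun p q => Subtype.ext (hRc _ (hW.le p.2).1 _ (hW.le q.2).1).eq⟩⟩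
    have hWne : W ≠ ⊥ := by
      obtain ⟨v, hv, hv1, hav⟩ := hA.fixed (V := R) le_normalizer_of_normal (le_normalizer_of_normal (mem_top _))
        hRodd hR ha0
      exact fun e => hv1 (mem_bot.1 (e ▸ hW.ge ⟨hv, mem_centralizer_singleton_iff.2 hav.symm.eq⟩))
    have key : ∀ e ∈ E₂, ∀ w ∈ W, e * w * e⁻¹ ∈ W := fun e he w hw => by
      rw [hW] at hw ⊢
      have hu : (e * a0 * e⁻¹ * a0⁻¹) ∈ R := by
        have h := inv_mem (hcomm a0 (hAE ha0) e he)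
        simpa [mul_assoc] using h
      have hw' : e * w * e⁻¹ ∈ R := (inferInstance : R.Normal).conj_mem w hw.1 e
      refine ⟨hw', mem_centralizer_singleton_iff.2 ?_⟩
      have h1 : Commute (e * w * e⁻¹) (e * a0 * e⁻¹) :=
        (show Commute w a0 from mem_centralizer_singleton_iff.1 hw.2).map (MulAut.conj e)
      have h2 := (hRc _ hw' _ hu).inv_right.mul_right h1
      rwa [show (e * a0 * e⁻¹ * a0⁻¹)⁻¹ * (e * a0 * e⁻¹) = a0 by group] at h2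
    have hEW : E₂ ≤ normalizer (W : Set G) := fun e he => mem_normalizer_iff.2 fun x => ⟨key e he x, fun hx => by
      have := key e⁻¹ (inv_mem he) _ hx
      rwa [inv_inv, show e⁻¹ * (e * x * e⁻¹) * e = x by group] at this⟩
    obtain ⟨x, p, j, hp, hx, hpj, hj0, hjc⟩ := hc₂.exists_class hm (c := c)
    obtain ⟨e, he⟩ := hc₂.surj x
    obtain ⟨g, hgE, hgo, w, hw, hw1, hgw⟩ := hc₂.exists_fixed hfix hm hG hl hl2
      (fun v hv => hexp v (hW.le hv).1) hWne hEW (fun e he v hv => hRc _ (hker₂ e he) _ (hW.le hv).1) hp hx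
      (fun e => hjc (class_unique hm hp hpj (e ▸ hlc)))
    obtain ⟨hwR, hwa⟩ := hW.le hw
    obtain ⟨u, hu⟩ : ∃ u, u = g * a0 * g⁻¹ * a0⁻¹ := ⟨_, rfl⟩
    have huR : u ∈ R := by
      have h := inv_mem (hcomm a0 (hAE ha0) g hgE)
      rw [hu]
      simpa [mul_assoc] using h
    have hinv : a0 * u * a0⁻¹ = u⁻¹ := by
      have h1 : (u * a0) * (u * a0) = 1 := by
        rw [hu, inv_mul_cancel_right, show g * a0 * g⁻¹ * (g * a0 * g⁻¹) = g * a0 ^ 2 * g⁻¹ by rw [pow_two]; group,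
          ha2, mul_one, mul_inv_cancel]
      have ha : a0⁻¹ = a0 := inv_eq_of_mul_eq_one_right (by rw [← pow_two, ha2])
      refine eq_inv_of_mul_eq_one_right ?_
      rw [ha, ← mul_assoc, ← mul_assoc, ← h1]
      group
    obtain ⟨v, hv⟩ : ∃ v, v = u ^ ((l - 1) / 2) := ⟨_, rfl⟩
    have hvR : v ∈ R := hv ▸ pow_mem huR _
    have hav : a0 * v * a0⁻¹ = v⁻¹ := by rw [hv, ← conj_pow, hinv, inv_pow]
    have hv2 : v ^ 2 * u = 1 := by
      obtain ⟨i, hi⟩ := hl.odd_of_ne_two hl2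
      rw [hv, ← pow_mul, ← pow_succ, show (l - 1) / 2 * 2 + 1 = l by omega, hexp u huR]
    have hvg : Commute a0 (v * g) := by
      show a0 * (v * g) = v * g * a0
      calc a0 * (v * g) = a0 * v * a0⁻¹ * (a0 * g) := by group
        _ = v⁻¹ * (a0 * g) := by rw [hav]
        _ = v * u * (a0 * g) := by
          rw [show v⁻¹ = v * u from inv_eq_of_mul_eq_one_right (by rw [← mul_assoc, ← pow_two, hv2])]
        _ = v * g * a0 := by rw [hu]; group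
    have hpd : p ∣ orderOf (v * g) := by
      have hpc : ∀ r ∈ R, p ∣ orderOf r → False := fun r hr hd => by
        have h := (hd.trans (orderOf_dvd_of_pow_eq_one (hexp r hr)))
        exact hjc (class_unique hm hp hpj (((Nat.prime_dvd_prime_iff_eq hp hl).1 h).symm ▸ hlc))
      by_contra hd
      refine hpc g ?_ hgo.symm.dvd
      have h1 : QuotientGroup.mk' R (v * g) = QuotientGroup.mk' R g := by
        rw [map_mul, QuotientGroup.mk'_apply R v, (QuotientGroup.eq_one_iff v).2 hvR, one_mul]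
      have h2 : orderOf (QuotientGroup.mk' R g) = 1 :=
        Nat.eq_one_of_dvd_coprimes (hp.coprime_iff_not_dvd.2 hd) (hgo ▸ orderOf_map_dvd (QuotientGroup.mk' R) g)
          (h1 ▸ orderOf_map_dvd (QuotientGroup.mk' R) (v * g))
      exact (QuotientGroup.eq_one_iff g).1 (orderOf_eq_one_iff.1 h2)
    obtain ⟨i, hi⟩ := exists_pow_orderOf hp hpd
    exact hG.false3 hm hc0.symm hj0.symm hjc.symm Nat.prime_two hl hp (by norm_num [cl]) hlc hpj
      (orderOf_eq_two hA ha0 ha01) (hro w hwR hw1) hi (mem_centralizer_singleton_iff.1 hwa).symm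
      (hvg.pow_right i) (((hRc _ hwR _ hvR).mul_right hgw.symm).pow_right i)

/-- Two Suzuki groups have trivial solvable radical. -/
theorem two_radical (hfix : FixFacts.{u}) (hm : 1 ≤ m) (hG : Good m G) {R : Subgroup G} [R.Normal]
    (hsol : Group.IsSolvable R) {H₁ H₂ : Subgroup G} (h1 : R ≤ H₁) (h2 : R ≤ H₂)
    (hk₁ : 1 ≤ k₁) (hF₁ : Fintype.card F₁ = 2 ^ (2 * k₁ + 1)) (hd₁ : 2 * k₁ + 1 ∣ 2 * m + 1)
    (hk₂ : 1 ≤ k₂) (hF₂ : Fintype.card F₂ = 2 ^ (2 * k₂ + 1)) (hd₂ : 2 * k₂ + 1 ∣ 2 * m + 1)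
    (g₁ : H₁ →* Cfsg.Sz F₁ k₁) (g₂ : H₂ →* Cfsg.Sz F₂ k₂) (hg₁ : Function.Surjective g₁)
    (hg₂ : Function.Surjective g₂) (hker₁ : ∀ h : H₁, g₁ h = 1 ↔ (h : G) ∈ R)
    (hker₂ : ∀ h : H₂, g₂ h = 1 ↔ (h : G) ∈ R)
    (hcomm : ∀ a ∈ H₁, ∀ b ∈ H₂, a * b * a⁻¹ * b⁻¹ ∈ R) : R = ⊥ := by
  classical
  by_contra hR
  obtain ⟨M, ⟨⟨hMn, hMlt⟩, hMmax⟩⟩ := Set.Finite.exists_maximal
    (s := {M : Subgroup G | M.Normal ∧ M < R}) (Set.toFinite _) ⟨⊥, inferInstance, bot_lt_iff_ne_bot.2 hR⟩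
  haveI := hMn
  obtain ⟨q, hq⟩ : ∃ q : G →* G ⧸ M, q = QuotientGroup.mk' M := ⟨_, rfl⟩
  have hqs : Function.Surjective q := hq ▸ QuotientGroup.mk'_surjective M
  have hqk : q.ker = M := by rw [hq, QuotientGroup.ker_mk']
  haveI hRn : (R.map q).Normal := Subgroup.Normal.map inferInstance q hqs
  haveI hRs : Group.IsSolvable (R.map q) :=
    haveI := hsol
    Group.isSolvable_of_surjective (f := q.subgroupMap R) (MonoidHom.subgroupMap_surjective q R)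
  have hRq : R.map q ≠ ⊥ := fun e => not_le_of_gt hMlt (((Subgroup.map_eq_bot_iff R).1 e).trans hqk.le)
  have hmin : ∀ K : Subgroup (G ⧸ M), K.Normal → K ≤ R.map q → K = ⊥ ∨ K = R.map q := by
    intro K hK hle
    have hKR : K.comap q ≤ R := fun g hg => by
      obtain ⟨r, hr, e⟩ := hle hg
      have : r⁻¹ * g ∈ M := by rw [← hqk, MonoidHom.mem_ker, map_mul, map_inv, e, inv_mul_cancel]
      simpa using mul_mem hr (hMlt.le this)
    have hMK : M ≤ K.comap q := hqk.ge.trans (MonoidHom.ker_le_comap q K)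
    rcases eq_or_lt_of_le hKR with e | e
    · exact Or.inr (by rw [← map_comap_eq_self_of_surjective hqs K, e])
    · have := le_antisymm (hMmax ⟨hK.comap q, e⟩ hMK) hMK
      exact Or.inl ((map_comap_eq_self_of_surjective hqs K).symm.trans
        ((Subgroup.map_eq_bot_iff _).2 (this.le.trans hqk.ge)))
  obtain ⟨l, hl, -, hc, hexp⟩ := CfsgLib.Core.isPGroup_of_minimal_normal (R.map q) hRs hRq hmin
  haveI := hc
  obtain ⟨E₁, f₁, -, hE₁, hc₁, hk1⟩ := exists_cover (m := m) hk₁ hF₁ hd₁ g₁ hg₁ hker₁ (M := ⊤)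
    (fun h _ => ⟨h, mem_top h, 1, one_mem R, (mul_one h).symm⟩) h1
  obtain ⟨E₂, f₂, -, hE₂, hc₂, hk2⟩ := exists_cover (m := m) hk₂ hF₂ hd₂ g₂ hg₂ hker₂ (M := ⊤)
    (fun h _ => ⟨h, mem_top h, 1, one_mem R, (mul_one h).symm⟩) h2
  have hker : ∀ {F : Type} [Field F] [Fintype F] {k : ℕ} {E : Subgroup G} (f : E →* Cfsg.Sz F k),
      (∀ e : E, f e = 1 ↔ (e : G) ∈ R) → (q.comp E.subtype).ker ≤ f.ker := fun f hf e he =>
    MonoidHom.mem_ker.2 ((hf e).2 (hMlt.le (hqk.le he)))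
  obtain ⟨f₁', hc₁', he₁⟩ := hc₁.image (q.comp E₁.subtype) (hker f₁ hk1)
  obtain ⟨f₂', hc₂', he₂⟩ := hc₂.image (q.comp E₂.subtype) (hker f₂ hk2)
  refine two_abelian hfix hm (hG.of_surjective q hqs) hl hexp hRq hc₁' hc₂' ?_ ?_ ?_
  · intro e h
    obtain ⟨x, rfl⟩ := (q.comp E₁.subtype).rangeRestrict_surjective e
    rw [he₁] at h
    exact mem_map_of_mem q ((hk1 x).1 h)
  · intro e h
    obtain ⟨x, rfl⟩ := (q.comp E₂.subtype).rangeRestrict_surjective e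
    rw [he₂] at h
    exact mem_map_of_mem q ((hk2 x).1 h)
  · rintro _ ⟨a, rfl⟩ _ ⟨b, rfl⟩
    refine ⟨(a : G) * b * (a : G)⁻¹ * (b : G)⁻¹, hcomm a (hE₁ a.2) b (hE₂ b.2), ?_⟩
    simp

end CfsgLib.SzSq
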