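import Cfsg.Agent.Lib.SzSq.Solvable
import Cfsg.Agent.Lib.SzSq.Two
import Cfsg.Agent.Lib.SzSq.Outer
import Cfsg.Agent.Lib.SzSq.ClDvd

/-!
Owner: helper19. Recognition of the square of a Suzuki group by its element orders.
-/

set_option autoImplicit false
set_option linter.unusedSectionVars false

namespace CfsgLib.SzSq

open Subgroup CfsgLib.Lie.Suzuki CfsgLib.Components
open scoped Pointwise

universe u v

theorem solRadical_quotient {G : Type u} [Group G] [Finite G] [(solRadical G).Normal] :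
    solRadical (G ⧸ solRadical G) = ⊥ := by
  obtain ⟨q, hq⟩ : ∃ q : G →* G ⧸ solRadical G, q = QuotientGroup.mk' _ := ⟨_, rfl⟩
  have hqs : Function.Surjective q := hq ▸ QuotientGroup.mk'_surjective _
  have hqk : q.ker = solRadical G := by rw [hq, QuotientGroup.ker_mk']
  obtain ⟨N, hN⟩ : ∃ N : Subgroup G, N = (solRadical (G ⧸ solRadical G)).comap q := ⟨_, rfl⟩
  haveI := solRadical_isSolvable (G := G ⧸ solRadical G)
  haveI := solRadical_normal (G := G ⧸ solRadical G)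
  have hle : N ≤ solRadical G := by
    refine le_solRadical (hN ▸ inferInstance) ?_
    obtain ⟨φ, hφ⟩ : ∃ φ : N →* solRadical (G ⧸ solRadical G), ∀ x, (φ x : G ⧸ solRadical G) = q x :=
      ⟨(q.comp N.subtype).codRestrict _ fun x => (hN.le x.2 :), fun x => rfl⟩
    haveI : Group.IsSolvable φ.ker := by
      haveI := solRadical_isSolvable (G := G)
      refine Group.isSolvable_of_isSolvable_injective (f := (N.subtype.comp φ.ker.subtype).codRestrict (solRadical G)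
        fun x => hqk.le (MonoidHom.mem_ker.2 ?_)) fun a b h => Subtype.ext (Subtype.ext (Subtype.ext_iff.1 h :))
      have := congrArg Subtype.val (MonoidHom.mem_ker.1 x.2)
      rw [hφ] at this
      exact this
    exact Group.isSolvable_of_ker_le_range φ.ker.subtype φ (by rw [range_subtype])
  rw [← map_comap_eq_self_of_surjective hqs (solRadical (G ⧸ solRadical G)), ← hN]
  exact (Subgroup.map_eq_bot_iff _).2 (hle.trans hqk.ge)

theorem lt_cl {m : ℕ} (hm : 1 ≤ m) (i : Fin 4) : ¬ cl m i ∣ 2 * m + 1 := fun h => by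
  have h1 : 2 * m + 3 < 2 ^ (m + 2) := by
    have : m + 1 < 2 ^ (m + 1) := Nat.lt_two_pow_self
    rw [pow_succ]
    omega
  have h2 : 2 ^ (m + 2) ≤ 2 ^ (2 * m + 1) := Nat.pow_le_pow_right two_pos (by omega)
  have h3 : 2 * 2 ^ (m + 1) = 2 ^ (m + 2) := by ring
  have h4 := Nat.le_of_dvd (by omega) h
  fin_cases i
  · have h' : 4 ∣ 2 * m + 1 := h
    omega
  · simp [cl] at h4; omega
  · simp [cl] at h4; omega
  · simp [cl] at h4
    have h5 : 2 ^ (m + 1) * 2 ^ m = 2 ^ (2 * m + 1) := by rw [← pow_add]; congr 1; ring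
    have h6 : 2 ≤ 2 ^ m := Nat.le_self_pow (by omega) 2
    rcases Nat.lt_or_ge m 2 with hm2 | hm2
    · obtain rfl : m = 1 := by omega
      norm_num [cl] at h
    · have h7 : 4 ≤ 2 ^ m := le_trans (by norm_num) (Nat.pow_le_pow_right two_pos hm2)
      have h8 : 2 ^ (m + 1) * 4 ≤ 2 ^ (2 * m + 1) := h5 ▸ Nat.mul_le_mul_left _ h7
      omega

variable {G : Type u} [Group G] [Finite G] {m : ℕ}

/-- The prescribed element orders keep the group from being solvable. -/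
theorem not_solvable (hm : 1 ≤ m) (hG : Good m G)
    (hfull : ∀ i j : Fin 4, i ≠ j → ∃ g : G, orderOf g = cl m i * cl m j) : ¬ Group.IsSolvable G := by
  intro hs
  classical
  haveI := hs
  choose rep hrep using fun i : Fin 4 => Nat.exists_prime_and_dvd (one_lt_cl hm i).ne'
  have hinj : Function.Injective rep := fun i j h => class_unique hm (hrep i).1 (hrep i).2 (h ▸ (hrep j).2)
  refine solvable_four (G := G) (Finset.univ.image rep) ?_ ?_ ?_ ?_ ?_ ?_
  · rw [Finset.card_image_of_injective _ hinj]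
    rfl
  · simp only [Finset.mem_image, Finset.mem_univ, true_and, forall_exists_index, forall_apply_eq_imp_iff]
    exact fun i => (hrep i).1
  · simp only [Finset.mem_image, Finset.mem_univ, true_and]
    rintro g _ ⟨i, rfl⟩ _ ⟨j, rfl⟩ _ ⟨k, rfl⟩ hij hik hjk hd
    exact hG.triple hm (fun e => hij (congrArg rep e)) (fun e => hik (congrArg rep e)) (fun e => hjk (congrArg rep e))
      (hrep i).1 (hrep j).1 (hrep k).1 (hrep i).2 (hrep j).2 (hrep k).2
      ((dvd_mul_of_dvd_left (dvd_mul_right _ _) _).trans hd) ((dvd_mul_of_dvd_left (dvd_mul_left _ _) _).trans hd)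
      ((dvd_mul_left _ _).trans hd)
  · simp only [Finset.mem_image, Finset.mem_univ, true_and, forall_exists_index, forall_apply_eq_imp_iff]
    intro i
    rcases eq_or_ne i 0 with rfl | hi
    · exact Or.inl (class_zero (hrep 0).1 (hrep 0).2)
    · refine Or.inr ?_
      have h2 := (hrep i).1.two_le
      have hne2 : rep i ≠ 2 := fun e => hi (class_two hm (e ▸ (hrep i).2))
      have hne3 : rep i ≠ 3 := fun e => not_three_dvd_cl hm i (e ▸ (hrep i).2)
      have hne4 : rep i ≠ 4 := fun e => by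
        have := (hrep i).1
        rw [e] at this
        exact absurd this (by decide)
      omega
  · rintro g ⟨k, hk⟩
    obtain ⟨a, -, ha⟩ := (Nat.dvd_prime_pow Nat.prime_two).1 (orderOf_dvd_of_pow_eq_one hk)
    exact hG.pow_four hm ha
  · simp only [Finset.mem_image, Finset.mem_univ, true_and]
    rintro _ ⟨i, rfl⟩ _ ⟨j, rfl⟩ hij
    obtain ⟨g, hg⟩ := hfull i j fun e => hij (congrArg rep e)
    exact ⟨g, hg ▸ Nat.mul_dvd_mul (hrep i).2 (hrep j).2⟩

theorem three_of_pairs (P : Fin 4 → Prop) (h : ∀ i j, i ≠ j → P i ∨ P j) :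
    ∃ a b c : Fin 4, a ≠ b ∧ a ≠ c ∧ b ≠ c ∧ P a ∧ P b ∧ P c := by
  by_cases hall : ∃ u, ¬ P u
  · obtain ⟨u, hu⟩ := hall
    obtain ⟨a, b, c, h1, h2, h3, ha, hb, hc⟩ : ∃ a b c : Fin 4, a ≠ b ∧ a ≠ c ∧ b ≠ c ∧ u ≠ a ∧ u ≠ b ∧ u ≠ c := by
      have key : ∀ u : Fin 4, ∃ a b c : Fin 4, a ≠ b ∧ a ≠ c ∧ b ≠ c ∧ u ≠ a ∧ u ≠ b ∧ u ≠ c := by decide
      exact key u
    exact ⟨a, b, c, h1, h2, h3, (h u a ha).resolve_left hu, (h u b hb).resolve_left hu, (h u c hc).resolve_left hu⟩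
  · push Not at hall
    exact ⟨0, 1, 2, by decide, by decide, by decide, hall 0, hall 1, hall 2⟩

/-- The recognition theorem in terms of the element orders. -/
theorem main (hfix : FixFacts.{u}) (h3p : ThreePrimeUse.ThreePrimeSimple.{u}) (hm : 1 ≤ m) (hm2 : m ≠ 2)
    (hG : Good m G) (hfull : ∀ i j : Fin 4, i ≠ j → ∃ g : G, orderOf g = cl m i * cl m j)
    {F : Type v} [Field F] [Fintype F] (hF : Fintype.card F = 2 ^ (2 * m + 1)) :
    Nonempty (G ≃* Cfsg.Sz F m × Cfsg.Sz F m) := by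
  classical
  haveI hRn := solRadical_normal (G := G)
  haveI hRs := solRadical_isSolvable (G := G)
  obtain ⟨q, hq⟩ : ∃ q : G →* G ⧸ solRadical G, q = QuotientGroup.mk' _ := ⟨_, rfl⟩
  have hqs : Function.Surjective q := hq ▸ QuotientGroup.mk'_surjective _
  have hqk : q.ker = solRadical G := by rw [hq, QuotientGroup.ker_mk']
  have hQ : solRadical (G ⧸ solRadical G) = ⊥ := solRadical_quotient
  have hGQ : Good m (G ⧸ solRadical G) := hG.quotient _
  rcases subsingleton_or_nontrivial (G ⧸ solRadical G) with h | h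
  · exfalso
    refine not_solvable hm hG hfull ?_
    exact Group.isSolvable_of_ker_le_range (solRadical G).subtype q (by rw [range_subtype, hqk])
  obtain ⟨K, hK⟩ := exists_component hQ
  haveI hKn := component_normal h3p hm hQ hGQ hK
  obtain ⟨F₁, i₁, j₁, k₁, hk₁, hF₁, hd₁, ⟨e₁⟩⟩ := component_sz h3p hm hQ hGQ hK
  have data : ∀ (K : Subgroup (G ⧸ solRadical G)) {F' : Type} [Field F'] [Fintype F'] {k : ℕ}
      (e : K ≃* Cfsg.Sz F' k), ∃ g : (K.comap q) →* Cfsg.Sz F' k, Function.Surjective g ∧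
        (∀ h, g h = 1 ↔ (h : G) ∈ solRadical G) ∧ ∀ h, ((e.symm (g h) : K) : G ⧸ solRadical G) = q h := by
    intro K F' _ _ k e
    obtain ⟨g, hg⟩ : ∃ g : (K.comap q) →* Cfsg.Sz F' k, g = e.toMonoidHom.comp (q.subgroupComap K) := ⟨_, rfl⟩
    refine ⟨g, ?_, fun h => ?_, fun h => ?_⟩
    · rw [hg]
      exact e.surjective.comp (MonoidHom.subgroupComap_surjective_of_surjective q K hqs)
    · rw [hg]
      show e _ = 1 ↔ _
      rw [e.map_eq_one_iff]
      exact Subtype.ext_iff.trans (MonoidHom.mem_ker.symm.trans (SetLike.ext_iff.1 hqk _))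
    · rw [hg]
      show ((e.symm (e _) : K) : G ⧸ solRadical G) = _
      rw [e.symm_apply_apply]
      rfl
  obtain ⟨g₁, hg₁, hker₁, hval₁⟩ := data K e₁
  have hle : ∀ K : Subgroup (G ⧸ solRadical G), solRadical G ≤ K.comap q := fun K =>
    hqk.ge.trans (MonoidHom.ker_le_comap q K)
  by_cases htwo : ∃ L, Cfsg.IsComponent L ∧ K ≠ L
  · obtain ⟨L, hL, hne⟩ := htwo
    obtain ⟨F₂, i₂, j₂, k₂, hk₂, hF₂, hd₂, ⟨e₂⟩⟩ := component_sz h3p hm hQ hGQ hL
    obtain ⟨g₂, hg₂, hker₂, -⟩ := data L e₂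
    have hR : solRadical G = ⊥ := two_radical hfix hm hG (R := solRadical G) hRs (hle K) (hle L) hk₁ hF₁ hd₁
      hk₂ hF₂ hd₂ g₁ g₂ hg₁ hg₂ hker₁ hker₂ fun a ha b hb => by
        rw [← hqk, MonoidHom.mem_ker, map_mul, map_mul, map_mul, map_inv, map_inv, ← commutatorElement_def,
          commutatorElement_eq_one_iff_commute]
        exact commute_of_ne hK hL hne ha hb
    have hqi : Function.Bijective q := ⟨(MonoidHom.ker_eq_bot_iff q).1 (hqk.trans hR), hqs⟩
    obtain ⟨w⟩ := two_main h3p hm hm2 hQ hGQ (fun i j hij => by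
      obtain ⟨g, hg⟩ := hfull i j hij
      exact ⟨q g, (orderOf_injective q hqi.1 g).trans hg⟩) hK hL hne hF
    exact ⟨(MulEquiv.ofBijective q hqi).trans w⟩
  exfalso
  push Not at htwo
  haveI : CharP F₁ 2 := charTwo_of_card hF₁
  obtain ⟨Φ, hΦ⟩ := exists_action e₁
  haveI : Finite (Cfsg.Sz F₁ k₁) := Subtype.finite
  have hpow : ∀ g : G, g ^ (2 * m + 1) ∈ K.comap q := by
    intro g
    obtain ⟨s, hs⟩ := inner_pow hF₁ hk₁ (Φ (q g)) hd₁
    rw [mem_comap, map_pow]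
    obtain ⟨a, ha⟩ : ∃ a, a = ((e₁.symm s : K) : G ⧸ solRadical G) := ⟨_, rfl⟩
    have h1 : a⁻¹ * q g ^ (2 * m + 1) = 1 := by
      rw [← mem_bot, ← centralizer_layer hQ, mem_centralizer_iff]
      intro x hx
      have hxK : Cfsg.layer (G ⧸ solRadical G) ≤ K := layer_le_iff.2 fun M hM => (htwo M hM).ge
      have h := hΦ (q g ^ (2 * m + 1)) ⟨x, hxK hx⟩
      rw [map_pow, hs, MulAut.conj_apply, map_mul, map_mul, map_inv, e₁.symm_apply_apply, Subgroup.coe_mul,
        Subgroup.coe_mul, Subgroup.coe_inv, ← ha] at h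
      refine (mul_inv_eq_iff_eq_mul.1 (show a⁻¹ * q g ^ (2 * m + 1) * x * (a⁻¹ * q g ^ (2 * m + 1))⁻¹ = x from ?_)).symm
      rw [show a⁻¹ * q g ^ (2 * m + 1) * x * (a⁻¹ * q g ^ (2 * m + 1))⁻¹ =
        a⁻¹ * (q g ^ (2 * m + 1) * x * (q g ^ (2 * m + 1))⁻¹) * a by group, ← h]
      group
    rw [← inv_mul_eq_one.1 h1, ha]
    exact SetLike.coe_mem _
  obtain ⟨R', hR'⟩ : ∃ R' : Subgroup (K.comap q), R' = g₁.ker := ⟨_, rfl⟩
  have hsol : Group.IsSolvable g₁.ker := by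
    refine Group.isSolvable_of_isSolvable_injective (f := ((K.comap q).subtype.comp g₁.ker.subtype).codRestrict
      (solRadical G) fun x => (hker₁ _).1 x.2) fun a b h => Subtype.ext (Subtype.ext (Subtype.ext_iff.1 h :))
  refine radical_false hfix hm hk₁ hF₁ hd₁ _ (K.comap q) rfl (hG.subgroup _) g₁ hg₁ hsol ?_
  refine three_of_pairs _ fun i j hij => ?_
  obtain ⟨g, hg⟩ := hfull i j hij
  obtain ⟨h, hh⟩ : ∃ h : K.comap q, (h : G) = g ^ (2 * m + 1) := ⟨⟨_, hpow g⟩, rfl⟩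
  obtain ⟨i₀, hi₀⟩ := sz_order hF₁ hk₁ (g₁ h)
  obtain ⟨j₀, hj₀⟩ := cl_dvd hd₁ i₀
  have hord : orderOf h = cl m i / Nat.gcd (cl m i) (2 * m + 1) * (cl m j / Nat.gcd (cl m j) (2 * m + 1)) := by
    rw [← Subgroup.orderOf_coe, hh, orderOf_pow g, hg, (cl_coprime hm hij).mul_gcd,
      Nat.mul_div_mul_comm (Nat.gcd_dvd_left _ _) (Nat.gcd_dvd_left _ _)]
  have part : ∀ i : Fin 4, ∃ p, p.Prime ∧ p ∣ cl m i / Nat.gcd (cl m i) (2 * m + 1) ∧ p ∣ cl m i := by
    intro i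
    have hne : cl m i / Nat.gcd (cl m i) (2 * m + 1) ≠ 1 := fun e => lt_cl hm i (by
      have h' := Nat.div_mul_cancel (Nat.gcd_dvd_left (cl m i) (2 * m + 1))
      rw [e, one_mul] at h'
      exact h' ▸ Nat.gcd_dvd_right (cl m i) (2 * m + 1))
    obtain ⟨p, hp, hpd⟩ := Nat.exists_prime_and_dvd hne
    exact ⟨p, hp, hpd, hpd.trans (Nat.div_dvd_of_dvd (Nat.gcd_dvd_left _ _))⟩
  have meet : ∀ (p : ℕ) (c : Fin 4), p.Prime → p ∣ cl m c → c ≠ j₀ → p ∣ orderOf h → Meets m g₁.ker c := by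
    intro p c hp hpc hne hpd
    refine ⟨p, hp, hpc, ?_⟩
    have hmem : h ^ orderOf (g₁ h) ∈ g₁.ker := by rw [MonoidHom.mem_ker, map_pow, pow_orderOf_eq_one]
    refine Dvd.dvd.trans ?_ (Subgroup.orderOf_dvd_natCard _ hmem)
    rw [orderOf_pow h]
    have hnd : ¬ p ∣ orderOf (g₁ h) := fun hd => hne (class_unique hm hp hpc ((hd.trans hi₀).trans hj₀))
    refine ((Nat.Coprime.coprime_dvd_right (Nat.gcd_dvd_right (orderOf h) _) (hp.coprime_iff_not_dvd.2 hnd))).dvd_of_dvd_mul_right ?_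
    rwa [Nat.div_mul_cancel (Nat.gcd_dvd_left _ _)]
  obtain ⟨p, hp, hpd, hpc⟩ := part i
  obtain ⟨r, hr, hrd, hrc⟩ := part j
  rcases eq_or_ne i j₀ with e | e
  · exact Or.inr (meet r j hr hrc (fun e' => hij (e.trans e'.symm)) (hord ▸ dvd_mul_of_dvd_right hrd _))
  · exact Or.inl (meet p i hp hpc e (hord ▸ dvd_mul_of_dvd_left hpd _))

/-- An element of each torus order over any field. -/
theorem exists_sz_order_any {F : Type v} [Field F] [Fintype F] (hm : 1 ≤ m)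
    (hF : Fintype.card F = 2 ^ (2 * m + 1)) (i : Fin 4) : ∃ g : Cfsg.Sz F m, orderOf g = cl m i := by
  haveI := charTwo_of_card hF
  haveI : Fintype (GaloisField 2 (2 * m + 1)) := Fintype.ofFinite _
  have hF' : Fintype.card (GaloisField 2 (2 * m + 1)) = 2 ^ (2 * m + 1) := by
    rw [← Nat.card_eq_fintype_card, GaloisField.card 2 _ (by omega)]
  haveI := charTwo_of_card hF'
  obtain ⟨g, hg⟩ := exists_sz_order hF' hm i
  refine ⟨subHom hm hF hF' dvd_rfl (FiniteField.ringEquivOfCardEq (hF'.trans hF.symm)).toRingHom g, ?_⟩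
  rw [orderOf_injective _ (subHom_injective _ _ _ _ _) g, hg]

/-- The square of a Suzuki group is determined by its set of element orders. -/
theorem spectrum (hfix : FixFacts.{u}) (h3p : ThreePrimeUse.ThreePrimeSimple.{u}) (hm : 1 ≤ m) (hm2 : m ≠ 2)
    {F : Type v} [Field F] [Fintype F] (hF : Fintype.card F = 2 ^ (2 * m + 1))
    (h : Set.range (orderOf : G → ℕ) =
      Set.range (orderOf : ↥(Cfsg.Lie.Sz F (2 ^ (m + 1))) × ↥(Cfsg.Lie.Sz F (2 ^ (m + 1))) → ℕ)) :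
    Nonempty (G ≃* ↥(Cfsg.Lie.Sz F (2 ^ (m + 1))) × ↥(Cfsg.Lie.Sz F (2 ^ (m + 1)))) := by
  haveI := charTwo_of_card hF
  obtain ⟨φ, -⟩ : ∃ φ : Cfsg.Sz F m ≃* ↥(Cfsg.Lie.Sz F (2 ^ (m + 1))), φ = equivLie hm hF := ⟨_, rfl⟩
  have hG : Good m G := fun g => by
    obtain ⟨⟨x, y⟩, hxy⟩ := (Set.ext_iff.1 h (orderOf g)).1 ⟨g, rfl⟩
    obtain ⟨i, hi⟩ := sz_order hF hm (φ.symm x)
    obtain ⟨j, hj⟩ := sz_order hF hm (φ.symm y)
    rw [MulEquiv.orderOf_eq] at hi hj
    exact ⟨i, j, hxy ▸ (Prod.orderOf (x, y)).symm ▸ Nat.lcm_dvd (hi.trans (Nat.dvd_lcm_left _ _))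
      (hj.trans (Nat.dvd_lcm_right _ _))⟩
  have hfull : ∀ i j : Fin 4, i ≠ j → ∃ g : G, orderOf g = cl m i * cl m j := fun i j hij => by
    obtain ⟨a, ha⟩ := exists_sz_order_any hm hF i
    obtain ⟨b, hb⟩ := exists_sz_order_any hm hF j
    refine (Set.ext_iff.1 h _).2 ⟨(φ a, φ b), ?_⟩
    rw [Prod.orderOf, MulEquiv.orderOf_eq, MulEquiv.orderOf_eq, ha, hb, (cl_coprime hm hij).lcm_eq_mul]
  obtain ⟨e⟩ := main hfix h3p hm hm2 hG hfull hF
  exact ⟨e.trans (φ.prodCongr φ)⟩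

end CfsgLib.SzSq
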