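import Cfsg.Agent.Lib.Recog.ThreePrimes
import Cfsg.Agent.Lib.Core.HallHigman
import Cfsg.Agent.Lib.LocalEven.Generation
import Cfsg.Agent.Lib.Core.UniqueOrderP
import Cfsg.Agent.Lib.Core.Cores

/-!
Owner: helper19. Groups without elements of order divisible by three primes: tools.
-/

set_option autoImplicit false
set_option linter.unusedSectionVars false

namespace CfsgLib.SzSq

open Subgroup
open scoped commutatorElement

universe u

variable {G : Type u} [Group G] [Finite G]

/-- No element order is divisible by three different primes. -/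
def TripleFree (G : Type*) [Group G] : Prop :=
  ∀ (g : G) (p q r : ℕ), p.Prime → q.Prime → r.Prime → p ≠ q → p ≠ r → q ≠ r → ¬ p * q * r ∣ orderOf g

theorem TripleFree.subgroup (h : TripleFree G) (H : Subgroup G) : TripleFree H := fun g p q r hp hq hr a b c => by
  rw [← Subgroup.orderOf_coe]
  exact h g p q r hp hq hr a b c

theorem TripleFree.quotient (h : TripleFree G) (N : Subgroup G) [N.Normal] : TripleFree (G ⧸ N) :=
  fun g p q r hp hq hr a b c hd => by
    obtain ⟨x, rfl⟩ := QuotientGroup.mk'_surjective N g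
    exact h x p q r hp hq hr a b c (hd.trans (orderOf_map_dvd (QuotientGroup.mk' N) x))

/-- An element of prime order among the powers. -/
theorem exists_pow_orderOf {g : G} {p : ℕ} (hp : p.Prime) (h : p ∣ orderOf g) : ∃ i : ℕ, orderOf (g ^ i) = p := by
  refine ⟨orderOf g / p, ?_⟩
  rw [orderOf_pow' _ (Nat.div_pos (Nat.le_of_dvd (orderOf_pos g) h) hp.pos).ne',
    Nat.gcd_eq_right (Nat.div_dvd_of_dvd h), Nat.div_div_self h (orderOf_pos g).ne']

/-- Three commuting elements of different prime orders. -/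
theorem TripleFree.false3 (h : TripleFree G) {p q r : ℕ} (hp : p.Prime) (hq : q.Prime) (hr : r.Prime)
    (hpq : p ≠ q) (hpr : p ≠ r) (hqr : q ≠ r) {x y z : G} (hx : p ∣ orderOf x) (hy : q ∣ orderOf y)
    (hz : r ∣ orderOf z) (hxy : Commute x y) (hxz : Commute x z) (hyz : Commute y z) : False := by
  obtain ⟨i, hi⟩ := exists_pow_orderOf hp hx
  obtain ⟨j, hj⟩ := exists_pow_orderOf hq hy
  obtain ⟨k, hk⟩ := exists_pow_orderOf hr hz
  have e1 : orderOf (x ^ i * y ^ j) = p * q :=
    CfsgLib.Recog.ThreePrimes.orderOf_mul_of_commute (hxy.pow_pow i j) hp hq hpq hi hj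
  refine h (x ^ i * y ^ j * z ^ k) p q r hp hq hr hpq hpr hqr (dvd_of_eq ?_)
  rw [((hxz.pow_pow i k).mul_left (hyz.pow_pow j k)).orderOf_mul_eq_mul_orderOf_of_coprime, e1, hk]
  rw [e1, hk]
  exact Nat.Coprime.mul_left ((Nat.coprime_primes hp hr).2 hpr) ((Nat.coprime_primes hq hr).2 hqr)

/-- `H` contains an elementary abelian group of order `p ^ 2`. -/
def HasRank (p : ℕ) (H : Subgroup G) : Prop :=
  ∃ E : Subgroup G, E ≤ H ∧ IsMulCommutative E ∧ (∀ e ∈ E, e ^ p = 1) ∧ p ^ 2 ≤ Nat.card E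

theorem HasRank.mono {p : ℕ} {H K : Subgroup G} (h : HasRank p H) (hle : H ≤ K) : HasRank p K :=
  let ⟨E, h1, h2⟩ := h
  ⟨E, h1.trans hle, h2⟩

theorem hasRank_of_pair {p : ℕ} (hp : p.Prime) {H : Subgroup G} {x y : G} (hx : x ∈ H) (hy : y ∈ H)
    (hxo : orderOf x = p) (hyo : orderOf y = p) (hc : Commute x y) (hne : y ∉ zpowers x) : HasRank p H := by
  haveI := Fact.mk hp
  have hcm : ∀ a ∈ ({x, y} : Set G), ∀ b ∈ ({x, y} : Set G), a * b = b * a := by
    rintro a (rfl | rfl) b (rfl | rfl) <;> first | rfl | exact hc.eq | exact hc.symm.eq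
  haveI : IsMulCommutative (closure ({x, y} : Set G)) := isMulCommutative_closure hcm
  have hexp : ∀ e ∈ closure ({x, y} : Set G), e ^ p = 1 := fun e he => by
    induction he using closure_induction with
    | mem z hz => rcases hz with rfl | rfl; exacts [hxo ▸ pow_orderOf_eq_one z, hyo ▸ pow_orderOf_eq_one z]
    | one => exact one_pow p
    | mul a b ha hb iha ihb =>
      have hab : Commute a b := congrArg Subtype.val
        (mul_comm' (⟨a, ha⟩ : closure ({x, y} : Set G)) ⟨b, hb⟩)
      rw [hab.mul_pow, iha, ihb, one_mul]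
    | inv a _ iha => rw [inv_pow, iha, inv_one]
  refine ⟨closure {x, y}, (closure_le H).2 ?_, inferInstance, hexp, ?_⟩
  · rintro z (rfl | rfl)
    exacts [hx, hy]
  obtain ⟨n, hn⟩ := IsPGroup.iff_card.1
    (fun e => ⟨1, Subtype.ext (by simpa using hexp _ e.2)⟩ : IsPGroup p (closure ({x, y} : Set G)))
  rw [hn]
  refine Nat.pow_le_pow_right hp.pos ?_
  by_contra hn2
  have hle : zpowers x ≤ closure {x, y} := zpowers_le.2 (subset_closure (Or.inl rfl))
  refine hne ?_
  rw [eq_of_le_of_card_ge hle (by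
    rw [hn, Nat.card_zpowers, hxo]
    exact (Nat.pow_le_pow_right hp.pos (show n ≤ 1 by omega)).trans (pow_one p).le)]
  exact subset_closure (Or.inr rfl)

theorem HasRank.isPGroup {p : ℕ} {H : Subgroup G} (h : HasRank p H) :
    ∃ E : Subgroup G, E ≤ H ∧ IsMulCommutative E ∧ (∀ e ∈ E, e ^ p = 1) ∧ p ^ 2 ≤ Nat.card E ∧ IsPGroup p E := by
  obtain ⟨E, h1, h2, h3, h4⟩ := h
  exact ⟨E, h1, h2, h3, h4, fun e => ⟨1, Subtype.ext (by simpa using h3 _ e.2)⟩⟩

/-- A group of rank two has nontrivial fixed points. -/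
theorem exists_fixed_of_rank {p : ℕ} (hp : p.Prime) {E V : Subgroup G} (hE : IsMulCommutative E)
    (hexp : ∀ e ∈ E, e ^ p = 1) (hc : p ^ 2 ≤ Nat.card E) (hEV : E ≤ normalizer (V : Set G))
    (hpV : ¬ p ∣ Nat.card V) (hV : V ≠ ⊥) :
    ∃ e ∈ E, orderOf e = p ∧ ∃ v ∈ V, v ≠ 1 ∧ Commute e v := by
  haveI := Fact.mk hp
  by_contra h
  push Not at h
  refine hV (le_bot_iff.1 (CfsgLib.LocalEven.le_of_centralizers_le hexp hc hEV hpV
    fun e he he1 v hv => Subgroup.mem_bot.2 ?_))
  by_contra hv1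
  exact h e he (orderOf_eq_prime (hexp e he) he1) v hv.1 hv1 (mem_centralizer_singleton_iff.1 hv.2).symm

section Action

variable {V : Subgroup G}

/-- The action of a normalising element. -/
theorem normalizerMonoidHom_val (g : normalizer (V : Set G)) (v : V) :
    (V.normalizerMonoidHom g v : G) = g * v * (g : G)⁻¹ := rfl

open scoped IsMulCommutative in
/-- An element acting fixed point freely on an abelian group with all its nontrivial powers has fixed points
wherever the group acts nontrivially. -/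
theorem fixed_of_frobenius [IsMulCommutative V] {A : Subgroup G} [IsMulCommutative A] {y : G}
    (hyV : y ∈ normalizer (V : Set G)) (hAV : A ≤ normalizer (V : Set G))
    (hyA : ∀ a ∈ A, y * a * y⁻¹ ∈ A)
    (hfpf : ∀ i : ℕ, ¬ orderOf y ∣ i → ∀ a ∈ A, Commute (y ^ i) a → a = 1)
    (hcop : (Nat.card A).Coprime (Nat.card V)) (hnt : ∃ a ∈ A, ∃ v ∈ V, ¬ Commute a v) :
    ∃ v ∈ V, v ≠ 1 ∧ Commute y v := by
  classical
  by_contra hcon
  push Not at hcon
  obtain ⟨a0, ha0, v0, hv0, hne⟩ := hnt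
  apply hne
  haveI : Fintype A := Fintype.ofFinite A
  obtain ⟨ψ, hψ⟩ : ∃ ψ : normalizer (V : Set G) →* MulAut V, ψ = V.normalizerMonoidHom := ⟨_, rfl⟩
  obtain ⟨y', hy'⟩ : ∃ y' : normalizer (V : Set G), (y' : G) = y := ⟨⟨y, hyV⟩, rfl⟩
  let ι : A →* normalizer (V : Set G) := Subgroup.inclusion hAV
  have hyi : ∀ (i : ℕ) (a : A), y ^ i * (a : G) * (y ^ i)⁻¹ ∈ A := fun i a => by
    induction i with
    | zero => simpa using a.2
    | succ i ih =>
      have := hyA _ ih
      rwa [show y ^ (i + 1) * (a : G) * (y ^ (i + 1))⁻¹ = y * (y ^ i * a * (y ^ i)⁻¹) * y⁻¹ by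
        rw [pow_succ']; group]
  set n := orderOf y with hn
  have hn0 : 0 < n := orderOf_pos y
  have hyn : y' ^ n = 1 := Subtype.ext (by rw [coe_pow, hy', hn, pow_orderOf_eq_one]; rfl)
  -- fixed elements of a conjugate of `y`
  have hfix : ∀ (a : A) (w : V), ψ (ι a * y' * (ι a)⁻¹) w = w → w = 1 := fun a w hw => by
    obtain ⟨w', hw'⟩ : ∃ w', w' = ψ (ι a)⁻¹ w := ⟨_, rfl⟩
    have h1 : ψ y' w' = w' := by
      rw [map_mul, map_mul, MulAut.mul_apply, MulAut.mul_apply, ← hw'] at hw
      have h := congrArg (ψ (ι a)⁻¹) hw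
      rw [← MulAut.mul_apply, ← map_mul, inv_mul_cancel, map_one, MulAut.one_apply, ← hw'] at h
      exact h
    have h1' : Commute y (w' : G) := by
      have h := congrArg Subtype.val h1
      rw [hψ, normalizerMonoidHom_val, hy', mul_inv_eq_iff_eq_mul] at h
      exact h
    have h2 : w' = 1 := by
      by_contra hne'
      exact hcon _ w'.2 (fun e => hne' (Subtype.ext e)) h1'
    rw [h2] at hw'
    have h := congrArg (ψ (ι a)) hw'.symm
    rwa [← MulAut.mul_apply, ← map_mul, mul_inv_cancel, map_one, MulAut.one_apply, map_one] at h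
  have horb : ∀ (a : A) (w : V), ∏ i ∈ Finset.range n, ψ ((ι a * y' * (ι a)⁻¹) ^ i) w = 1 := fun a w =>
    CfsgLib.Recog.ThreePrimes.prod_orbit_eq_one ψ (by rw [conj_pow, hyn, mul_one, mul_inv_cancel])
      (hfix a) w
  -- the norm over the abelian group
  let N : V → V := fun w => ∏ a : A, ψ (ι a) w
  have hinner : ∀ i : ℕ, ¬ n ∣ i → ∀ w : V, ∏ a : A, ψ ((ι a * y' * (ι a)⁻¹) ^ i) w = N (ψ (y' ^ i) w) := by
    intro i hi w
    let f : A → A := fun a => a * ⟨y ^ i * ((a⁻¹ : A) : G) * (y ^ i)⁻¹, hyi i a⁻¹⟩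
    have hf : Function.Injective f := fun a b e => by
      have h : (a : G) * (y ^ i * (a : G)⁻¹ * (y ^ i)⁻¹) = b * (y ^ i * (b : G)⁻¹ * (y ^ i)⁻¹) :=
        congrArg Subtype.val e
      suffices h0 : (b⁻¹ * a : A) = 1 from (inv_mul_eq_one.1 h0).symm
      refine Subtype.ext (hfpf i hi _ ((b⁻¹ * a : A)).2 ?_)
      show y ^ i * ((b : G)⁻¹ * a) = (b : G)⁻¹ * a * y ^ i
      calc y ^ i * ((b : G)⁻¹ * a)
          = (b : G)⁻¹ * (b * (y ^ i * (b : G)⁻¹ * (y ^ i)⁻¹)) * y ^ i * a := by group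
        _ = (b : G)⁻¹ * (a * (y ^ i * (a : G)⁻¹ * (y ^ i)⁻¹)) * y ^ i * a := by rw [h]
        _ = _ := by group
    refine Fintype.prod_bijective f ⟨hf, Finite.surjective_of_injective hf⟩ _ _ fun a => ?_
    rw [← MulAut.mul_apply, ← map_mul]
    congr 2
    refine Subtype.ext ?_
    simp only [coe_mul, coe_pow, coe_inv, conj_pow, hy', f, ι, Subgroup.coe_inclusion]
    group
  have key : ∀ w : V, w ^ Fintype.card A = N w := fun w => by
    have h1 : ∏ i ∈ Finset.range n, ∏ a : A, ψ ((ι a * y' * (ι a)⁻¹) ^ i) w = 1 := by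
      rw [Finset.prod_comm]
      exact Finset.prod_eq_one fun a _ => horb a w
    obtain ⟨k, hk⟩ : ∃ k, n = k + 1 := ⟨n - 1, by omega⟩
    rw [hk, Finset.prod_range_succ'] at h1
    simp only [pow_zero, map_one, MulAut.one_apply, Finset.prod_const, Finset.card_univ] at h1
    have h2 : ∏ i ∈ Finset.range n, N (ψ (y' ^ i) w) = 1 := by
      have e := horb 1 w
      simp only [map_one, one_mul, inv_one, mul_one] at e
      simp only [N]
      rw [Finset.prod_comm]
      refine Finset.prod_eq_one fun a _ => ?_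
      rw [← map_prod, e, map_one]
    rw [hk, Finset.prod_range_succ'] at h2
    simp only [pow_zero, map_one, MulAut.one_apply] at h2
    rw [Finset.prod_congr rfl fun i hi => hinner (i + 1) (fun hd => by
      have := Nat.le_of_dvd (by omega) hd
      have := Finset.mem_range.1 hi
      omega) w] at h1
    exact mul_left_cancel (h1.trans h2.symm)
  obtain ⟨w, hw⟩ : ∃ w : V, w = ⟨v0, hv0⟩ := ⟨_, rfl⟩
  have hNfix : ψ (ι ⟨a0, ha0⟩) (N w) = N w := by
    show ψ (ι ⟨a0, ha0⟩) (∏ a : A, ψ (ι a) w) = ∏ a : A, ψ (ι a) w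
    rw [map_prod]
    refine Fintype.prod_bijective (⟨a0, ha0⟩ * ·) (Group.mulLeft_bijective _) _ _ fun a => ?_
    rw [← MulAut.mul_apply, ← map_mul, ← map_mul]
  rw [← key, map_pow] at hNfix
  have hco : (Nat.card V).Coprime (Fintype.card A) := by rw [← Nat.card_eq_fintype_card]; exact hcop.symm
  have h := congrArg Subtype.val ((powCoprime hco).injective hNfix)
  rw [hψ, normalizerMonoidHom_val, hw, mul_inv_eq_iff_eq_mul] at h
  exact h

/-- An element of prime order without fixed points centralises the action of a nilpotent group, apart from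
Fermat primes and even order. -/
theorem hall_higman (hV : IsMulCommutative V) {N : Subgroup G} {x : G} {q : ℕ} (hq : q.Prime)
    (hx : x ^ q = 1) (hxV : x ∈ normalizer (V : Set G)) (hxN : ∀ n ∈ N, x * n * x⁻¹ ∈ N)
    (hNV : N ≤ normalizer (V : Set G)) (hN : Group.IsNilpotent N) (hNq : (Nat.card N).Coprime q)
    (hVq : (Nat.card V).Coprime q) (hVN : (Nat.card V).Coprime (Nat.card N))
    (hexc : IsMulCommutative N ∨ ¬ (2 ∣ Nat.card N ∧ ∃ j, q = 2 ^ j + 1))
    (hfpf : ∀ v ∈ V, Commute x v → v = 1) : ∀ n ∈ N, ∀ v ∈ V, Commute (x * n * x⁻¹ * n⁻¹) v := by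
  haveI := Fact.mk hq
  haveI := hV
  haveI := hN
  letI : CommGroup V := { (inferInstance : Group V) with mul_comm := mul_comm' }
  obtain ⟨ψ, hψ⟩ : ∃ ψ : normalizer (V : Set G) →* MulAut V, ψ = V.normalizerMonoidHom := ⟨_, rfl⟩
  obtain ⟨x', hx'⟩ : ∃ x' : normalizer (V : Set G), (x' : G) = x := ⟨⟨x, hxV⟩, rfl⟩
  obtain ⟨F, hF⟩ : ∃ F : Subgroup (MulAut V), F = (N.subgroupOf (normalizer (V : Set G))).map ψ := ⟨_, rfl⟩
  haveI hFn : Group.IsNilpotent F := by
    rw [hF]
    haveI : Group.IsNilpotent (N.subgroupOf (normalizer (V : Set G))) :=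
      Group.nilpotent_of_mulEquiv (subgroupOfEquivOfLe hNV).symm
    exact CfsgLib.Core.isNilpotent_map _ _
  have hFd : Nat.card F ∣ Nat.card N := by
    rw [hF, ← Nat.card_congr (subgroupOfEquivOfLe hNV).toEquiv]
    exact card_map_dvd _ _
  let r : MulAut V →* AddMonoid.End (Additive V) :=
    { toFun := fun φ => (MonoidHom.toAdditive φ.toMonoidHom : Additive V →+ Additive V)
      map_one' := rfl
      map_mul' := fun _ _ => rfl }
  have hh : ∀ φ ∈ F, MulAut.conj (ψ x') φ = φ := by
    rcases hexc with hab | hexc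
    · refine CfsgLib.Core.HH.fixed_of_abelian (q := q) r (MulAut.conj (ψ x')) (r (ψ x'))
        (by rw [← map_pow, ← map_pow, show x' ^ q = 1 from Subtype.ext (by rw [coe_pow, hx', hx]; rfl), map_one, map_one])
        (by rw [← map_pow, ← map_pow, show x' ^ q = 1 from Subtype.ext (by rw [coe_pow, hx', hx]; rfl), map_one, map_one])
        (fun φ w => by
          show (r (ψ x') * r φ) w = (r (MulAut.conj (ψ x') φ) * r (ψ x')) w
          rw [← map_mul, ← map_mul, MulAut.conj_apply, inv_mul_cancel_right])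
        (fun w hw => by
          have h : ψ x' (Additive.toMul w) = Additive.toMul w := congrArg Additive.toMul hw
          have h' := congrArg Subtype.val h
          rw [hψ, normalizerMonoidHom_val, hx', mul_inv_eq_iff_eq_mul] at h'
          exact congrArg Additive.ofMul (Subtype.ext (hfpf _ (Additive.toMul w).2 h') : Additive.toMul w = 1))
        F
        (by
          rw [hF]
          rintro _ ⟨n, hn, rfl⟩
          exact ⟨x' * n * x'⁻¹, by rw [SetLike.mem_coe, mem_subgroupOf, coe_mul, coe_mul, coe_inv, hx']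
                                   exact hxN _ hn, by rw [map_mul, map_mul, map_inv]; rfl⟩)
        (fun s hs t ht => ?_) (hNq.coprime_dvd_left hFd) (hVN.coprime_dvd_right hFd)
        (fun φ _ h => MulEquiv.ext fun w => congrArg Additive.toMul (h (Additive.ofMul w)))
      rw [hF] at hs ht
      obtain ⟨s', hs', rfl⟩ := hs
      obtain ⟨t', ht', rfl⟩ := ht
      rw [← map_mul, ← map_mul, show s' * t' = t' * s' from
        Subtype.ext (show (s' : G) * t' = t' * s' from congrArg Subtype.val (hab.is_comm.comm (⟨(s' : G), hs'⟩ : N) ⟨t', ht'⟩))]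
    refine CfsgLib.Core.HH.fixed_of_fpf_module (q := q) r (MulAut.conj (ψ x')) (r (ψ x'))
      (by rw [← map_pow, ← map_pow, show x' ^ q = 1 from Subtype.ext (by rw [coe_pow, hx', hx]; rfl), map_one, map_one])
      (by rw [← map_pow, ← map_pow, show x' ^ q = 1 from Subtype.ext (by rw [coe_pow, hx', hx]; rfl), map_one, map_one])
      (fun φ w => by
        show (r (ψ x') * r φ) w = (r (MulAut.conj (ψ x') φ) * r (ψ x')) w
        rw [← map_mul, ← map_mul, MulAut.conj_apply, inv_mul_cancel_right])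
      (fun w hw => by
        have h : ψ x' (Additive.toMul w) = Additive.toMul w := congrArg Additive.toMul hw
        have h' := congrArg Subtype.val h
        rw [hψ, normalizerMonoidHom_val, hx', mul_inv_eq_iff_eq_mul] at h'
        exact congrArg Additive.ofMul (Subtype.ext (hfpf _ (Additive.toMul w).2 h') : Additive.toMul w = 1))
      hVq (F := F) hFn
      (by
        rw [hF]
        rintro _ ⟨n, hn, rfl⟩
        exact ⟨x' * n * x'⁻¹, by rw [SetLike.mem_coe, mem_subgroupOf, coe_mul, coe_mul, coe_inv, hx']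
                                 exact hxN _ hn, by rw [map_mul, map_mul, map_inv]; rfl⟩)
      (hNq.coprime_dvd_left hFd) (hVN.coprime_dvd_right hFd)
      (fun φ _ h => MulEquiv.ext fun w => congrArg Additive.toMul (h (Additive.ofMul w)))
      (fun h => hexc ⟨h.1.trans hFd, h.2⟩)
  intro n hn v hv
  obtain ⟨n', hn'⟩ : ∃ n' : normalizer (V : Set G), (n' : G) = n := ⟨⟨n, hNV hn⟩, rfl⟩
  have h1 := hh (ψ n') (by rw [hF]; exact ⟨n', by rw [SetLike.mem_coe, mem_subgroupOf, hn']; exact hn, rfl⟩)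
  have h2 : ψ (x' * n' * x'⁻¹ * n'⁻¹) = 1 := by
    rw [map_mul, map_mul, map_mul, map_inv, map_inv, show ψ x' * ψ n' * (ψ x')⁻¹ = ψ n' from h1, mul_inv_cancel]
  have h3 := congrArg Subtype.val (DFunLike.congr_fun h2 ⟨v, hv⟩)
  rw [hψ, normalizerMonoidHom_val, coe_mul, coe_mul, coe_mul, coe_inv, coe_inv, hx', hn', MulAut.one_apply,
    mul_inv_eq_iff_eq_mul] at h3
  exact h3

end Action

/-- A group of prime power order without rank two has one subgroup of prime order. -/
theorem mem_zpowers_of_no_rank {p : ℕ} (hp : p.Prime) {P : Subgroup G} (hP : IsPGroup p P)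
    (h : ¬ HasRank p P) {x y : G} (hx : x ∈ P) (hy : y ∈ P) (hxo : orderOf x = p) (hyo : orderOf y = p) :
    y ∈ zpowers x := by
  haveI := Fact.mk hp
  haveI : Nontrivial P := ⟨⟨⟨x, hx⟩, 1, fun e => by
    rw [show x = 1 from congrArg Subtype.val e, orderOf_one] at hxo
    exact hp.ne_one hxo.symm⟩⟩
  haveI := hP.center_nontrivial
  obtain ⟨z, hz⟩ := exists_prime_orderOf_dvd_card' (G := Subgroup.center P) p (by
    obtain ⟨n, hn⟩ := IsPGroup.iff_card.1 (hP.to_subgroup (Subgroup.center P))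
    rw [hn]
    refine dvd_pow_self p fun e => ?_
    rw [e, pow_zero] at hn
    exact (Finite.one_lt_card (α := Subgroup.center P)).ne' hn)
  have hzo : orderOf ((z : P) : G) = p := by rw [Subgroup.orderOf_coe, Subgroup.orderOf_coe, hz]
  have key : ∀ w ∈ P, orderOf w = p → w ∈ zpowers ((z : P) : G) := fun w hw hwo => by
    by_contra hne
    exact h (hasRank_of_pair hp (z : P).2 hw hzo hwo
      (congrArg Subtype.val (Subgroup.mem_center_iff.1 z.2 ⟨w, hw⟩)).symm hne)
  have heq : zpowers x = zpowers ((z : P) : G) :=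
    eq_of_le_of_card_ge (zpowers_le.2 (key x hx hxo)) (by rw [Nat.card_zpowers, Nat.card_zpowers, hxo, hzo])
  rw [heq]
  exact key y hy hyo

end CfsgLib.SzSq
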