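import Cfsg.Agent.Lib.SzSq.RankOne
import Cfsg.Agent.Lib.Core.MinNormal
import Cfsg.Agent.Lib.Core.FPFComplement

/-!
Owner: helper19. The configurations of a solvable group with four primes and no element order divisible by three.
-/

set_option autoImplicit false
set_option linter.unusedSectionVars false

namespace CfsgLib.SzSq

open Subgroup

universe u

variable {G : Type u} [Group G] [Finite G]

/-- Prime order in a group of prime power order. -/
theorem orderOf_of_isPGroup {p : ℕ} (hp : p.Prime) {H : Subgroup G} (hH : IsPGroup p H) {g : G} (hg : g ∈ H)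
    (h1 : g ≠ 1) : p ∣ orderOf g := by
  haveI := Fact.mk hp
  obtain ⟨n, hn⟩ := IsPGroup.iff_orderOf.1 hH ⟨g, hg⟩
  rw [Subgroup.orderOf_mk] at hn
  rw [hn]
  refine dvd_pow_self p fun e => h1 ?_
  rw [e, pow_zero] at hn
  exact orderOf_eq_one_iff.1 hn

/-- The fixed points of an element normalised by another. -/
theorem inf_centralizer_normalized {W : Subgroup G} {w g : G} (hg : g ∈ normalizer (W : Set G))
    (hc : Commute g w) : g ∈ normalizer ((W ⊓ centralizer ({w} : Set G) : Subgroup G) : Set G) := by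
  refine mem_normalizer_iff.2 fun v => ?_
  simp only [mem_inf, mem_centralizer_singleton_iff]
  refine and_congr (mem_normalizer_iff.1 hg v) ⟨fun h => ?_, fun h => ?_⟩
  · calc g * v * g⁻¹ * w = g * (v * (g⁻¹ * w)) := by group
      _ = g * (v * (w * g⁻¹)) := by rw [hc.inv_left.eq]
      _ = g * (v * w) * g⁻¹ := by group
      _ = g * (w * v) * g⁻¹ := by rw [h]
      _ = g * w * v * g⁻¹ := by group
      _ = w * g * v * g⁻¹ := by rw [hc.eq]
      _ = _ := by group
  · calc v * w = g⁻¹ * (g * v * g⁻¹) * (g * w) := by group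
      _ = g⁻¹ * (g * v * g⁻¹) * (w * g) := by rw [hc.eq]
      _ = g⁻¹ * (g * v * g⁻¹ * w) * g := by group
      _ = g⁻¹ * (w * (g * v * g⁻¹)) * g := by rw [h]
      _ = g⁻¹ * w * g * v := by group
      _ = w * g⁻¹ * g * v := by rw [hc.inv_left.eq]
      _ = w * v := by group

/-- A solvable group of two primes, both of rank two, has commuting elements of both orders. -/
theorem exists_commute_of_ranks {L : Subgroup G} (hLs : Group.IsSolvable L) {c d : ℕ} (hc : c.Prime)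
    (hd : d.Prime) (hcd : c ≠ d) (hLc : HasRank c L) (hLd : HasRank d L)
    (hLp : ∀ l : ℕ, l.Prime → l ∣ Nat.card L → l = c ∨ l = d) :
    ∃ w ∈ L, ∃ x ∈ L, orderOf w = c ∧ orderOf x = d ∧ Commute w x := by
  haveI := hLs
  obtain ⟨Ed, hEdL, hEdc, hEdexp, hEdcard⟩ := hLd
  obtain ⟨Ec, hEcL, hEcc, hEcexp, hEccard⟩ := hLc
  haveI : Nontrivial L := (Subgroup.nontrivial_iff_ne_bot L).2 fun e => by
    rw [e, le_bot_iff] at hEdL
    rw [hEdL, card_bot] at hEdcard
    nlinarith [hd.two_le]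
  obtain ⟨l, hl, hlne⟩ := CfsgLib.Core.exists_pCore_ne_bot (G := L)
  haveI := Fact.mk hl
  obtain ⟨M, hM⟩ : ∃ M : Subgroup G, M = (Cfsg.pCore l L).map L.subtype := ⟨_, rfl⟩
  have hMp : IsPGroup l M := hM ▸ (CfsgLib.Core.isPGroup_pCore l L).map _
  have hML : M ≤ L := hM ▸ map_subtype_le _
  have hMn : L ≤ normalizer (M : Set G) := by
    rw [hM]
    have := Subgroup.le_normalizer_map (H := Cfsg.pCore l L) L.subtype
    rwa [Subgroup.normalizer_eq_top, ← MonoidHom.range_eq_map, range_subtype] at this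
  have hM1 : M ≠ ⊥ := by
    rw [hM, Ne, map_eq_bot_iff_of_injective _ L.subtype_injective]
    exact hlne
  obtain ⟨k, hk⟩ := IsPGroup.iff_card.1 hMp
  have hlcd : l = c ∨ l = d := by
    refine hLp l hl (Dvd.dvd.trans ?_ (card_dvd_of_le hML))
    rw [hk]
    refine dvd_pow_self l fun e => hM1 ?_
    rw [e, pow_zero] at hk
    exact card_eq_one.1 hk
  have hnd : ∀ r : ℕ, r.Prime → r ≠ l → ¬ r ∣ Nat.card M := fun r hr hrl hdvd =>
    hrl ((Nat.prime_dvd_prime_iff_eq hr hl).1 (hr.dvd_of_dvd_pow (hk ▸ hdvd)))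
  rcases hlcd with rfl | rfl
  · obtain ⟨e, he, heo, w, hw, hw1, hew⟩ := exists_fixed_of_rank hd hEdc hEdexp hEdcard
      (hEdL.trans hMn) (hnd d hd hcd.symm) hM1
    obtain ⟨i, hi⟩ := exists_pow_orderOf hl (orderOf_of_isPGroup hl hMp hw hw1)
    exact ⟨w ^ i, pow_mem (hML hw) i, e, hEdL he, hi, heo, hew.symm.pow_left i⟩
  · obtain ⟨e, he, heo, w, hw, hw1, hew⟩ := exists_fixed_of_rank hc hEcc hEcexp hEccard
      (hEcL.trans hMn) (hnd c hc hcd) hM1
    obtain ⟨i, hi⟩ := exists_pow_orderOf hl (orderOf_of_isPGroup hl hMp hw hw1)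
    exact ⟨e, hEcL he, w ^ i, pow_mem (hML hw) i, heo, hi, hew.pow_right i⟩

section OneModule

variable {V N L : Subgroup G} {a b : ℕ}

/-- The hypotheses of the first configuration: a module `V`, a normalised group `N` of rank two, and a group `L`
for the two remaining primes. -/
structure OneModule (V N L : Subgroup G) (a b c d : ℕ) : Prop where
  tf : TripleFree G
  ha : a.Prime
  hb : b.Prime
  hc : c.Prime
  hd : d.Prime
  hab : a ≠ b
  hac : a ≠ c
  had : a ≠ d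
  hbc : b ≠ c
  hbd : b ≠ d
  hcd : c ≠ d
  hVc : IsMulCommutative V
  hVp : IsPGroup a V
  hV1 : V ≠ ⊥
  hNp : IsPGroup b N
  hNV : N ≤ normalizer (V : Set G)
  hLV : L ≤ normalizer (V : Set G)
  hLN : L ≤ normalizer (N : Set G)
  hfaith : ∀ n ∈ N, (∀ v ∈ V, Commute n v) → n = 1
  hN : HasRank b N
  hLc : HasRank c L
  hLd : HasRank d L
  hLs : Group.IsSolvable L
  hLp : ∀ l : ℕ, l.Prime → l ∣ Nat.card L → l = c ∨ l = d
  hexc : IsMulCommutative N ∨ b ≠ 2

variable {c d : ℕ}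

theorem OneModule.symm (h : OneModule V N L a b c d) : OneModule V N L a b d c :=
  ⟨h.tf, h.ha, h.hb, h.hd, h.hc, h.hab, h.had, h.hac, h.hbd, h.hbc, h.hcd.symm, h.hVc, h.hVp, h.hV1, h.hNp,
    h.hNV, h.hLV, h.hLN, h.hfaith, h.hN, h.hLd, h.hLc, h.hLs, fun l hl hd => (h.hLp l hl hd).symm,
    h.hexc⟩

theorem OneModule.card_coprime (h : OneModule V N L a b c d) {p q : ℕ} {H : Subgroup G} (hp : p.Prime)
    (hq : q.Prime) (hpq : p ≠ q) (hH : IsPGroup p H) : (Nat.card H).Coprime q := by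
  haveI := Fact.mk hp
  obtain ⟨n, hn⟩ := IsPGroup.iff_card.1 hH
  rw [hn]
  exact Nat.Coprime.pow_left n ((Nat.coprime_primes hp hq).2 hpq)

theorem OneModule.cop_VN (h : OneModule V N L a b c d) : (Nat.card V).Coprime (Nat.card N) := by
  haveI := Fact.mk h.hb
  obtain ⟨n, hn⟩ := IsPGroup.iff_card.1 h.hNp
  rw [hn]
  exact Nat.Coprime.pow_right n (h.card_coprime h.ha h.hb h.hab h.hVp)

/-- An element centralising `N` has no fixed point on the module. -/
theorem OneModule.fpf (h : OneModule V N L a b c d) {x : G} (hx : x ∈ L) {l : ℕ} (hl : l = c ∨ l = d)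
    (ho : l ∣ orderOf x) (hxN : ∀ n ∈ N, Commute x n) {v : G} (hv : v ∈ V) (hc : Commute x v) : v = 1 := by
  by_contra hv1
  obtain ⟨E, hEN, hEc, hEexp, hEcard, hEp⟩ := h.hN.isPGroup
  obtain ⟨e, he, heo, w, hw, hw1, hew⟩ := exists_fixed_of_rank h.hb (V := V ⊓ centralizer ({x} : Set G)) hEc hEexp
    hEcard (fun e he => inf_centralizer_normalized (h.hNV (hEN he)) (hxN e (hEN he)).symm) (fun hd => by
      have := Nat.dvd_gcd (hd.trans (Subgroup.card_dvd_of_le inf_le_left)) dvd_rfl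
      rw [(h.card_coprime h.ha h.hb h.hab h.hVp).gcd_eq_one] at this
      exact h.hb.ne_one (Nat.dvd_one.1 this))
    (fun e => hv1 (by
      have : v ∈ V ⊓ centralizer ({x} : Set G) := ⟨hv, mem_centralizer_singleton_iff.2 hc.eq.symm⟩
      rwa [e, Subgroup.mem_bot] at this))
  have hlp : l.Prime := by rcases hl with rfl | rfl; exacts [h.hc, h.hd]
  have hla : a ≠ l := by rcases hl with rfl | rfl; exacts [h.hac, h.had]
  have hlb : b ≠ l := by rcases hl with rfl | rfl; exacts [h.hbc, h.hbd]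
  exact h.tf.false3 h.ha h.hb hlp h.hab hla hlb (orderOf_of_isPGroup h.ha h.hVp hw.1 hw1) (dvd_of_eq heo.symm) ho
    hew.symm (mem_centralizer_singleton_iff.1 hw.2) (hxN e (hEN he)).symm

/-- An element of prime order moving `N` has a fixed point on the module. -/
theorem OneModule.fixed (h : OneModule V N L a b c d) {x : G} (hx : x ∈ L) {l : ℕ} (hl : l = c ∨ l = d)
    (ho : orderOf x = l) {n : G} (hn : n ∈ N) (hne : ¬ Commute x n) : ∃ v ∈ V, v ≠ 1 ∧ Commute x v := by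
  by_contra hcon
  push Not at hcon
  haveI := Fact.mk h.hb
  have hlp : l.Prime := by rcases hl with rfl | rfl; exacts [h.hc, h.hd]
  have hla : a ≠ l := by rcases hl with rfl | rfl; exacts [h.hac, h.had]
  have hlb : b ≠ l := by rcases hl with rfl | rfl; exacts [h.hbc, h.hbd]
  have hm := hall_higman h.hVc (N := N) hlp (ho ▸ pow_orderOf_eq_one x) (h.hLV hx)
    (fun n hn => (mem_normalizer_iff.1 (h.hLN hx) n).1 hn) h.hNV h.hNp.isNilpotent
    (h.card_coprime h.hb hlp hlb h.hNp) (h.card_coprime h.ha hlp hla h.hVp) h.cop_VN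
    (h.hexc.imp_right fun h2 hh => h2 ((Nat.prime_dvd_prime_iff_eq Nat.prime_two h.hb).1 (by
      obtain ⟨k, hk⟩ := IsPGroup.iff_card.1 h.hNp
      exact Nat.prime_two.dvd_of_dvd_pow (hk ▸ hh.1))).symm)
    (fun v hv hc => by_contra fun hv1 => hcon v hv hv1 hc) n hn
  have h1 := h.hfaith _ (mul_mem ((mem_normalizer_iff.1 (h.hLN hx) n).1 hn) (inv_mem hn)) hm
  exact hne (by rw [mul_inv_eq_one, mul_inv_eq_iff_eq_mul] at h1; exact h1)

/-- Commuting elements of the two primes do not both move `N`. -/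
theorem OneModule.not_both (h : OneModule V N L a b c d) {w x : G} (hw : w ∈ L) (hx : x ∈ L)
    (hwo : orderOf w = c) (hxo : orderOf x = d) (hwx : Commute w x) {n m : G} (hn : n ∈ N) (hwn : ¬ Commute w n)
    (hm : m ∈ N) (hxm : ¬ Commute x m) : False := by
  haveI := h.hVc
  haveI := Fact.mk h.hb
  -- the centraliser in `N` of the first element is trivial
  have key : ∀ {c d : ℕ}, OneModule V N L a b c d → ∀ {w x : G}, w ∈ L → x ∈ L → orderOf w = c → orderOf x = d →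
      Commute w x → (∃ v ∈ V, v ≠ 1 ∧ Commute w v) → ∀ k ∈ N, Commute w k → k = 1 := by
    intro c d h w x hw hx hwo hxo hwx ⟨v, hv, hv1, hwv⟩ k hk hwk
    by_contra hk1
    have hVW : V ⊓ centralizer ({w} : Set G) ≤ V := inf_le_left
    haveI : IsMulCommutative (V ⊓ centralizer ({w} : Set G) : Subgroup G) :=
      ⟨⟨fun s t => Subtype.ext (show (s : G) * t = t * s from congrArg Subtype.val
        (h.hVc.is_comm.comm (⟨s, s.2.1⟩ : V) ⟨t, t.2.1⟩))⟩⟩
    have hm := hall_higman (V := V ⊓ centralizer ({w} : Set G)) inferInstance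
      (N := N ⊓ centralizer ({w} : Set G)) h.hd (hxo ▸ pow_orderOf_eq_one x)
      (inf_centralizer_normalized (h.hLV hx) hwx.symm)
      (fun n hn => (mem_normalizer_iff.1 (inf_centralizer_normalized (h.hLN hx) hwx.symm) n).1 hn)
      (fun n hn => inf_centralizer_normalized (h.hNV hn.1) (mem_centralizer_singleton_iff.1 hn.2))
      (h.hNp.to_le inf_le_left).isNilpotent
      (h.card_coprime h.hb h.hd h.hbd (h.hNp.to_le inf_le_left))
      (h.card_coprime h.ha h.hd h.had (h.hVp.to_le inf_le_left))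
      ((h.cop_VN.coprime_dvd_left (card_dvd_of_le hVW)).coprime_dvd_right (card_dvd_of_le inf_le_left))
      (h.hexc.imp (fun hab => ⟨⟨fun s t => Subtype.ext (show (s : G) * t = t * s from congrArg Subtype.val
        (hab.is_comm.comm (⟨s, s.2.1⟩ : N) ⟨t, t.2.1⟩))⟩⟩) fun h2 hh =>
        h2 ((Nat.prime_dvd_prime_iff_eq Nat.prime_two h.hb).1 (by
          obtain ⟨k, hk⟩ := IsPGroup.iff_card.1 h.hNp
          exact Nat.prime_two.dvd_of_dvd_pow (hk ▸ hh.1.trans (card_dvd_of_le inf_le_left)))).symm)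
      (fun u hu hc => by_contra fun hu1 => h.tf.false3 h.ha h.hc h.hd h.hac h.had h.hcd
        (orderOf_of_isPGroup h.ha h.hVp hu.1 hu1) (dvd_of_eq hwo.symm) (dvd_of_eq hxo.symm)
        (mem_centralizer_singleton_iff.1 hu.2) hc.symm hwx)
      k ⟨hk, mem_centralizer_singleton_iff.2 hwk.eq.symm⟩
    have hxk : Commute x k := by
      by_contra hne
      have h1 : x * k * x⁻¹ * k⁻¹ ≠ 1 := fun e => hne (by rwa [mul_inv_eq_one, mul_inv_eq_iff_eq_mul] at e)
      have hmem : x * k * x⁻¹ * k⁻¹ ∈ N ⊓ centralizer ({w} : Set G) :=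
        mul_mem ((mem_normalizer_iff.1 (inf_centralizer_normalized (h.hLN hx) hwx.symm) k).1
          ⟨hk, mem_centralizer_singleton_iff.2 hwk.eq.symm⟩)
          (inv_mem ⟨hk, mem_centralizer_singleton_iff.2 hwk.eq.symm⟩)
      exact h.tf.false3 h.ha h.hb h.hc h.hab h.hac h.hbc (orderOf_of_isPGroup h.ha h.hVp hv hv1)
        (orderOf_of_isPGroup h.hb h.hNp hmem.1 h1) (dvd_of_eq hwo.symm)
        (hm v ⟨hv, mem_centralizer_singleton_iff.2 hwv.eq.symm⟩).symm hwv.symm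
        (mem_centralizer_singleton_iff.1 hmem.2)
    exact h.tf.false3 h.hb h.hc h.hd h.hbc h.hbd h.hcd (orderOf_of_isPGroup h.hb h.hNp hk hk1)
      (dvd_of_eq hwo.symm) (dvd_of_eq hxo.symm) hwk.symm hxk.symm hwx
  have hwfix := h.fixed hw (Or.inl rfl) hwo hn hwn
  have hxfix := h.fixed hx (Or.inr rfl) hxo hm hxm
  have hCw := key h hw hx hwo hxo hwx hwfix
  have hCx := key h.symm hx hw hxo hwo hwx.symm hxfix
  haveI : Nontrivial N := ⟨⟨⟨n, hn⟩, 1, fun e => hwn (by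
    rw [show n = 1 from congrArg Subtype.val e]; exact Commute.one_right w)⟩⟩
  haveI := h.hNp.center_nontrivial
  obtain ⟨A, hA⟩ : ∃ A : Subgroup G, A = (center N).map N.subtype := ⟨_, rfl⟩
  have hAN : A ≤ N := hA ▸ map_subtype_le _
  haveI : IsMulCommutative A := by
    rw [hA]
    refine ⟨⟨?_⟩⟩
    rintro ⟨_, s, hs, rfl⟩ ⟨_, t, ht, rfl⟩
    exact Subtype.ext (show (s : G) * t = t * s from congrArg Subtype.val (mem_center_iff.1 ht s))
  have hnorm : ∀ g ∈ L, ∀ z ∈ A, g * z * g⁻¹ ∈ A := by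
    intro g hg z hz
    rw [hA] at hz ⊢
    obtain ⟨s, hs, rfl⟩ := hz
    refine ⟨⟨g * s * g⁻¹, (mem_normalizer_iff.1 (h.hLN hg) s).1 s.2⟩, mem_center_iff.2 fun t => Subtype.ext ?_, rfl⟩
    have h1 := congrArg Subtype.val
      (mem_center_iff.1 hs ⟨g⁻¹ * t * g, (mem_normalizer_iff''.1 (h.hLN hg) t).1 t.2⟩)
    show (t : G) * (g * s * g⁻¹) = g * s * g⁻¹ * t
    calc (t : G) * (g * s * g⁻¹) = g * (g⁻¹ * t * g * s) * g⁻¹ := by group
      _ = g * (s * (g⁻¹ * t * g)) * g⁻¹ := by rw [show g⁻¹ * (t : G) * g * s = s * (g⁻¹ * t * g) from h1]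
      _ = _ := by group
  obtain ⟨y, hy⟩ : ∃ y, y = w * x := ⟨_, rfl⟩
  have hyo : orderOf y = c * d := hy ▸
    CfsgLib.Recog.ThreePrimes.orderOf_mul_of_commute hwx h.hc h.hd h.hcd hwo hxo
  have hfpf : ∀ i : ℕ, ¬ orderOf y ∣ i → ∀ z ∈ A, Commute (y ^ i) z → z = 1 := by
    intro i hi z hz hc'
    rw [hyo] at hi
    have aux : ∀ {c d : ℕ} {w x : G}, c.Prime → d.Prime → c ≠ d → orderOf w = c → orderOf x = d →
        ¬ c ∣ i → Commute (w ^ i * x ^ i) z → Commute w x → Commute w z := by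
      intro c d w x hcp hdp hne hw hx hci hcz hwx
      have h1 : Commute (w ^ (i * d)) z := by
        have h := hcz.pow_left d
        rwa [(hwx.pow_pow i i).mul_pow, ← pow_mul, ← pow_mul, pow_mul' x i d,
          show x ^ d = 1 by rw [← hx, pow_orderOf_eq_one], one_pow, mul_one] at h
      have hco : (orderOf w).Coprime (i * d) := by
        rw [hw]
        exact Nat.Coprime.mul_right (hcp.coprime_iff_not_dvd.2 hci) ((Nat.coprime_primes hcp hdp).2 hne)
      obtain ⟨j, hj⟩ := exists_pow_eq_self_of_coprime hco.symm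
      rw [← hj]
      exact h1.pow_left j
    rw [hy, hwx.mul_pow] at hc'
    by_cases hci : c ∣ i
    · exact hCx z (hAN hz) (aux h.hd h.hc h.hcd.symm hxo hwo
        (fun hdi => hi (Nat.Coprime.mul_dvd_of_dvd_of_dvd ((Nat.coprime_primes h.hc h.hd).2 h.hcd) hci hdi))
        (by rw [← (hwx.pow_pow i i).eq]; exact hc') hwx.symm)
    · exact hCw z (hAN hz) (aux h.hc h.hd h.hcd hwo hxo hci hc' hwx)
  obtain ⟨z, hz⟩ := exists_ne (1 : center N)
  have hzA : ((z : N) : G) ∈ A := hA ▸ ⟨z, z.2, rfl⟩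
  obtain ⟨v, hv, hv1, hyv⟩ := fixed_of_frobenius (V := V) (A := A) (y := y)
    (hy ▸ mul_mem (h.hLV hw) (h.hLV hx)) (fun e he => h.hNV (hAN he))
    (fun e he => hnorm y (hy ▸ mul_mem hw hx) e he) hfpf
    (h.cop_VN.symm.coprime_dvd_left (card_dvd_of_le hAN))
    ⟨_, hzA, by
      by_contra hall
      push Not at hall
      exact hz (Subtype.ext (Subtype.ext (h.hfaith _ (hAN hzA) hall)))⟩
  have h1 : Commute w v ∧ Commute x v := by
    have hc1 := hyv.pow_left d
    have hc2 := hyv.pow_left c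
    rw [hy, hwx.mul_pow, show x ^ d = 1 by rw [← hxo, pow_orderOf_eq_one], mul_one] at hc1
    rw [hy, hwx.mul_pow, show w ^ c = 1 by rw [← hwo, pow_orderOf_eq_one], one_mul] at hc2
    obtain ⟨i, hi⟩ := exists_pow_eq_self_of_coprime (x := w) (n := d)
      (by rw [hwo]; exact (Nat.coprime_primes h.hd h.hc).2 h.hcd.symm)
    obtain ⟨j, hj⟩ := exists_pow_eq_self_of_coprime (x := x) (n := c)
      (by rw [hxo]; exact (Nat.coprime_primes h.hc h.hd).2 h.hcd)
    exact ⟨hi ▸ hc1.pow_left i, hj ▸ hc2.pow_left j⟩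
  exact h.tf.false3 h.ha h.hc h.hd h.hac h.had h.hcd (orderOf_of_isPGroup h.ha h.hVp hv hv1) (dvd_of_eq hwo.symm)
    (dvd_of_eq hxo.symm) h1.1.symm h1.2.symm hwx

/-- Elements centralising `N` have rank one. -/
theorem OneModule.no_rank (h : OneModule V N L a b c d) {H : Subgroup G} (hHL : H ≤ L) {l : ℕ}
    (hl : l = c ∨ l = d) (hHN : ∀ x ∈ H, ∀ n ∈ N, Commute x n) : ¬ HasRank l H := by
  rintro ⟨E, hEH, hEc, hEexp, hEcard⟩
  have hlp : l.Prime := by rcases hl with rfl | rfl; exacts [h.hc, h.hd]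
  have hla : a ≠ l := by rcases hl with rfl | rfl; exacts [h.hac, h.had]
  obtain ⟨e, he, heo, v, hv, hv1, hev⟩ := exists_fixed_of_rank hlp hEc hEexp hEcard
    (fun e he => h.hLV (hHL (hEH he))) ((hlp.coprime_iff_not_dvd).1 (h.card_coprime h.ha hlp hla h.hVp).symm) h.hV1
  exact hv1 (h.fpf (hHL (hEH he)) hl (dvd_of_eq heo.symm) (hHN e (hEH he)) hv hev)

/-- The case in which no element of order `d` centralises `N`. -/
theorem OneModule.false_aux (h : OneModule V N L a b c d)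
    (hd0 : ∀ x ∈ L, orderOf x = d → ∃ n ∈ N, ¬ Commute x n) : False := by
  haveI := Fact.mk h.hc
  haveI := Fact.mk h.hd
  haveI := Fact.mk h.hb
  have hk : ∀ w ∈ L, orderOf w = c → ∀ x ∈ L, orderOf x = d → Commute w x → ∀ n ∈ N, Commute w n :=
    fun w hw hwo x hx hxo hwx n hn => by_contra fun hne => by
      obtain ⟨m, hm, hxm⟩ := hd0 x hx hxo
      exact h.not_both hw hx hwo hxo hwx hn hne hm hxm
  obtain ⟨Ed, hEdL, hEdc, hEdexp, hEdcard, hEdp⟩ := h.hLd.isPGroup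
  obtain ⟨Ec, hEcL, hEcc, hEcexp, hEccard, hEcp⟩ := h.hLc.isPGroup
  by_cases hT : ∀ t ∈ L, orderOf t = c → ∃ n ∈ N, ¬ Commute t n
  · -- no commuting elements of both orders
    obtain ⟨w, hw, x, hx, hwo, hxo, hwx⟩ := exists_commute_of_ranks h.hLs h.hc h.hd h.hcd h.hLc h.hLd h.hLp
    obtain ⟨n, hn, hne⟩ := hT w hw hwo
    exact hne (hk w hw hwo x hx hxo hwx n hn)
  push Not at hT
  obtain ⟨t, htL, hto, htN⟩ := hT
  obtain ⟨C, hC⟩ : ∃ C : Subgroup G, C = L ⊓ centralizer (N : Set G) := ⟨_, rfl⟩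
  have hCN : ∀ x ∈ C, ∀ n ∈ N, Commute x n := fun x hx n hn =>
    (mem_centralizer_iff.1 (hC ▸ hx).2 n hn).symm
  have hCL : C ≤ L := hC ▸ inf_le_left
  have hCp : IsPGroup c C := by
    refine IsPGroup.of_card (n := (Nat.card C).primeFactorsList.length)
      (Nat.eq_prime_pow_of_unique_prime_dvd Nat.card_pos.ne' fun {l} hl hd' => ?_)
    rcases h.hLp l hl (hd'.trans (card_dvd_of_le hCL)) with rfl | rfl
    · rfl
    · exfalso
      obtain ⟨x, hx⟩ := exists_prime_orderOf_dvd_card' (G := C) l hd'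
      obtain ⟨n, hn, hne⟩ := hd0 x (hCL x.2) (by rw [orderOf_coe, hx])
      exact hne (hCN x x.2 n hn)
  have hCr : ¬ HasRank c C := h.no_rank hCL (Or.inl rfl) hCN
  have htC : t ∈ C := hC ▸ ⟨htL, mem_centralizer_iff.2 fun n hn => (htN n hn).symm⟩
  have huniq : ∀ w ∈ L, orderOf w = c → (∀ n ∈ N, Commute w n) → w ∈ zpowers t := fun w hw hwo hwN =>
    mem_zpowers_of_no_rank h.hc hCp hCr htC (hC ▸ ⟨hw, mem_centralizer_iff.2 fun n hn => (hwN n hn).symm⟩) hto hwo
  have hconj : ∀ g ∈ L, ∀ k ∈ zpowers t, g * k * g⁻¹ ∈ zpowers t := by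
    intro g hg k hk'
    obtain ⟨i, rfl⟩ := mem_zpowers_iff.1 hk'
    rw [← conj_zpow]
    refine zpow_mem (huniq _ (mul_mem (mul_mem hg htL) (inv_mem hg))
      (by rw [← MulAut.conj_apply, MulEquiv.orderOf_eq, hto]) fun n hn => ?_) i
    have h1 := htN _ ((mem_normalizer_iff''.1 (h.hLN hg) n).1 hn)
    show g * t * g⁻¹ * n = n * (g * t * g⁻¹)
    calc g * t * g⁻¹ * n = g * (t * (g⁻¹ * n * g)) * g⁻¹ := by group
      _ = g * (g⁻¹ * n * g * t) * g⁻¹ := by rw [h1.eq]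
      _ = _ := by group
  -- elements commuting with `t` act freely on `N`
  have hfree : ∀ x ∈ L, orderOf x = d → Commute x t → ∀ n ∈ N, Commute x n → n = 1 := fun x hx hxo hxt n hn hxn =>
    by_contra fun hn1 => h.tf.false3 h.hb h.hd h.hc h.hbd h.hbc h.hcd.symm (orderOf_of_isPGroup h.hb h.hNp hn hn1)
      (dvd_of_eq hxo.symm) (dvd_of_eq hto.symm) hxn.symm (htN n hn).symm hxt
  have hN1 : N ≠ ⊥ := fun e => by
    obtain ⟨E, hE, -, -, hEc⟩ := h.hN
    rw [e, le_bot_iff] at hE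
    rw [hE, card_bot] at hEc
    nlinarith [h.hb.two_le]
  have hrankt : ∀ H : Subgroup G, H ≤ L → (∀ x ∈ H, Commute x t) → ¬ HasRank d H := by
    rintro H hHL hHt ⟨E, hEH, hEc, hEexp, hEcard⟩
    obtain ⟨e, he, heo, v, hv, hv1, hev⟩ := exists_fixed_of_rank h.hd hEc hEexp hEcard
      (fun e he => h.hLN (hHL (hEH he))) ((h.hd.coprime_iff_not_dvd).1 (h.card_coprime h.hb h.hd h.hbd h.hNp).symm)
      hN1
    exact hv1 (hfree e (hHL (hEH he)) heo (hHt e (hEH he)) v hv hev)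
  have hdc : d ∣ c - 1 := by
    by_contra hnd
    refine hrankt Ed hEdL (fun x hx => by_contra fun hne => hnd ?_) ⟨Ed, le_rfl, hEdc, hEdexp, hEdcard⟩
    exact dvd_pred_of_moves h.hd h.hc (hEdexp x hx) hto (hconj x (hEdL hx)) hne
  have hmove : ∀ x ∈ L, orderOf x = d → ¬ Commute x t → ∀ w ∈ L, orderOf w = c → ¬ Commute w x := by
    intro x hx hxo hxt w hw hwo hwx
    obtain ⟨i, hi⟩ := mem_zpowers_iff.1 (huniq w hw hwo (hk w hw hwo x hx hxo hwx))
    obtain ⟨j, hj⟩ := mem_zpowers_iff.1 (show t ∈ zpowers w by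
      rw [eq_of_le_of_card_ge (zpowers_le.2 (huniq w hw hwo (hk w hw hwo x hx hxo hwx)))
        (by rw [Nat.card_zpowers, Nat.card_zpowers, hwo, hto])]
      exact mem_zpowers t)
    exact hxt (hj ▸ hwx.symm.zpow_right j)
  -- elements of order `c` centralise `t`
  have hct : ∀ w ∈ L, orderOf w = c → Commute w t := fun w hw hwo => by_contra fun hne => by
    have := Nat.le_of_dvd (by have := h.hc.two_le; omega)
      (dvd_pred_of_moves h.hc h.hc (hwo ▸ pow_orderOf_eq_one w) hto (hconj w hw) hne)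
    have := h.hc.two_le
    omega
  haveI := h.hLs
  obtain ⟨D, hD⟩ : ∃ D : Subgroup G, D = (Cfsg.pCore d L).map L.subtype := ⟨_, rfl⟩
  have hDL : D ≤ L := hD ▸ map_subtype_le _
  have hDp : IsPGroup d D := hD ▸ (CfsgLib.Core.isPGroup_pCore d L).map _
  have hDn : L ≤ normalizer (D : Set G) := by
    rw [hD]
    have := Subgroup.le_normalizer_map (H := Cfsg.pCore d L) L.subtype
    rwa [Subgroup.normalizer_eq_top, ← MonoidHom.range_eq_map, range_subtype] at this
  by_cases hD1 : D = ⊥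
  · obtain ⟨x1, hx1, hx1o, hx1t⟩ : ∃ x ∈ Ed, orderOf x = d ∧ Commute x t := by
      obtain ⟨e, he, heo, v, hv, hv1, hev⟩ := exists_fixed_of_rank h.hd hEdc hEdexp hEdcard
        (V := zpowers t) (fun e he => mem_normalizer_iff.2 fun k => ⟨hconj e (hEdL he) k, fun hk' => by
          have := hconj _ (inv_mem (hEdL he)) _ hk'
          rwa [inv_inv, show e⁻¹ * (e * k * e⁻¹) * e = k by group] at this⟩)
        (by rw [Nat.card_zpowers, hto]; exact fun hh => h.hcd ((Nat.prime_dvd_prime_iff_eq h.hd h.hc).1 hh).symm)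
        (fun e => h.hc.ne_one (by rw [← hto, orderOf_eq_one_iff, ← zpowers_eq_bot, e]))
      refine ⟨e, he, heo, ?_⟩
      have hvo : orderOf v = c := by
        have := orderOf_dvd_natCard (⟨v, hv⟩ : zpowers t)
        rw [Subgroup.orderOf_mk, Nat.card_zpowers, hto] at this
        exact ((Nat.dvd_prime h.hc).1 this).resolve_left fun e => hv1 (orderOf_eq_one_iff.1 e)
      obtain ⟨j, hj⟩ := mem_zpowers_iff.1 (show t ∈ zpowers v by
        rw [eq_of_le_of_card_ge (zpowers_le.2 hv) (by rw [Nat.card_zpowers, Nat.card_zpowers, hvo, hto])]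
        exact mem_zpowers t)
      exact hj ▸ hev.zpow_right j
    obtain ⟨P, hP⟩ : ∃ P : Subgroup G, P = (Cfsg.pCore c L).map L.subtype := ⟨_, rfl⟩
    have hPp : IsPGroup c P := hP ▸ (CfsgLib.Core.isPGroup_pCore c L).map _
    have hPL : P ≤ L := hP ▸ map_subtype_le _
    have hPn : L ≤ normalizer (P : Set G) := by
      rw [hP]
      have := Subgroup.le_normalizer_map (H := Cfsg.pCore c L) L.subtype
      rwa [Subgroup.normalizer_eq_top, ← MonoidHom.range_eq_map, range_subtype] at this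
    have hgen : P ≤ centralizer ({x1} : Set G) := by
      refine CfsgLib.LocalEven.le_of_centralizers_le hEdexp hEdcard (hEdL.trans hPn)
        ((h.hd.coprime_iff_not_dvd).1 (h.card_coprime h.hc h.hd h.hcd hPp).symm) fun e he he1 y hy => ?_
      have heo : orderOf e = d := orderOf_eq_prime (hEdexp e he) he1
      have hey := (mem_centralizer_singleton_iff.1 hy.2)
      by_cases hy1 : y = 1
      · rw [hy1]; exact one_mem _
      by_cases het : Commute e t
      · have hez : x1 ∈ zpowers e := by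
          by_contra hne
          exact hrankt (Ed ⊓ centralizer ({t} : Set G)) (inf_le_left.trans hEdL)
            (fun s hs => mem_centralizer_singleton_iff.1 hs.2) (hasRank_of_pair h.hd
              ⟨he, mem_centralizer_singleton_iff.2 het.eq⟩ ⟨hx1, mem_centralizer_singleton_iff.2 hx1t.eq⟩ heo hx1o
              (congrArg Subtype.val (hEdc.is_comm.comm (⟨e, he⟩ : Ed) ⟨x1, hx1⟩)) hne)
        obtain ⟨j, rfl⟩ := mem_zpowers_iff.1 hez
        exact mem_centralizer_singleton_iff.2 ((show Commute y e from hey).zpow_right j).eq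
      · exfalso
        obtain ⟨i, hi⟩ := exists_pow_orderOf h.hc (orderOf_of_isPGroup h.hc hPp hy.1 hy1)
        exact hmove e (hEdL he) heo het _ (pow_mem (hPL hy.1) i) hi ((show Commute y e from hey).pow_left i)
    have hcF : (⟨x1, hEdL hx1⟩ : L) ∈ Cfsg.fittingSubgroup L := by
      refine CfsgLib.Components.centralizer_fitting_le_of_isSolvable (mem_centralizer_iff.2 fun g hg => ?_)
      have hle : Cfsg.fittingSubgroup L ≤ centralizer ({(⟨x1, hEdL hx1⟩ : L)} : Set L) := by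
        rw [CfsgLib.Core.fittingSubgroup_eq_finset_sup]
        refine Finset.sup_le fun l hl z hz => mem_centralizer_singleton_iff.2 (Subtype.ext ?_)
        rcases h.hLp l (Nat.prime_of_mem_primeFactors hl) (Nat.dvd_of_mem_primeFactors hl) with rfl | rfl
        · exact mem_centralizer_singleton_iff.1 (hgen (hP ▸ ⟨z, hz, rfl⟩))
        · have : (z : G) ∈ D := hD ▸ ⟨z, hz, rfl⟩
          rw [hD1, Subgroup.mem_bot] at this
          rw [show z = 1 from Subtype.ext this]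
          simp
      exact mem_centralizer_singleton_iff.1 (hle hg)
    have hFc : IsPGroup c (Cfsg.fittingSubgroup L) := by
      rw [CfsgLib.Core.fittingSubgroup_eq_finset_sup]
      refine (CfsgLib.Core.isPGroup_pCore c L).to_le (Finset.sup_le fun l hl => ?_)
      rcases h.hLp l (Nat.prime_of_mem_primeFactors hl) (Nat.dvd_of_mem_primeFactors hl) with rfl | rfl
      · exact le_rfl
      · rw [hD, map_eq_bot_iff_of_injective _ L.subtype_injective] at hD1
        rw [hD1]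
        exact bot_le
    have h2 := orderOf_of_isPGroup h.hc hFc hcF (fun e => by
      rw [show x1 = 1 from congrArg Subtype.val e, orderOf_one] at hx1o
      exact h.hd.ne_one hx1o.symm)
    rw [Subgroup.orderOf_mk, hx1o] at h2
    exact h.hcd ((Nat.prime_dvd_prime_iff_eq h.hc h.hd).1 h2)
  · -- the core for `d`
    obtain ⟨w, hwE, hwo, hwN⟩ : ∃ w ∈ Ec, orderOf w = c ∧ ∃ n ∈ N, ¬ Commute w n := by
      by_contra hcon
      push Not at hcon
      refine h.no_rank hEcL (Or.inl rfl) (fun x hx n hn => ?_) ⟨Ec, le_rfl, hEcc, hEcexp, hEccard⟩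
      by_cases hx1 : x = 1
      · rw [hx1]; exact Commute.one_left n
      exact hcon x hx (orderOf_eq_prime (hEcexp x hx) hx1) n hn
    obtain ⟨n0, hn0, hwn0⟩ := hwN
    have hwL := hEcL hwE
    have hfix : ∀ y ∈ D, Commute w y → y = 1 := fun y hy hwy => by_contra fun hy1 => by
      obtain ⟨i, hi⟩ := exists_pow_orderOf h.hd (orderOf_of_isPGroup h.hd hDp hy hy1)
      exact hwn0 (hk w hwL hwo _ (pow_mem (hDL hy) i) hi (hwy.pow_right i) n0 hn0)
    let f : D → D := fun y => ⟨w * y * w⁻¹ * (y : G)⁻¹,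
      mul_mem ((mem_normalizer_iff.1 (hDn hwL) y).1 y.2) (inv_mem y.2)⟩
    have hf : Function.Injective f := fun y y' e => by
      have e' : w * y * w⁻¹ * (y : G)⁻¹ = w * y' * w⁻¹ * (y' : G)⁻¹ := congrArg Subtype.val e
      have : (y' : G)⁻¹ * y = 1 := hfix _ (mul_mem (inv_mem y'.2) y.2) (by
        show w * ((y' : G)⁻¹ * y) = (y' : G)⁻¹ * y * w
        calc w * ((y' : G)⁻¹ * y) = w * (y' : G)⁻¹ * w⁻¹ * (w * y * w⁻¹ * (y : G)⁻¹) * y * w := by group
          _ = w * (y' : G)⁻¹ * w⁻¹ * (w * y' * w⁻¹ * (y' : G)⁻¹) * y * w := by rw [e']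
          _ = _ := by group)
      exact Subtype.ext (inv_mul_eq_one.1 this).symm
    have hDt : ∀ y ∈ D, Commute y t := by
      intro y hy
      obtain ⟨z, hz⟩ := Finite.surjective_of_injective hf ⟨y, hy⟩
      have hz' : w * (z : G) * w⁻¹ * (z : G)⁻¹ = y := congrArg Subtype.val hz
      obtain ⟨i, hi⟩ := mem_zpowers_iff.1 (hconj z (hDL z.2) t (mem_zpowers t))
      rw [← hz']
      have hwt := hct w hwL hwo
      show w * z * w⁻¹ * (z : G)⁻¹ * t = t * (w * z * w⁻¹ * (z : G)⁻¹)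
      obtain ⟨j, hj⟩ := mem_zpowers_iff.1 (hconj (z : G)⁻¹ (inv_mem (hDL z.2)) t (mem_zpowers t))
      rw [inv_inv] at hj
      calc w * z * w⁻¹ * (z : G)⁻¹ * t = w * z * w⁻¹ * ((z : G)⁻¹ * t * z) * (z : G)⁻¹ := by group
        _ = w * z * (w⁻¹ * t ^ j) * (z : G)⁻¹ := by rw [← hj]; group
        _ = w * z * (t ^ j * w⁻¹) * (z : G)⁻¹ := by rw [((hwt.inv_left).zpow_right j).eq]
        _ = w * (z * t ^ j * (z : G)⁻¹) * z * w⁻¹ * (z : G)⁻¹ := by group
        _ = w * t * z * w⁻¹ * (z : G)⁻¹ := by rw [hj]; group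
        _ = t * w * z * w⁻¹ * (z : G)⁻¹ := by rw [hwt.eq]
        _ = _ := by group
    obtain ⟨y, hy, hy1⟩ := D.bot_or_exists_ne_one.resolve_left hD1
    obtain ⟨i, hi⟩ := exists_pow_orderOf h.hd (orderOf_of_isPGroup h.hd hDp hy hy1)
    have hDr : ¬ HasRank d D := hrankt D hDL hDt
    have hc1 : c ∣ d - 1 := by
      refine dvd_pred_of_moves h.hc h.hd (hwo ▸ pow_orderOf_eq_one w) hi (fun k hk' => ?_)
        fun hc' => by rw [hfix _ (pow_mem hy i) hc', orderOf_one] at hi; exact h.hd.ne_one hi.symm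
      obtain ⟨j, rfl⟩ := mem_zpowers_iff.1 hk'
      rw [← conj_zpow]
      refine zpow_mem (mem_zpowers_of_no_rank h.hd hDp hDr (pow_mem hy i)
        ((mem_normalizer_iff.1 (hDn hwL) _).1 (pow_mem hy i)) hi ?_) j
      rw [← MulAut.conj_apply, MulEquiv.orderOf_eq, hi]
    have := Nat.le_of_dvd (by have := h.hc.two_le; omega) hdc
    have := Nat.le_of_dvd (by have := h.hd.two_le; omega) hc1
    have := h.hc.two_le
    omega

/-- The first configuration is impossible. -/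
theorem OneModule.false (h : OneModule V N L a b c d) : False := by
  by_cases hd0 : ∀ x ∈ L, orderOf x = d → ∃ n ∈ N, ¬ Commute x n
  · exact h.false_aux hd0
  by_cases hc0 : ∀ x ∈ L, orderOf x = c → ∃ n ∈ N, ¬ Commute x n
  · exact h.symm.false_aux hc0
  push Not at hd0 hc0
  obtain ⟨x, hxL, hxo, hxN⟩ := hd0
  obtain ⟨w, hwL, hwo, hwN⟩ := hc0
  haveI := h.hVc
  obtain ⟨C, hC⟩ : ∃ C : Subgroup G, C = L ⊓ centralizer (N : Set G) := ⟨_, rfl⟩
  have hfpf : ∀ g ∈ C, g ≠ 1 → V ⊓ centralizer ({g} : Set G) = ⊥ := fun g hg hg1 => by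
    rw [Subgroup.eq_bot_iff_forall]
    intro v hv
    obtain ⟨l, hl, hld⟩ := Nat.exists_prime_and_dvd (n := orderOf g) (fun e => hg1 (orderOf_eq_one_iff.1 e))
    rw [hC] at hg
    exact h.fpf hg.1 (h.hLp l hl (hld.trans (Subgroup.orderOf_dvd_natCard L hg.1))) hld
      (fun n hn => (mem_centralizer_iff.1 hg.2 n hn).symm) hv.1 (mem_centralizer_singleton_iff.1 hv.2).symm
  have hwC : w ∈ C := hC ▸ ⟨hwL, mem_centralizer_iff.2 fun n hn => (hwN n hn).symm⟩
  have hxC : x ∈ C := hC ▸ ⟨hxL, mem_centralizer_iff.2 fun n hn => (hxN n hn).symm⟩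
  have hCb : C ≠ ⊥ := fun e => h.hc.ne_one (by rw [e, Subgroup.mem_bot] at hwC; rw [← hwo, hwC, orderOf_one])
  have hcen := CfsgLib.Core.FPF.center_ne_bot (hAK := fun g hg => h.hLV (hC ▸ hg).1) hfpf h.hV1 hCb
  obtain ⟨z, hz, hz1⟩ := (center C).bot_or_exists_ne_one.resolve_left hcen
  obtain ⟨l, hl, hld⟩ := Nat.exists_prime_and_dvd (n := orderOf (z : G))
    (fun e => hz1 (Subtype.ext (orderOf_eq_one_iff.1 e)))
  obtain ⟨n, hn, hn1⟩ : ∃ n ∈ N, n ≠ 1 := by
    obtain ⟨E, hE, -, -, hEc⟩ := h.hN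
    obtain ⟨n, hn, hn1⟩ := E.bot_or_exists_ne_one.resolve_left fun e => by
      rw [e, card_bot] at hEc; nlinarith [h.hb.two_le]
    exact ⟨n, hE hn, hn1⟩
  have hzN : Commute (z : G) n := (mem_centralizer_iff.1 (hC.le z.2).2 n hn).symm
  rcases h.hLp l hl (hld.trans (Subgroup.orderOf_dvd_natCard L (hC.le z.2).1)) with rfl | rfl
  · exact h.tf.false3 h.hb hl h.hd h.hbc h.hbd h.hcd (orderOf_of_isPGroup h.hb h.hNp hn hn1) hld
      (dvd_of_eq hxo.symm) hzN.symm (hxN n hn).symm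
      (congrArg Subtype.val (mem_center_iff.1 hz ⟨x, hxC⟩)).symm
  · exact h.tf.false3 h.hb hl h.hc h.hbd h.hbc h.hcd.symm (orderOf_of_isPGroup h.hb h.hNp hn hn1) hld
      (dvd_of_eq hwo.symm) hzN.symm (hwN n hn).symm
      (congrArg Subtype.val (mem_center_iff.1 hz ⟨w, hwC⟩)).symm

end OneModule

/-- The second configuration: two modules. -/
theorem false_of_two_modules (tf : TripleFree G) {a b c d : ℕ} (ha : a.Prime) (hb : b.Prime) (hc : c.Prime)
    (hd : d.Prime) (hab : a ≠ b) (hac : a ≠ c) (had : a ≠ d) (hbc : b ≠ c) (hbd : b ≠ d) (hcd : c ≠ d)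
    {A B N K : Subgroup G} (hAc : IsMulCommutative A) (hBc : IsMulCommutative B)
    (hAp : IsPGroup a A) (hBp : IsPGroup b B) (hA1 : A ≠ ⊥) (hB1 : B ≠ ⊥)
    (hABc : ∀ x ∈ A, ∀ y ∈ B, Commute x y) (hKA : K ≤ normalizer (A : Set G))
    (hKB : K ≤ normalizer (B : Set G)) (hNK : N ≤ K) (hKN : K ≤ normalizer (N : Set G))
    (hNp : IsPGroup c N) (hN : HasRank c N) (hKd : HasRank d K)
    (hexc : IsMulCommutative N ∨ c ≠ 2) : False := by
  haveI := Fact.mk hc
  haveI := Fact.mk hd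
  haveI := hAc
  haveI := hBc
  have hnd : ∀ {p q : ℕ} {H : Subgroup G}, p.Prime → q.Prime → p ≠ q → IsPGroup p H → ¬ q ∣ Nat.card H := by
    intro p q H hp hq hne hH hdvd
    haveI := Fact.mk hp
    obtain ⟨n, hn⟩ := IsPGroup.iff_card.1 hH
    exact hne ((Nat.prime_dvd_prime_iff_eq hq hp).1 (hq.dvd_of_dvd_pow (hn ▸ hdvd))).symm
  have hcop : ∀ {p q : ℕ} {H : Subgroup G}, p.Prime → q.Prime → p ≠ q → IsPGroup p H →
      (Nat.card H).Coprime q :=
    fun hp hq hne hH => ((hq.coprime_iff_not_dvd).2 (hnd hp hq hne hH)).symm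
  obtain ⟨EN, hENN, hENc, hENexp, hENcard, hENp⟩ := hN.isPGroup
  obtain ⟨Ed, hEdK, hEdc, hEdexp, hEdcard, hEdp⟩ := hKd.isPGroup
  obtain ⟨x, hx, hxo, va, hva, hva1, hxva⟩ := exists_fixed_of_rank hd hEdc hEdexp hEdcard (hEdK.trans hKA)
    (hnd ha hd had hAp) hA1
  obtain ⟨y, hy, hyo, vb, hvb, hvb1, hyvb⟩ := exists_fixed_of_rank hd hEdc hEdexp hEdcard (hEdK.trans hKB)
    (hnd hb hd hbd hBp) hB1
  -- `x` is free on the second module
  have hxB : ∀ v ∈ B, Commute x v → v = 1 := fun v hv hxv => by_contra fun hv1 =>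
    tf.false3 ha hb hd hab had hbd (orderOf_of_isPGroup ha hAp hva hva1) (orderOf_of_isPGroup hb hBp hv hv1)
      (dvd_of_eq hxo.symm) (hABc _ hva _ hv) hxva.symm hxv.symm
  have hcom := hall_higman hBc (N := N) hd (hxo ▸ pow_orderOf_eq_one x) (hKB (hEdK hx))
    (fun n hn => (mem_normalizer_iff.1 (hKN (hEdK hx)) n).1 hn) (hNK.trans hKB) hNp.isNilpotent
    (hcop hc hd hcd hNp) (hcop hb hd hbd hBp)
    (by
      obtain ⟨n, hn⟩ := IsPGroup.iff_card.1 hNp
      rw [hn]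
      exact Nat.Coprime.pow_right n (hcop hb hc hbc hBp))
    (hexc.imp_right fun h2 hh => h2 ((Nat.prime_dvd_prime_iff_eq Nat.prime_two hc).1 (by
      obtain ⟨n, hn⟩ := IsPGroup.iff_card.1 hNp
      exact Nat.prime_two.dvd_of_dvd_pow (hn ▸ hh.1))).symm) hxB
  obtain ⟨n, hn, hxn⟩ : ∃ n ∈ N, ¬ Commute x n := by
    by_contra hcon
    push Not at hcon
    obtain ⟨e, he, heo, w, hw, hw1, hew⟩ := exists_fixed_of_rank hc hENc hENexp hENcard
      (V := A ⊓ centralizer ({x} : Set G))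
      (fun e he => inf_centralizer_normalized (hKA (hNK (hENN he))) (hcon e (hENN he)).symm)
      (fun hh => hnd ha hc hac hAp (hh.trans (card_dvd_of_le inf_le_left)))
      (fun e => hva1 (by
        have : va ∈ A ⊓ centralizer ({x} : Set G) := ⟨hva, mem_centralizer_singleton_iff.2 hxva.eq.symm⟩
        rwa [e, Subgroup.mem_bot] at this))
    exact tf.false3 ha hc hd hac had hcd (orderOf_of_isPGroup ha hAp hw.1 hw1) (dvd_of_eq heo.symm)
      (dvd_of_eq hxo.symm) hew.symm (mem_centralizer_singleton_iff.1 hw.2) (hcon e (hENN he)).symm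
  obtain ⟨NB, hNB⟩ : ∃ NB : Subgroup G, NB = N ⊓ centralizer (B : Set G) := ⟨_, rfl⟩
  have hNBp : IsPGroup c NB := hNB ▸ hNp.to_le inf_le_left
  have hfree : ∀ k ∈ NB, k ≠ 1 → ∀ v ∈ A, Commute k v → v = 1 := fun k hk hk1 v hv hkv => by_contra fun hv1 =>
    tf.false3 ha hb hc hab hac hbc (orderOf_of_isPGroup ha hAp hv hv1) (orderOf_of_isPGroup hb hBp hvb hvb1)
      (orderOf_of_isPGroup hc hNBp hk hk1) (hABc _ hv _ hvb) hkv.symm
      (mem_centralizer_iff.1 (hNB ▸ hk).2 vb hvb)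
  have hr : ¬ HasRank c NB := by
    rintro ⟨E, hE, hEc, hEexp, hEcard⟩
    obtain ⟨e, he, heo, v, hv, hv1, hev⟩ := exists_fixed_of_rank hc hEc hEexp hEcard
      (fun e he => hKA (hNK (hNB ▸ hE he).1)) (hnd ha hc hac hAp) hA1
    exact hv1 (hfree e (hE he) (fun e1 => hc.ne_one (by rw [← heo, e1, orderOf_one])) v hv hev)
  have hm1 : x * n * x⁻¹ * n⁻¹ ≠ 1 := fun e => hxn (by rwa [mul_inv_eq_one, mul_inv_eq_iff_eq_mul] at e)
  have hmem : x * n * x⁻¹ * n⁻¹ ∈ NB := by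
    rw [hNB]
    exact ⟨N.mul_mem ((mem_normalizer_iff.1 (hKN (hEdK hx)) n).1 hn) (N.inv_mem hn),
      mem_centralizer_iff.2 fun v hv => (hcom n hn v hv).symm⟩
  obtain ⟨i, hi⟩ := exists_pow_orderOf hc (orderOf_of_isPGroup hc hNBp hmem hm1)
  obtain ⟨u, hu⟩ : ∃ u, u = (x * n * x⁻¹ * n⁻¹) ^ i := ⟨_, rfl⟩
  rw [← hu] at hi
  have huNB : u ∈ NB := hu ▸ pow_mem hmem i
  have hu1 : u ≠ 1 := fun e => hc.ne_one (by rw [← hi, e, orderOf_one])
  have hnorm : ∀ k ∈ zpowers u, y * k * y⁻¹ ∈ zpowers u := by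
    intro k hk
    obtain ⟨j, rfl⟩ := mem_zpowers_iff.1 hk
    rw [← conj_zpow]
    refine zpow_mem (mem_zpowers_of_no_rank hc hNBp hr huNB ?_ hi
      (by rw [← MulAut.conj_apply, MulEquiv.orderOf_eq, hi])) j
    rw [hNB] at huNB ⊢
    refine ⟨(mem_normalizer_iff.1 (hKN (hEdK hy)) u).1 huNB.1, mem_centralizer_iff.2 fun v hv => ?_⟩
    have h1 := mem_centralizer_iff.1 huNB.2 _ ((mem_normalizer_iff''.1 (hKB (hEdK hy)) v).1 hv)
    calc v * (y * u * y⁻¹) = y * (y⁻¹ * v * y * u) * y⁻¹ := by group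
      _ = y * (u * (y⁻¹ * v * y)) * y⁻¹ := by rw [h1]
      _ = _ := by group
  by_cases hyu : Commute y u
  · exact tf.false3 hb hc hd hbc hbd hcd (orderOf_of_isPGroup hb hBp hvb hvb1) (dvd_of_eq hi.symm)
      (dvd_of_eq hyo.symm) (mem_centralizer_iff.1 (hNB ▸ huNB).2 vb hvb) hyvb.symm hyu.symm
  · obtain ⟨v, hv, hv1, hyv⟩ := fixed_of_frobenius (V := A) (A := zpowers u) (y := y) (hKA (hEdK hy))
      (zpowers_le.2 (hKA (hNK (hNB ▸ huNB).1))) hnorm
      (fun j hj k hk hjk => by_contra fun hk1 => hyu (by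
        rw [hyo] at hj
        obtain ⟨l, hl⟩ := exists_pow_eq_self_of_coprime (x := y) (n := j)
          (by rw [hyo]; exact ((hd.coprime_iff_not_dvd).2 hj).symm)
        have hko : orderOf k = c := by
          have := orderOf_dvd_natCard (⟨k, hk⟩ : zpowers u)
          rw [Subgroup.orderOf_mk, Nat.card_zpowers, hi] at this
          exact ((Nat.dvd_prime hc).1 this).resolve_left fun e => hk1 (orderOf_eq_one_iff.1 e)
        obtain ⟨s, hs⟩ := mem_zpowers_iff.1 (show u ∈ zpowers k by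
          rw [eq_of_le_of_card_ge (zpowers_le.2 hk) (by rw [Nat.card_zpowers, Nat.card_zpowers, hko, hi])]
          exact mem_zpowers u)
        exact hs ▸ (hl ▸ hjk.pow_left l).zpow_right s))
      (by rw [Nat.card_zpowers, hi]; exact (hcop ha hc hac hAp).symm)
      ⟨u, mem_zpowers u, va, hva, fun h1 => hva1 (hfree u huNB hu1 va hva h1)⟩
    exact tf.false3 ha hb hd hab had hbd (orderOf_of_isPGroup ha hAp hv hv1) (orderOf_of_isPGroup hb hBp hvb hvb1)
      (dvd_of_eq hyo.symm) (hABc _ hv _ hvb) hyv.symm hyvb.symm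

/-- The second configuration with a central involution. -/
theorem false_of_central_involution (tf : TripleFree G) {a b d : ℕ} (ha : a.Prime) (hb : b.Prime) (hd : d.Prime)
    (hab : a ≠ b) (ha2 : a ≠ 2) (hb2 : b ≠ 2) (hd2 : d ≠ 2) (had : a ≠ d) (hbd : b ≠ d)
    {A B K : Subgroup G} (hAc : IsMulCommutative A) (hBc : IsMulCommutative B)
    (hAp : IsPGroup a A) (hBp : IsPGroup b B) (hA1 : A ≠ ⊥) (hB1 : B ≠ ⊥)
    (hABc : ∀ x ∈ A, ∀ y ∈ B, Commute x y) (hKA : K ≤ normalizer (A : Set G))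
    (hKB : K ≤ normalizer (B : Set G)) (hKd : HasRank d K) (hK2 : HasRank 2 K)
    (hfaith : ∀ k ∈ K, (∀ v ∈ A, Commute k v) → (∀ v ∈ B, Commute k v) → k = 1)
    {z : G} (hzK : z ∈ K) (hzo : orderOf z = 2) (hz : ∀ k ∈ K, Commute z k) : False := by
  haveI := hAc
  haveI := hBc
  have hnd : ∀ {p q : ℕ} {H : Subgroup G}, p.Prime → q.Prime → p ≠ q → IsPGroup p H → ¬ q ∣ Nat.card H := by
    intro p q H hp hq hne hH hdvd
    haveI := Fact.mk hp
    obtain ⟨n, hn⟩ := IsPGroup.iff_card.1 hH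
    exact hne ((Nat.prime_dvd_prime_iff_eq hq hp).1 (hq.dvd_of_dvd_pow (hn ▸ hdvd))).symm
  obtain ⟨Ed, hEdK, hEdc, hEdexp, hEdcard⟩ := hKd
  have hinv : ∀ {W : Subgroup G}, IsMulCommutative W → ∀ {t : G}, t ^ 2 = 1 → t ∈ normalizer (W : Set G) →
      (∀ v ∈ W, Commute t v → v = 1) → ∀ v ∈ W, t * v * t⁻¹ = v⁻¹ := fun {W} hWc {t} ht htn hfree v hv => by
    have hv' : t * v * t⁻¹ ∈ W := (mem_normalizer_iff.1 htn v).1 hv
    have hc : v * (t * v * t⁻¹) = t * v * t⁻¹ * v :=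
      congrArg Subtype.val (hWc.is_comm.comm (⟨v, hv⟩ : W) ⟨_, hv'⟩)
    have ht' : t⁻¹ = t := inv_eq_of_mul_eq_one_right (by rw [← pow_two, ht])
    refine eq_inv_of_mul_eq_one_left (hfree _ (mul_mem hv' hv) ?_)
    show t * (t * v * t⁻¹ * v) = t * v * t⁻¹ * v * t
    calc t * (t * v * t⁻¹ * v) = (t * t) * v * t⁻¹ * v := by group
      _ = v * (t * v) := by rw [← pow_two, ht, ht']; group
      _ = v * (t * v * t⁻¹) * t := by group
      _ = _ := by rw [hc]
  -- the central involution inverts both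
  have hzfree : ∀ {p : ℕ} {W : Subgroup G}, p.Prime → p ≠ 2 → p ≠ d → IsPGroup p W →
      K ≤ normalizer (W : Set G) → ∀ v ∈ W, Commute z v → v = 1 := fun {p W} hp hp2 hpd hW hKW v hv hc =>
    by_contra fun hv1 => by
      obtain ⟨e, he, heo, w, hw, hw1, hew⟩ := exists_fixed_of_rank hd hEdc hEdexp hEdcard
        (V := W ⊓ centralizer ({z} : Set G))
        (fun e he => inf_centralizer_normalized (hKW (hEdK he)) (hz e (hEdK he)).symm)
        (fun hh => hnd hp hd hpd hW (hh.trans (card_dvd_of_le inf_le_left)))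
        (fun e => hv1 (by
          have : v ∈ W ⊓ centralizer ({z} : Set G) := ⟨hv, mem_centralizer_singleton_iff.2 hc.eq.symm⟩
          rwa [e, Subgroup.mem_bot] at this))
      exact tf.false3 hp Nat.prime_two hd hp2 hpd hd2.symm (orderOf_of_isPGroup hp hW hw.1 hw1)
        (dvd_of_eq hzo.symm) (dvd_of_eq heo.symm) (mem_centralizer_singleton_iff.1 hw.2) hew.symm
        (hz e (hEdK he))
  have hzA := hinv hAc (hzo ▸ pow_orderOf_eq_one z) (hKA hzK) (hzfree ha ha2 had hAp hKA)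
  have hzB := hinv hBc (hzo ▸ pow_orderOf_eq_one z) (hKB hzK) (hzfree hb hb2 hbd hBp hKB)
  -- an involution centralising one and inverting the other
  have key : ∀ {p q : ℕ} {P Q : Subgroup G}, p.Prime → p ≠ 2 → p ≠ d → IsPGroup p P → P ≠ ⊥ →
      K ≤ normalizer (P : Set G) → K ≤ normalizer (Q : Set G) → (∀ k ∈ K, (∀ v ∈ P, Commute k v) →
      (∀ v ∈ Q, Commute k v) → k = 1) → ∀ t ∈ K, orderOf t = 2 → (∀ v ∈ P, Commute t v) →
      (∀ v ∈ Q, t * v * t⁻¹ = v⁻¹) → False := by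
    intro p q P Q hp hp2 hpd hP hP1 hKP hKQ hf t ht hto htP htQ
    obtain ⟨e, he, heo, w, hw, hw1, hew⟩ := exists_fixed_of_rank hd hEdc hEdexp hEdcard (hEdK.trans hKP)
      (hnd hp hd hpd hP) hP1
    have heK := hEdK he
    have hk : e * t * e⁻¹ * t⁻¹ = 1 := by
      refine hf _ (mul_mem (mul_mem (mul_mem heK ht) (inv_mem heK)) (inv_mem ht)) (fun v hv => ?_) fun v hv => ?_
      · have h1 := htP _ ((mem_normalizer_iff''.1 (hKP heK) v).1 hv)
        show e * t * e⁻¹ * t⁻¹ * v = v * (e * t * e⁻¹ * t⁻¹)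
        calc e * t * e⁻¹ * t⁻¹ * v = e * t * e⁻¹ * (t⁻¹ * v) := by group
          _ = e * t * e⁻¹ * (v * t⁻¹) := by rw [(htP v hv).inv_left.eq]
          _ = e * (t * (e⁻¹ * v * e)) * e⁻¹ * t⁻¹ := by group
          _ = e * (e⁻¹ * v * e * t) * e⁻¹ * t⁻¹ := by rw [h1.eq]
          _ = _ := by group
      · have h1 := htQ _ ((mem_normalizer_iff''.1 (hKQ heK) v).1 hv)
        have h2 : t⁻¹ * v * t = v⁻¹ := by
          rw [← htQ v hv, inv_eq_of_mul_eq_one_right (show t * t = 1 by rw [← pow_two, ← hto, pow_orderOf_eq_one])]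
        show e * t * e⁻¹ * t⁻¹ * v = v * (e * t * e⁻¹ * t⁻¹)
        calc e * t * e⁻¹ * t⁻¹ * v = e * t * e⁻¹ * (t⁻¹ * v * t) * t⁻¹ := by group
          _ = e * (t * (e⁻¹ * v * e)⁻¹ * t⁻¹) * t * e⁻¹ * t⁻¹ := by rw [h2]; group
          _ = e * (t * (e⁻¹ * v * e) * t⁻¹)⁻¹ * t * e⁻¹ * t⁻¹ := by group
          _ = _ := by rw [h1, inv_inv]; group
    have het : Commute e t := by rwa [mul_inv_eq_one, mul_inv_eq_iff_eq_mul] at hk
    exact tf.false3 hp Nat.prime_two hd hp2 hpd hd2.symm (orderOf_of_isPGroup hp hP hw hw1)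
      (dvd_of_eq hto.symm) (dvd_of_eq heo.symm) (htP w hw).symm hew.symm het.symm
  obtain ⟨E2, hE2K, hE2c, hE2exp, hE2card⟩ := hK2
  obtain ⟨s, hsE, hsz⟩ : ∃ s ∈ E2, s ∉ zpowers z := by
    by_contra hcon
    push Not at hcon
    have := Subgroup.card_le_card_group (E2.subgroupOf (zpowers z))
    rw [Nat.card_congr (subgroupOfEquivOfLe hcon).toEquiv, Nat.card_zpowers, hzo] at this
    omega
  have hs2 : s ^ 2 = 1 := hE2exp s hsE
  have hs1 : s ≠ 1 := fun e => hsz (e ▸ one_mem _)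
  have hso : orderOf s = 2 := orderOf_eq_prime hs2 hs1
  have hsz' : Commute z s := hz s (hE2K hsE)
  have hszo : orderOf (s * z) = 2 := orderOf_eq_prime
    (by rw [hsz'.symm.mul_pow, hs2, ← hzo, pow_orderOf_eq_one, one_mul])
    (fun e => hsz (by rw [eq_inv_of_mul_eq_one_left e]; exact inv_mem (mem_zpowers z)))
  -- `s z` centralises what `s` inverts
  have hswap : ∀ {W : Subgroup G}, (∀ v ∈ W, z * v * z⁻¹ = v⁻¹) → (∀ v ∈ W, s * v * s⁻¹ = v⁻¹) →
      ∀ v ∈ W, Commute (s * z) v := fun {W} hzW hsW v hv => by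
    show s * z * v = v * (s * z)
    calc s * z * v = s * (z * v * z⁻¹) * z := by group
      _ = s * v⁻¹ * z := by rw [hzW v hv]
      _ = (s * v * s⁻¹)⁻¹ * (s * z) := by group
      _ = _ := by rw [hsW v hv, inv_inv]
  by_cases hsA : ∀ v ∈ A, Commute s v → v = 1
  · have hA' := hswap hzA (hinv hAc hs2 (hKA (hE2K hsE)) hsA)
    refine key (Q := B) (q := b) ha ha2 had hAp hA1 hKA hKB hfaith (s * z) (mul_mem (hE2K hsE) hzK) hszo hA'
      (hinv hBc (hszo ▸ pow_orderOf_eq_one _) (hKB (mul_mem (hE2K hsE) hzK)) fun v hv hc => ?_)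
    by_contra hv1
    obtain ⟨w, hw, hw1⟩ := A.bot_or_exists_ne_one.resolve_left hA1
    exact tf.false3 ha hb Nat.prime_two hab ha2 hb2 (orderOf_of_isPGroup ha hAp hw hw1)
      (orderOf_of_isPGroup hb hBp hv hv1) (dvd_of_eq hszo.symm) (hABc w hw v hv) (hA' w hw).symm hc.symm
  · push Not at hsA
    obtain ⟨w, hw, hsw, hw1⟩ := hsA
    have hsB : ∀ v ∈ B, Commute s v → v = 1 := fun v hv hc => by_contra fun hv1 =>
      tf.false3 ha hb Nat.prime_two hab ha2 hb2 (orderOf_of_isPGroup ha hAp hw hw1)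
        (orderOf_of_isPGroup hb hBp hv hv1) (dvd_of_eq hso.symm) (hABc w hw v hv) hsw.symm hc.symm
    have hB' := hswap hzB (hinv hBc hs2 (hKB (hE2K hsE)) hsB)
    refine key (Q := A) (q := a) hb hb2 hbd hBp hB1 hKB hKA (fun k hk h1 h2 => hfaith k hk h2 h1) (s * z)
      (mul_mem (hE2K hsE) hzK) hszo hB'
      (hinv hAc (hszo ▸ pow_orderOf_eq_one _) (hKA (mul_mem (hE2K hsE) hzK)) fun v hv hc => ?_)
    by_contra hv1
    obtain ⟨u, hu, hu1⟩ := B.bot_or_exists_ne_one.resolve_left hB1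
    exact tf.false3 ha hb Nat.prime_two hab ha2 hb2 (orderOf_of_isPGroup ha hAp hv hv1)
      (orderOf_of_isPGroup hb hBp hu hu1) (dvd_of_eq hszo.symm) (hABc v hv u hu) hc.symm (hB' u hu).symm

end CfsgLib.SzSq
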