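import Cfsg.Agent.Lib.SzSq.Orders
import Cfsg.Agent.Lib.ThreePrimeUse.Basic
import Cfsg.Agent.Lib.Known.SuzukiAut
import Cfsg.Agent.S0324

/-!
Owner: helper19. Suzuki groups over smaller fields in the four classes.
-/

set_option autoImplicit false
set_option linter.unusedSectionVars false

namespace CfsgLib.SzSq

open Subgroup CfsgLib.Lie.Suzuki

universe u

variable {m k : ℕ}

/-- The primes of the smaller groups keep their classes. -/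
theorem sub_class (hm : 1 ≤ m) (hd : 2 * k + 1 ∣ 2 * m + 1) (hk : 1 ≤ k) {p : ℕ} (hp : p.Prime) {i : Fin 4}
    (hi : p ∣ cl k i) : ∃ j, p ∣ cl m j ∧ (i = 0 ↔ j = 0) ∧ (i = 1 ↔ j = 1) := by
  rcases eq_or_ne i 0 with rfl | h0
  · exact ⟨0, hi, by simp⟩
  rcases eq_or_ne i 1 with rfl | h1
  · exact ⟨1, hi.trans (Nat.pow_sub_one_dvd_pow_sub_one 2 hd), by simp⟩
  obtain ⟨-, -, hkp⟩ := CIT.SzPrimeGraph.q_facts k hk
  obtain ⟨-, -, hmp⟩ := CIT.SzPrimeGraph.q_facts m hm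
  have hpk : p ∣ (2 ^ (2 * k + 1)) ^ 2 + 1 := by
    rw [← hkp]
    fin_cases i
    · exact absurd rfl h0
    · exact absurd rfl h1
    · exact dvd_mul_of_dvd_left hi _
    · exact dvd_mul_of_dvd_right hi _
  have hpm : p ∣ (2 ^ (2 * m + 1)) ^ 2 + 1 := by
    obtain ⟨c, hc⟩ := hd
    have ho : Odd c := by
      rcases Nat.even_or_odd c with he | he
      · exfalso
        obtain ⟨d, rfl⟩ := he
        have : (2 * k + 1) * (d + d) = 2 * ((2 * k + 1) * d) := by ring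
        omega
      · exact he
    rw [hc, show (2 ^ ((2 * k + 1) * c)) ^ 2 = ((2 ^ (2 * k + 1)) ^ 2) ^ c by rw [← pow_mul, ← pow_mul, ← pow_mul]; congr 1; ring]
    refine hpk.trans ?_
    simpa using ho.nat_add_dvd_pow_add_pow ((2 ^ (2 * k + 1)) ^ 2) 1
  rw [← hmp] at hpm
  rcases hp.dvd_mul.1 hpm with h | h
  · exact ⟨2, h, by simp [h0], by simp [h1]⟩
  · exact ⟨3, h, by simp [h0], by simp [h1]⟩

/-- A smaller group has all its prime orders inside the classes only for a subfield. -/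
theorem dvd_of_classes (hm : 1 ≤ m) (hk : 1 ≤ k)
    (h : ∀ p : ℕ, p.Prime → p ∣ (2 ^ (2 * k + 1)) ^ 2 + 1 → ∃ i, p ∣ cl m i) : 2 * k + 1 ∣ 2 * m + 1 := by
  obtain ⟨r, hr, hr2, hr4, hrq, hppd⟩ := CIT.SzPrimeGraph.exists_ppd k
  obtain ⟨i, hi⟩ := h r hr hrq
  obtain ⟨-, -, hmp⟩ := CIT.SzPrimeGraph.q_facts m hm
  have hd : r ∣ (2 ^ (2 * m + 1)) ^ 2 * ((2 ^ (2 * m + 1)) ^ 2 + 1) * (2 ^ (2 * m + 1) - 1) := by
    fin_cases i
    · exact absurd (class_zero hr hi) hr2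
    · exact dvd_mul_of_dvd_right hi _
    · exact dvd_mul_of_dvd_left (dvd_mul_of_dvd_right (hmp ▸ dvd_mul_of_dvd_left hi _) _) _
    · exact dvd_mul_of_dvd_left (dvd_mul_of_dvd_right (hmp ▸ dvd_mul_of_dvd_right hi _) _) _
  have h4 := CIT.SzPrimeGraph.dvd_of_ppd (n := 2 * k + 1) (by omega) (by omega) hr hr2 hppd hr4 hd
  exact Nat.dvd_of_mul_dvd_mul_left (by norm_num) h4

section Suzuki

variable {F : Type} [Field F] [Fintype F] (hF : Fintype.card F = 2 ^ (2 * k + 1))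

include hF in
/-- Elements of prime order in the four classes. -/
theorem exists_sz_prime (hm : 1 ≤ m) (hk : 1 ≤ k) (hd : 2 * k + 1 ∣ 2 * m + 1) :
    (∃ t : Cfsg.Sz F k, orderOf t = 2) ∧
    (∃ (t : Cfsg.Sz F k) (p : ℕ), p.Prime ∧ orderOf t = p ∧ p ∣ cl m 1) ∧
    (∃ (t : Cfsg.Sz F k) (p : ℕ) (j : Fin 4), p.Prime ∧ orderOf t = p ∧ p ∣ cl m j ∧ j ≠ 0 ∧ j ≠ 1) := by
  haveI : Finite (Cfsg.Sz F k) := Subtype.finite
  have key : ∀ i, ∃ (t : Cfsg.Sz F k) (p : ℕ), p.Prime ∧ orderOf t = p ∧ p ∣ cl k i := fun i => by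
    obtain ⟨g, hg⟩ := exists_sz_order hF hk i
    obtain ⟨p, hp, hpd⟩ := Nat.exists_prime_and_dvd (one_lt_cl hk i).ne'
    obtain ⟨a, ha⟩ := exists_pow_orderOf hp (hg ▸ hpd : p ∣ orderOf g)
    exact ⟨g ^ a, p, hp, ha, hpd⟩
  obtain ⟨t0, p0, hp0, ht0, hd0⟩ := key 0
  obtain ⟨t1, p1, hp1, ht1, hd1⟩ := key 1
  obtain ⟨t2, p2, hp2, ht2, hd2⟩ := key 2
  obtain ⟨j1, hj1, -, e1⟩ := sub_class hm hd hk hp1 hd1
  obtain ⟨j2, hj2, e20, e21⟩ := sub_class hm hd hk hp2 hd2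
  refine ⟨⟨t0, ht0.trans (class_zero hp0 hd0)⟩, ⟨t1, p1, hp1, ht1, (e1.1 rfl) ▸ hj1⟩,
    ⟨t2, p2, j2, hp2, ht2, hj2, fun e => ?_, fun e => ?_⟩⟩
  · exact absurd (e20.2 e) (by decide)
  · exact absurd (e21.2 e) (by decide)

include hF in
/-- An automorphism of two-power order is inner. -/
theorem inner_of_two (hk : 1 ≤ k) {φ : MulAut (Cfsg.Sz F k)} {a : ℕ} (h : φ ^ 2 ^ a = 1) :
    ∃ s : Cfsg.Sz F k, φ = MulAut.conj s := by
  haveI := charTwo_of_card hF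
  haveI : Finite (Cfsg.Sz F k) := Subtype.finite
  haveI : Finite (MulAut (Cfsg.Sz F k)) :=
    Finite.of_injective (fun f => (f : Cfsg.Sz F k → Cfsg.Sz F k)) DFunLike.coe_injective
  have hmem : φ ∈ Cfsg.Inn (Cfsg.Sz F k) := by
    rw [← QuotientGroup.eq_one_iff]
    obtain ⟨x, hx⟩ : ∃ x : Cfsg.Out (Cfsg.Sz F k), x = QuotientGroup.mk φ := ⟨_, rfl⟩
    have h1 : x ^ (2 ^ a) = 1 := by rw [hx, ← QuotientGroup.mk_pow, h, QuotientGroup.mk_one]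
    have h2 : x ^ (2 * k + 1) = 1 := by
      rw [← CfsgLib.Known.SuzukiAut.card_out hF hk]
      exact pow_card_eq_one'
    have hc : (2 ^ a).Coprime (2 * k + 1) := (Nat.coprime_two_left.2 ⟨k, rfl⟩).pow_left a
    show QuotientGroup.mk φ = (1 : Cfsg.Out (Cfsg.Sz F k))
    rw [← hx, ← orderOf_eq_one_iff]
    exact Nat.eq_one_of_dvd_coprimes hc (orderOf_dvd_of_pow_eq_one h1) (orderOf_dvd_of_pow_eq_one h2)
  obtain ⟨s, hs⟩ := hmem
  exact ⟨s, hs.symm⟩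

end Suzuki

end CfsgLib.SzSq
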