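import Cfsg.Agent.Lib.SzSq.Frame
import Cfsg.Agent.Lib.SzSq.Sub
import Cfsg.Agent.Lib.Core.Nilpotent

/-!
Owner: helper19. Minimal covers of Suzuki groups inside a group with element orders in two classes.
-/

set_option autoImplicit false
set_option linter.unusedSectionVars false

namespace CfsgLib.SzSq

open Subgroup CfsgLib.Lie.Suzuki
open scoped Pointwise

universe u

/-- The two facts on the actions of Suzuki groups. -/
structure FixFacts : Prop where
  fixed : ∀ {F : Type} [Field F] [Fintype F] {k : ℕ}, 1 ≤ k → Fintype.card F = 2 ^ (2 * k + 1) →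
    ∀ {V : Type u} [CommGroup V] [Finite V] [Nontrivial V] {l : ℕ}, l.Prime → l ≠ 2 → (∀ v : V, v ^ l = 1) →
      ∀ (ρ : Cfsg.Sz F k →* MulAut V) {x : Cfsg.Sz F k}, (orderOf x).Prime → orderOf x ≠ l →
        ∃ v : V, v ≠ 1 ∧ ρ x v = v
  cent : ∀ {F : Type} [Field F] [Fintype F] {k : ℕ}, 1 ≤ k → Fintype.card F = 2 ^ (2 * k + 1) →
    ∀ {G : Type u} [Group G] [Finite G], (∀ g : G, orderOf g ≠ 8) → ∀ {H N : Subgroup G} [IsMulCommutative N],
      (∀ v ∈ N, v ^ 2 = 1) → H ≤ normalizer (N : Set G) → ∀ f : H →* Cfsg.Sz F k, Function.Surjective f →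
        (∀ S : Subgroup H, S.map f = ⊤ → S = ⊤) → ∀ h : H, ∀ v ∈ N, Commute (h : G) v

/-- A minimal cover of a Suzuki group of a subfield. -/
structure IsCover (m : ℕ) {G : Type u} [Group G] {F : Type} [Field F] [Fintype F] {k : ℕ}
    {E : Subgroup G} (f : E →* Cfsg.Sz F k) : Prop where
  hk : 1 ≤ k
  card : Fintype.card F = 2 ^ (2 * k + 1)
  dvd : 2 * k + 1 ∣ 2 * m + 1
  surj : Function.Surjective f
  min : ∀ S : Subgroup E, S.map f = ⊤ → S = ⊤

variable {G : Type u} [Group G] [Finite G] {m : ℕ} {F : Type} [Field F] [Fintype F] {k : ℕ}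

/-- Minimal covers exist inside every supplement of the kernel. -/
theorem exists_cover (hk : 1 ≤ k) (hF : Fintype.card F = 2 ^ (2 * k + 1)) (hd : 2 * k + 1 ∣ 2 * m + 1)
    {R : Subgroup G} {H : Subgroup G} (g : H →* Cfsg.Sz F k) (hg : Function.Surjective g)
    (hker : ∀ h : H, g h = 1 ↔ (h : G) ∈ R) {M : Subgroup G}
    (hM : ∀ h ∈ H, ∃ x ∈ M, ∃ r ∈ R, h = x * r) (hR : R ≤ H) :
    ∃ (E : Subgroup G) (f : E →* Cfsg.Sz F k), E ≤ M ∧ E ≤ H ∧ IsCover m f ∧
      ∀ e : E, f e = 1 ↔ (e : G) ∈ R := by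
  obtain ⟨E, ⟨⟨hEM, hEH, hsurj⟩, hmin⟩⟩ := Set.Finite.exists_minimal
    (s := {S : Subgroup G | S ≤ M ∧ S ≤ H ∧ ∀ z, ∃ x : H, (x : G) ∈ S ∧ g x = z}) (Set.toFinite _)
    ⟨M ⊓ H, inf_le_left, inf_le_right, fun z => by
      obtain ⟨h, rfl⟩ := hg z
      obtain ⟨x, hx, r, hr, e⟩ := hM h h.2
      have hxH : x ∈ H := by
        rw [show x = (h : G) * r⁻¹ by rw [e, mul_inv_cancel_right]]
        exact mul_mem h.2 (inv_mem (hR hr))
      refine ⟨⟨x, hxH⟩, ⟨hx, hxH⟩, ?_⟩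
      rw [show h = ⟨x, hxH⟩ * ⟨r, hR hr⟩ from Subtype.ext e, map_mul, (hker ⟨r, hR hr⟩).2 hr, mul_one]⟩
  refine ⟨E, g.comp (inclusion hEH), hEM, hEH, ⟨hk, hF, hd, fun z => ?_, fun S hS => ?_⟩, fun e => hker _⟩
  · obtain ⟨x, hx, hxz⟩ := hsurj z
    exact ⟨⟨x, hx⟩, hxz⟩
  · have hle : S.map E.subtype ≤ E := map_subtype_le S
    have h := hmin ⟨hle.trans hEM, hle.trans hEH, fun z => by
      obtain ⟨s, hs, hsz⟩ : z ∈ S.map (g.comp (inclusion hEH)) := hS ▸ mem_top z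
      exact ⟨inclusion hEH s, mem_map_of_mem E.subtype hs, hsz⟩⟩ hle
    refine eq_top_iff.2 fun e _ => ?_
    obtain ⟨s, hs, hse⟩ := h e.2
    exact Subtype.ext hse ▸ hs

namespace IsCover

variable {E : Subgroup G} {f : E →* Cfsg.Sz F k}

theorem perfect (hc : IsCover m f) : commutator E = ⊤ :=
  cover_perfect hc.hk hc.card hc.surj hc.min

/-- The image of a cover is a cover. -/
theorem image (hc : IsCover m f) {G' : Type u} [Group G'] (φ : E →* G') (hφ : φ.ker ≤ f.ker) :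
    ∃ f' : φ.range →* Cfsg.Sz F k, IsCover m f' ∧ ∀ e : E, f' (φ.rangeRestrict e) = f e := by
  refine ⟨φ.rangeRestrict.liftOfSurjective φ.rangeRestrict_surjective ⟨f, by rwa [MonoidHom.ker_rangeRestrict]⟩,
    ?_⟩
  have key : ∀ e : E, φ.rangeRestrict.liftOfSurjective φ.rangeRestrict_surjective
      ⟨f, by rwa [MonoidHom.ker_rangeRestrict]⟩ (φ.rangeRestrict e) = f e := fun e =>
    MonoidHom.liftOfRightInverse_comp_apply _ _ _ _ e
  refine ⟨⟨hc.hk, hc.card, hc.dvd, fun z => ?_, fun S hS => ?_⟩, key⟩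
  · obtain ⟨e, rfl⟩ := hc.surj z
    exact ⟨_, key e⟩
  · have h := hc.min (S.comap φ.rangeRestrict) (eq_top_iff.2 fun z _ => by
      obtain ⟨s, hs, rfl⟩ : z ∈ S.map _ := hS ▸ mem_top z
      obtain ⟨e, rfl⟩ := φ.rangeRestrict_surjective s
      exact ⟨e, hs, (key e).symm⟩)
    refine eq_top_iff.2 fun s _ => ?_
    obtain ⟨e, rfl⟩ := φ.rangeRestrict_surjective s
    exact mem_comap.1 (h ▸ mem_top e : e ∈ S.comap φ.rangeRestrict)

/-- A normal two-subgroup of a cover is in the kernel. -/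
theorem two_le_ker (hc : IsCover m f) (N : Subgroup E) [N.Normal] (hN : IsPGroup 2 N) : N ≤ f.ker := by
  refine (cover_dichotomy hc.hk hc.card hc.surj hc.min N).resolve_right fun e => ?_
  haveI : Fact (Nat.Prime 2) := ⟨Nat.prime_two⟩
  obtain ⟨g, hg⟩ := exists_sz_order hc.card hc.hk 1
  obtain ⟨x, rfl⟩ := hc.surj g
  obtain ⟨j, hj⟩ := hN ⟨x, e ▸ mem_top x⟩
  have h1 : orderOf (f x) ∣ 2 ^ j := (orderOf_map_dvd f x).trans
    (orderOf_dvd_of_pow_eq_one (congrArg Subtype.val hj))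
  rw [hg] at h1
  obtain ⟨i, -, hi⟩ := (Nat.dvd_prime_pow Nat.prime_two).1 h1
  have hodd := cl_odd (m := k) (i := (1 : Fin 4)) (by decide)
  have hlt := one_lt_cl hc.hk (1 : Fin 4)
  rw [hi] at hodd hlt
  rcases Nat.eq_zero_or_pos i with h0 | h0
  · rw [h0, pow_zero] at hlt; omega
  · exact Nat.not_even_iff_odd.2 hodd (Nat.even_pow.2 ⟨even_two, h0.ne'⟩)

/-- A cover centralises an abelian group on which it acts by an abelian group of automorphisms. -/
theorem centralizes_cyclic (hc : IsCover m f) {B : Subgroup G} (hB : IsCyclic B)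
    (hEB : E ≤ normalizer (B : Set G)) : ∀ e ∈ E, ∀ b ∈ B, Commute e b := by
  intro e he b hb
  obtain ⟨ψ, hψ⟩ : ∃ ψ : E →* MulAut B, ψ = B.normalizerMonoidHom.comp (inclusion hEB) := ⟨_, rfl⟩
  have hcomm : ∀ σ τ : MulAut B, σ * τ = τ * σ := fun σ τ => by
    obtain ⟨g, hg⟩ := hB.exists_generator
    obtain ⟨i, hi⟩ := mem_zpowers_iff.1 (hg (σ g))
    obtain ⟨j, hj⟩ := mem_zpowers_iff.1 (hg (τ g))
    refine MulEquiv.ext fun w => ?_
    obtain ⟨l, rfl⟩ := mem_zpowers_iff.1 (hg w)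
    simp only [MulAut.mul_apply, map_zpow, ← hi, ← hj, ← zpow_mul, mul_comm, mul_left_comm]
  have h1 : commutator E ≤ ψ.ker := by
    rw [_root_.commutator_def, commutator_le]
    intro a _ c _
    rw [MonoidHom.mem_ker, map_commutatorElement, commutatorElement_eq_one_iff_commute]
    exact hcomm _ _
  rw [hc.perfect] at h1
  have h2 := congrArg Subtype.val (DFunLike.congr_fun (MonoidHom.mem_ker.1 (h1 (mem_top ⟨e, he⟩))) ⟨b, hb⟩)
  subst hψ
  exact mul_inv_eq_iff_eq_mul.1 (show e * b * e⁻¹ = b from h2)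

section

variable (hfix : FixFacts.{u}) (hm : 1 ≤ m) (hG : Good m G)

include hfix hm hG in
/-- A cover centralises every two-group it normalises. -/
theorem centralizes_two : ∀ (n : ℕ) (G' : Type u) [Group G'] [Finite G'] (E' P : Subgroup G') (f' : E' →* Cfsg.Sz F k),
    Good m G' → IsCover m f' → Nat.card P = n → IsPGroup 2 P → E' ≤ normalizer (P : Set G') →
      ∀ e ∈ E', ∀ x ∈ P, Commute e x := by
  intro n
  induction n using Nat.strong_induction_on with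
  | _ n ih =>
    intro G' _ _ E' P f' hG' hc' hcard hP hEP
    haveI : Fact (Nat.Prime 2) := ⟨Nat.prime_two⟩
    rcases eq_or_ne P ⊥ with rfl | hPne
    · intro e _ x hx
      rw [mem_bot] at hx
      rw [hx]
      exact Commute.one_right e
    haveI : Nontrivial P := P.nontrivial_iff_ne_bot.2 hPne
    haveI := hP.center_nontrivial
    -- the central involutions
    obtain ⟨Z, hZ⟩ : ∃ Z : Subgroup G', ∀ x, x ∈ Z ↔ x ∈ P ∧ x ^ 2 = 1 ∧ ∀ w ∈ P, Commute x w := by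
      refine ⟨{
        carrier := {x | x ∈ P ∧ x ^ 2 = 1 ∧ ∀ w ∈ P, Commute x w}
        one_mem' := ⟨one_mem _, one_pow 2, fun w _ => Commute.one_left w⟩
        mul_mem' := fun {a b} ha hb => ⟨mul_mem ha.1 hb.1, by
          rw [(ha.2.2 b hb.1).mul_pow, ha.2.1, hb.2.1, one_mul], fun w hw => (ha.2.2 w hw).mul_left (hb.2.2 w hw)⟩
        inv_mem' := fun {a} ha => ⟨inv_mem ha.1, by rw [inv_pow, ha.2.1, inv_one], fun w hw => (ha.2.2 w hw).inv_left⟩ },
        fun x => Iff.rfl⟩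
    have hZP : Z ≤ P := fun x hx => ((hZ x).1 hx).1
    haveI : IsMulCommutative Z := ⟨⟨fun a b => Subtype.ext (((hZ a).1 a.2).2.2 b (hZP b.2)).eq⟩⟩
    have hZne : Z ≠ ⊥ := by
      obtain ⟨z, hz⟩ := exists_prime_orderOf_dvd_card' (G := Subgroup.center P) 2 (by
        obtain ⟨i, hi⟩ := IsPGroup.iff_card.1 (hP.to_subgroup (Subgroup.center P))
        rw [hi]
        refine dvd_pow_self 2 fun e => ?_
        rw [e, pow_zero] at hi
        exact (Finite.one_lt_card (α := Subgroup.center P)).ne' hi)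
      intro e
      have hmem : ((z : P) : G') ∈ Z := (hZ _).2 ⟨(z : P).2, by
        rw [← orderOf_dvd_iff_pow_eq_one, Subgroup.orderOf_coe, Subgroup.orderOf_coe, hz],
        fun w hw => (congrArg Subtype.val (Subgroup.mem_center_iff.1 z.2 ⟨w, hw⟩)).symm⟩
      rw [e, mem_bot, ← orderOf_eq_one_iff, Subgroup.orderOf_coe, Subgroup.orderOf_coe, hz] at hmem
      omega
    have hinvar : ∀ g ∈ normalizer (P : Set G'), g ∈ normalizer (Z : Set G') := fun g hg => by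
      have key : ∀ g ∈ normalizer (P : Set G'), ∀ x ∈ Z, g * x * g⁻¹ ∈ Z := fun g hg x hx => by
        obtain ⟨hx1, hx2, hx3⟩ := (hZ x).1 hx
        refine (hZ _).2 ⟨((mem_normalizer_iff.1 hg) x).1 hx1, by rw [conj_pow, hx2, mul_one, mul_inv_cancel],
          fun w hw => ?_⟩
        have h := (hx3 (g⁻¹ * w * g) (((mem_normalizer_iff''.1 hg) w).1 hw)).map (MulAut.conj g)
        simpa [MulAut.conj_apply, mul_assoc] using h
      refine mem_normalizer_iff.2 fun x => ⟨key g hg x, fun hx => ?_⟩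
      have := key g⁻¹ (inv_mem hg) _ hx
      rwa [inv_inv, show g⁻¹ * (g * x * g⁻¹) * g = x by group] at this
    have hEZ : E' ≤ normalizer (Z : Set G') := fun e he => hinvar e (hEP he)
    have hPZ : P ≤ normalizer (Z : Set G') := fun e he => hinvar e (le_normalizer he)
    have hcentZ : ∀ h : E', ∀ v ∈ Z, Commute (h : G') v :=
      hfix.cent hc'.hk hc'.card (fun g hg => hG'.no_eight hm g (dvd_of_eq hg.symm))
        (fun v hv => ((hZ v).1 hv).2.1) hEZ f' hc'.surj hc'.min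
    -- the quotient
    obtain ⟨Nz, hNz⟩ : ∃ Nz, Nz = normalizer (Z : Set G') := ⟨_, rfl⟩
    obtain ⟨Zs, hZs⟩ : ∃ Zs : Subgroup Nz, Zs = Z.subgroupOf Nz := ⟨_, rfl⟩
    haveI : Zs.Normal := by
      rw [hZs]
      subst hNz
      exact normal_in_normalizer
    obtain ⟨q, hq⟩ : ∃ q : Nz →* Nz ⧸ Zs, q = QuotientGroup.mk' Zs := ⟨_, rfl⟩
    have hqk : ∀ x : Nz, q x = 1 ↔ (x : G') ∈ Z := fun x => by
      rw [hq, QuotientGroup.mk'_apply, QuotientGroup.eq_one_iff, hZs, mem_subgroupOf]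
    obtain ⟨φ, hφ⟩ : ∃ φ : E' →* Nz ⧸ Zs, ∀ e : E', φ e = q ⟨e, hNz ▸ hEZ e.2⟩ :=
      ⟨q.comp (inclusion (hNz ▸ hEZ)), fun e => rfl⟩
    have hφk : ∀ e, e ∈ φ.ker ↔ (e : G') ∈ Z := fun e => by rw [MonoidHom.mem_ker, hφ, hqk]
    have hker : φ.ker ≤ f'.ker := hc'.two_le_ker φ.ker fun e => ⟨1, by
      have h := ((hZ _).1 ((hφk _).1 e.2)).2.1
      exact Subtype.ext (Subtype.ext (by rw [pow_one]; exact h))⟩
    obtain ⟨f'', hc'', -⟩ := hc'.image φ hker
    obtain ⟨P', hP'⟩ : ∃ P' : Subgroup (Nz ⧸ Zs), P' = (P.subgroupOf Nz).map q := ⟨_, rfl⟩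
    have hPle : P ≤ Nz := hNz ▸ hPZ
    have hP'lt : Nat.card P' < n := by
      rw [hP', ← relIndex_ker, ← hcard, ← Nat.card_congr (subgroupOfEquivOfLe hPle).toEquiv]
      refine lt_of_le_of_ne (Nat.le_of_dvd Nat.card_pos ((q.ker.subgroupOf _).index_dvd_card)) fun e => ?_
      have h1 := (q.ker.subgroupOf (P.subgroupOf Nz)).card_mul_index
      obtain ⟨z, hz, hz1⟩ := Z.bot_or_exists_ne_one.resolve_left hZne
      have hb : q.ker.subgroupOf (P.subgroupOf Nz) = ⊥ := by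
        refine card_eq_one.1 ?_
        rw [relIndex] at e
        rw [e] at h1
        exact Nat.eq_of_mul_eq_mul_right (Nat.card_pos (α := P.subgroupOf Nz)) (h1.trans (one_mul _).symm)
      have hmem : (⟨⟨z, hPle (hZP hz)⟩, hZP hz⟩ : P.subgroupOf Nz) ∈ q.ker.subgroupOf (P.subgroupOf Nz) :=
        (hqk _).2 hz
      rw [hb, mem_bot] at hmem
      exact hz1 (congrArg (fun w : P.subgroupOf Nz => ((w : Nz) : G')) hmem)
    have hP'2 : IsPGroup 2 P' := hP' ▸ (hP.comap_of_injective Nz.subtype Nz.subtype_injective).map q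
    have hnorm : φ.range ≤ normalizer (P' : Set (Nz ⧸ Zs)) := by
      rintro _ ⟨e, rfl⟩
      rw [hP', hφ]
      refine le_normalizer_map q (mem_map_of_mem q ?_)
      refine mem_normalizer_iff.2 fun x => ?_
      rw [mem_subgroupOf, mem_subgroupOf]
      exact (mem_normalizer_iff.1 (hEP e.2)) x
    have hIH := ih _ hP'lt (Nz ⧸ Zs) φ.range P' f'' ((hG'.subgroup Nz).quotient Zs) hc'' rfl hP'2 hnorm
    -- the commutators are central
    intro e he x hx
    let χ : E' →* G' :=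
      { toFun := fun h => (h : G') * x * (h : G')⁻¹ * x⁻¹
        map_one' := by simp
        map_mul' := fun a b => by
          have hmem : (b : G') * x * (b : G')⁻¹ * x⁻¹ ∈ Z := by
            have h1 := hIH (φ b) ⟨b, rfl⟩ (q ⟨x, hPle hx⟩) (by
              rw [hP']
              exact mem_map_of_mem q (show (⟨x, hPle hx⟩ : Nz) ∈ P.subgroupOf Nz from hx))
            rw [hφ] at h1
            have h2 := (hqk (⟨b, hNz ▸ hEZ b.2⟩ * ⟨x, hPle hx⟩ * (⟨b, hNz ▸ hEZ b.2⟩ : Nz)⁻¹ *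
              (⟨x, hPle hx⟩ : Nz)⁻¹)).1 (by
                rw [map_mul, map_mul, map_mul, map_inv, map_inv, h1.eq]
                group)
            exact h2
          show (a : G') * b * x * ((a : G') * b)⁻¹ * x⁻¹ =
            (a : G') * x * (a : G')⁻¹ * x⁻¹ * ((b : G') * x * (b : G')⁻¹ * x⁻¹)
          have e1 := (hcentZ a _ hmem).eq
          have e2 : Commute ((b : G') * x * (b : G')⁻¹ * x⁻¹) ((a : G') * x * (a : G')⁻¹ * x⁻¹) :=
            ((hZ _).1 hmem).2.2 _ (mul_mem (((mem_normalizer_iff.1 (hEP a.2)) x).1 hx) (inv_mem hx))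
          rw [← e2.eq]
          calc (a : G') * b * x * ((a : G') * b)⁻¹ * x⁻¹
              = (a : G') * ((b : G') * x * (b : G')⁻¹ * x⁻¹) * (x * (a : G')⁻¹ * x⁻¹) := by group
            _ = _ := by rw [e1]; group }
    have hχ : commutator E' ≤ χ.ker := by
      rw [_root_.commutator_def, commutator_le]
      intro a _ b _
      rw [MonoidHom.mem_ker, map_commutatorElement, commutatorElement_eq_one_iff_commute]
      have hmem : ∀ c : E', χ c ∈ P := fun c =>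
        mul_mem (((mem_normalizer_iff.1 (hEP c.2)) x).1 hx) (inv_mem hx)
      have hz : χ b ∈ Z := by
        have h1 := hIH (φ b) ⟨b, rfl⟩ (q ⟨x, hPle hx⟩) (by
          rw [hP']
          exact mem_map_of_mem q (show (⟨x, hPle hx⟩ : Nz) ∈ P.subgroupOf Nz from hx))
        rw [hφ] at h1
        refine (hqk (⟨b, hNz ▸ hEZ b.2⟩ * ⟨x, hPle hx⟩ * (⟨b, hNz ▸ hEZ b.2⟩ : Nz)⁻¹ *
          (⟨x, hPle hx⟩ : Nz)⁻¹)).1 ?_
        rw [map_mul, map_mul, map_mul, map_inv, map_inv, h1.eq]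
        group
      exact (((hZ _).1 hz).2.2 _ (hmem a)).symm
    rw [hc'.perfect] at hχ
    have h := MonoidHom.mem_ker.1 (hχ (mem_top ⟨e, he⟩))
    exact mul_inv_eq_iff_eq_mul.1 (mul_inv_eq_one.1 h)

include hfix hm hG in
/-- The frame of a cover. -/
theorem exists_frame (hc : IsCover m f) :
    ∃ (A : Subgroup G) (y : G), IsFrame A y ∧ A ≤ E ∧ y ∈ E ∧ ∀ a : E, (a : G) ∈ A → f a = 1 → a = 1 := by
  haveI : Fact (Nat.Prime 2) := ⟨Nat.prime_two⟩
  obtain ⟨P, hP⟩ : ∃ P : Sylow 2 f.ker, P = default := ⟨_, rfl⟩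
  haveI := cover_ker_nilpotent hc.surj hc.min
  have hPn : (P : Subgroup f.ker).Normal := inferInstance
  haveI hchar : (P : Subgroup f.ker).Characteristic := P.characteristic_of_normal hPn
  obtain ⟨Q, hQ⟩ : ∃ Q : Subgroup E, Q = (P : Subgroup f.ker).map f.ker.subtype := ⟨_, rfl⟩
  haveI : Q.Normal := hQ ▸ inferInstance
  have hQ2 : IsPGroup 2 Q := hQ ▸ P.isPGroup'.map _
  have hcent := centralizes_two hfix hm hG _ G E (Q.map E.subtype) f hG hc rfl (hQ2.map _) (fun e he => by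
    refine mem_normalizer_iff.2 fun x => ⟨?_, ?_⟩
    · rintro ⟨w, hw, rfl⟩
      exact ⟨⟨e, he⟩ * w * ⟨e, he⟩⁻¹, (inferInstance : Q.Normal).conj_mem w hw _, rfl⟩
    · rintro ⟨w, hw, hwe⟩
      refine ⟨⟨e, he⟩⁻¹ * w * ⟨e, he⟩, ?_, ?_⟩
      · have := (inferInstance : Q.Normal).conj_mem w hw (⟨e, he⟩⁻¹ : E)
        rwa [inv_inv] at this
      · show e⁻¹ * (w : G) * e = x
        rw [show (w : G) = e * x * e⁻¹ from hwe]
        group)
  obtain ⟨A, y, hA, -, hinj⟩ := SzSq.exists_frame hc.hk hc.card hc.surj fun n hn ⟨j, hj⟩ => by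
    have hnQ : n ∈ Q := by
      have hp : IsPGroup 2 (zpowers (⟨n, hn⟩ : f.ker)) := fun a => by
        obtain ⟨i, hi⟩ := mem_zpowers_iff.1 a.2
        refine ⟨j, Subtype.ext ?_⟩
        rw [coe_pow, ← hi, ← zpow_natCast, ← zpow_mul, mul_comm, zpow_mul, zpow_natCast,
          show (⟨n, hn⟩ : f.ker) ^ 2 ^ j = 1 from Subtype.ext (by rw [coe_pow]; exact hj), one_zpow]
        rfl
      obtain ⟨P', hP'⟩ := hp.exists_le_sylow
      haveI := Sylow.unique_of_normal P hPn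
      rw [hQ]
      exact ⟨⟨n, hn⟩, Subsingleton.elim P' P ▸ hP' (mem_zpowers _), rfl⟩
    exact mem_center_iff.2 fun e => Subtype.ext (hcent e e.2 n (mem_map_of_mem E.subtype hnQ)).eq
  refine ⟨A.map E.subtype, y, hA.map E.subtype E.subtype_injective, map_subtype_le A, y.2, fun a ha h1 => ?_⟩
  obtain ⟨b, hb, hba⟩ := ha
  have hab : b = a := Subtype.ext hba
  exact hinj a (hab ▸ hb) h1

include hfix hm hG in
/-- An element of the class fixing a vector, when the kernel acts trivially. -/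
theorem exists_fixed (hc : IsCover m f) {V : Subgroup G} [IsMulCommutative V] {l : ℕ} (hl : l.Prime) (hl2 : l ≠ 2)
    (hexp : ∀ v ∈ V, v ^ l = 1) (hV : V ≠ ⊥) (hEV : E ≤ normalizer (V : Set G))
    (hker : ∀ e : E, f e = 1 → ∀ v ∈ V, Commute (e : G) v) {x : Cfsg.Sz F k} {p : ℕ} (hp : p.Prime)
    (hx : orderOf x = p) (hpl : p ≠ l) :
    ∃ g ∈ E, orderOf g = p ∧ ∃ v ∈ V, v ≠ 1 ∧ Commute g v := by
  haveI : Nontrivial V := V.nontrivial_iff_ne_bot.2 hV
  letI : CommGroup V := { (inferInstance : Group V) with mul_comm := mul_comm' }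
  obtain ⟨ψ, hψ⟩ : ∃ ψ : E →* MulAut V, ∀ (e : E) (v : V), (ψ e v : G) = (e : G) * v * (e : G)⁻¹ :=
    ⟨V.normalizerMonoidHom.comp (inclusion hEV), fun e v => rfl⟩
  have hle : f.ker ≤ ψ.ker := fun e he => MulEquiv.ext fun v => Subtype.ext (by
    rw [hψ, (hker e (MonoidHom.mem_ker.1 he) v v.2).eq, mul_inv_cancel_right, MulAut.one_apply])
  obtain ⟨v, hv1, hv⟩ := hfix.fixed hc.hk hc.card hl hl2 (fun v : V => Subtype.ext (by
      rw [coe_pow]; exact hexp v v.2))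
    (f.liftOfSurjective hc.surj ⟨ψ, hle⟩) (x := x) (hx ▸ hp) (hx ▸ hpl)
  obtain ⟨e, he⟩ := hc.surj x
  rw [← he, show f.liftOfSurjective hc.surj ⟨ψ, hle⟩ (f e) = ψ e from
    MonoidHom.liftOfRightInverse_comp_apply _ _ _ _ e] at hv
  have hpe : p ∣ orderOf (e : G) := by
    rw [← hx, ← he, Subgroup.orderOf_coe]
    exact orderOf_map_dvd f e
  obtain ⟨i, hi⟩ := exists_pow_orderOf hp hpe
  refine ⟨(e : G) ^ i, pow_mem e.2 i, hi, v, v.2, fun e1 => hv1 (Subtype.ext e1), Commute.pow_left ?_ i⟩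
  exact mul_inv_eq_iff_eq_mul.1 ((hψ e v).symm.trans (congrArg Subtype.val hv))

include hm in
/-- An element of prime order in a class different from two given ones. -/
theorem exists_class (hc : IsCover m f) {c : Fin 4} :
    ∃ (x : Cfsg.Sz F k) (p : ℕ) (j : Fin 4), p.Prime ∧ orderOf x = p ∧ p ∣ cl m j ∧ j ≠ 0 ∧ j ≠ c := by
  obtain ⟨-, ⟨t1, p1, hp1, ht1, h1⟩, ⟨t2, p2, j, hp2, ht2, h2, hj0, hj1⟩⟩ := exists_sz_prime hc.card hm hc.hk hc.dvd
  rcases eq_or_ne c 1 with rfl | hc1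
  · exact ⟨t2, p2, j, hp2, ht2, h2, hj0, hj1⟩
  · exact ⟨t1, p1, 1, hp1, ht1, h1, by decide, hc1.symm⟩

include hfix hm hG in
/-- The kernel of a cover centralising an involution is a two-group. -/
theorem ker_two (hc : IsCover m f) {z : G} (hz : orderOf z = 2) (hzE : ∀ e ∈ E, Commute z e) :
    IsPGroup 2 f.ker := by
  haveI := cover_ker_nilpotent hc.surj hc.min
  by_contra h
  obtain ⟨q, hq, hqd, hq2⟩ : ∃ q, q.Prime ∧ q ∣ Nat.card f.ker ∧ q ≠ 2 := by
    by_contra hno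
    push Not at hno
    haveI : Fact (Nat.Prime 2) := ⟨Nat.prime_two⟩
    exact h (IsPGroup.of_card (Nat.eq_prime_pow_of_unique_prime_dvd Nat.card_pos.ne' fun {d} hd hdd => hno d hd hdd))
  haveI := Fact.mk hq
  obtain ⟨P, -⟩ : ∃ P : Sylow q f.ker, P = default := ⟨_, rfl⟩
  have hPn : (P : Subgroup f.ker).Normal := inferInstance
  -- central elements of order `q` of the kernel
  obtain ⟨V, hV⟩ : ∃ V : Subgroup G, ∀ x, x ∈ V ↔ ∃ n : E, (n : G) = x ∧ f n = 1 ∧ n ^ q = 1 ∧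
      ∀ n' : E, f n' = 1 → Commute n n' := by
    refine ⟨{
      carrier := {x | ∃ n : E, (n : G) = x ∧ f n = 1 ∧ n ^ q = 1 ∧ ∀ n' : E, f n' = 1 → Commute n n'}
      one_mem' := ⟨1, rfl, map_one f, one_pow q, fun n' _ => Commute.one_left n'⟩
      mul_mem' := ?_
      inv_mem' := ?_ }, fun x => Iff.rfl⟩
    · rintro _ _ ⟨a, rfl, a1, a2, a3⟩ ⟨b, rfl, b1, b2, b3⟩
      exact ⟨a * b, rfl, by rw [map_mul, a1, b1, one_mul], by rw [(a3 b b1).mul_pow, a2, b2, one_mul],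
        fun n' hn => (a3 n' hn).mul_left (b3 n' hn)⟩
    · rintro _ ⟨a, rfl, a1, a2, a3⟩
      exact ⟨a⁻¹, rfl, by rw [map_inv, a1, inv_one], by rw [inv_pow, a2, inv_one], fun n' hn => (a3 n' hn).inv_left⟩
  have hVne : V ≠ ⊥ := by
    have hne := CfsgLib.Core.inf_center_ne_bot_of_isNilpotent (P : Subgroup f.ker) (fun e => P.ne_bot_of_dvd_card hqd e)
    obtain ⟨c, hcq⟩ : ∃ c : Subgroup.center f.ker, orderOf c = q := by
      obtain ⟨w, ⟨hwP, hwc⟩, hw1⟩ := ((P : Subgroup f.ker) ⊓ Subgroup.center f.ker).bot_or_exists_ne_one.resolve_left hne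
      obtain ⟨i, hi⟩ := IsPGroup.iff_orderOf.1 P.isPGroup' ⟨w, hwP⟩
      rw [← Subgroup.orderOf_coe] at hi
      have hi0 : i ≠ 0 := fun e => hw1 (orderOf_eq_one_iff.1 (by rw [hi, e, pow_zero]))
      obtain ⟨j, hj⟩ := exists_pow_orderOf hq (g := (⟨w, hwc⟩ : Subgroup.center f.ker)) (by
        rw [← Subgroup.orderOf_coe]
        exact hi ▸ dvd_pow_self q hi0)
      exact ⟨_, hj⟩
    intro e
    have hmem : (((c : f.ker) : E) : G) ∈ V := (hV _).2 ⟨((c : f.ker) : E), rfl, (c : f.ker).2, by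
      rw [← hcq, ← Subgroup.orderOf_coe, ← Subgroup.orderOf_coe, pow_orderOf_eq_one],
      fun n' hn => (congrArg Subtype.val (Subgroup.mem_center_iff.1 c.2 ⟨n', hn⟩)).symm⟩
    rw [e, mem_bot, ← orderOf_eq_one_iff, Subgroup.orderOf_coe, Subgroup.orderOf_coe, Subgroup.orderOf_coe,
      hcq] at hmem
    exact hq.ne_one hmem
  haveI : IsMulCommutative V := ⟨⟨fun a b => by
    obtain ⟨na, ha, -, -, ha3⟩ := (hV _).1 a.2
    obtain ⟨nb, hb, hb1, -, -⟩ := (hV _).1 b.2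
    exact Subtype.ext (show (a : G) * b = b * a by
      rw [← ha, ← hb]
      exact congrArg Subtype.val (ha3 nb hb1).eq)⟩⟩
  have hEV : E ≤ normalizer (V : Set G) := by
    have key : ∀ e : E, ∀ x ∈ V, (e : G) * x * (e : G)⁻¹ ∈ V := fun e x hx => by
      obtain ⟨n, rfl, n1, n2, n3⟩ := (hV _).1 hx
      refine (hV _).2 ⟨e * n * e⁻¹, rfl, by rw [map_mul, map_mul, n1, mul_one, map_inv, mul_inv_cancel],
        by rw [conj_pow, n2, mul_one, mul_inv_cancel], fun n' hn => ?_⟩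
      have h := (n3 (e⁻¹ * n' * e) (by rw [map_mul, map_mul, hn, mul_one, map_inv, inv_mul_cancel])).map
        (MulAut.conj e)
      simpa [MulAut.conj_apply, mul_assoc] using h
    intro e he
    refine mem_normalizer_iff.2 fun x => ⟨key ⟨e, he⟩ x, fun hx => ?_⟩
    have := key (⟨e, he⟩⁻¹ : E) _ hx
    simpa [mul_assoc] using this
  obtain ⟨cq, hcq⟩ := hG.class_of hq (g := ((exists_prime_orderOf_dvd_card' q hqd).choose : E)) (by
    rw [Subgroup.orderOf_coe, Subgroup.orderOf_coe, (exists_prime_orderOf_dvd_card' q hqd).choose_spec])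
  obtain ⟨x, p, j, hp, hx, hpj, hj0, hjc⟩ := hc.exists_class hm (c := cq)
  obtain ⟨g, hgE, hgo, v, hv, hv1, hgv⟩ := hc.exists_fixed hfix hm hG hq hq2 (fun v hv => by
      obtain ⟨n, rfl, -, n2, -⟩ := (hV _).1 hv
      rw [← coe_pow, n2]; rfl) hVne hEV
    (fun e he v hv => by
      obtain ⟨n, rfl, -, -, n3⟩ := (hV _).1 hv
      exact congrArg Subtype.val (n3 e he).eq.symm) hp hx
    (fun e => hjc (class_unique hm hp hpj (e ▸ hcq)))
  obtain ⟨nv, rfl, -, n2, -⟩ := (hV _).1 hv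
  have hvo : orderOf (nv : G) = q := orderOf_eq_prime (by rw [← coe_pow, n2]; rfl) hv1
  exact hG.false3 hm (i := 0) (j := j) (k := cq) hj0.symm (fun e => hq2 (class_zero hq (e ▸ hcq))) hjc
    Nat.prime_two hp hq (by norm_num [cl]) hpj hcq hz hgo hvo (hzE g hgE) (hzE nv nv.2) hgv

include hfix hm hG in
/-- A cover centralising an involution which centralises a module of odd exponent. -/
theorem false_of_centralised (hc : IsCover m f) {z : G} (hz : orderOf z = 2) (hzE : ∀ e ∈ E, Commute z e)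
    {V : Subgroup G} [IsMulCommutative V] {l : ℕ} (hl : l.Prime) (hl2 : l ≠ 2) (hexp : ∀ v ∈ V, v ^ l = 1)
    (hV : V ≠ ⊥) (hEV : E ≤ normalizer (V : Set G)) (hzV : ∀ v ∈ V, Commute z v)
    (hker : ∀ e : E, f e = 1 → (∃ j, e ^ 2 ^ j = 1) → ∀ v ∈ V, Commute (e : G) v) : False := by
  have h2 := hc.ker_two hfix hm hG hz hzE
  obtain ⟨v0, hv0, hv01⟩ := V.bot_or_exists_ne_one.resolve_left hV
  have hvo : ∀ v ∈ V, v ≠ 1 → orderOf v = l := fun v hv hv1 => by
    haveI := Fact.mk hl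
    exact orderOf_eq_prime (hexp v hv) hv1
  obtain ⟨cv, hcv⟩ := hG.class_of hl (g := v0) (hvo v0 hv0 hv01).symm.dvd
  obtain ⟨x, p, j, hp, hx, hpj, hj0, hjc⟩ := hc.exists_class hm (c := cv)
  obtain ⟨g, hgE, hgo, v, hv, hv1, hgv⟩ := hc.exists_fixed hfix hm hG hl hl2 hexp hV hEV
    (fun e he => hker e he (by
      obtain ⟨i, hi⟩ := h2 ⟨e, he⟩
      exact ⟨i, congrArg Subtype.val hi⟩)) hp hx (fun e => hjc (class_unique hm hp hpj (e ▸ hcv)))
  exact hG.false3 hm (i := 0) (j := j) (k := cv) hj0.symm (fun e => hl2 (class_zero hl (e ▸ hcv))) hjc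
    Nat.prime_two hp hl (by norm_num [cl]) hpj hcv hz hgo (hvo v hv hv1) (hzE g hgE) (hzV v hv) hgv

end

end IsCover

end CfsgLib.SzSq
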