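import Cfsg.Agent.Lib.SzSq.FixLift
import Cfsg.Agent.Lib.CIT.SzPrimeGraph
import Cfsg.Agent.Lib.Lie.Suzuki.Fix
import Cfsg.Agent.Lib.Lie.Suzuki.Structure
import Cfsg.Agent.Lib.Lie.Suzuki.Partition

/-!
Owner: helper1. Fixed points of elements of prime order of the Suzuki groups on modules of odd characteristic, and
the lack of nontrivial modules of characteristic two without elements of order eight in the extension.

An abelian group `V` of odd exponent `2 * j + 1` is the module throughout.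
-/

set_option autoImplicit false
set_option linter.all false

namespace CfsgLib.SzSq

open Subgroup

section Suzuki

open CfsgLib.Lie.Suzuki

/-- The fourth power of an element of square one. -/
theorem pow_four_of_sq {M : Type*} [Monoid M] {s : M} (h : s * s = 1) : s ^ 4 = 1 := by
  calc s ^ 4 = (s ^ 2) ^ 2 := pow_mul s 2 2
    _ = 1 := by rw [pow_two s, h, one_pow]

local notation "C[" g "]" => Subgroup.centralizer ({g} : Set (Cfsg.Sz _ _))

variable {F : Type*} [Field F] [CharP F 2] [Fintype F] {k : ℕ} (hk : 1 ≤ k)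
  (hF : Fintype.card F = 2 ^ (2 * k + 1))

include hk hF in
/-- An element of order four normalising a torus and fixed point free on it. -/
theorem exists_torus_four {x : Cfsg.Sz F k} (hx : (orderOf x).Prime) (hd : orderOf x ∣ Fintype.card F ^ 2 + 1) :
    ∃ y : Cfsg.Sz F k, orderOf y = 4 ∧ Free x ∧ Odd (Nat.card C[x]) ∧ (∀ a ∈ C[x], y * a * y⁻¹ ∈ C[x]) ∧
      (∀ i : ℕ, 0 < i → i < 4 → ∀ a ∈ C[x], Commute (y ^ i) a → a = 1) ∧
      ∀ a ∈ C[x], y * y * a * (y * y)⁻¹ = a⁻¹ := by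
  haveI : Finite (Cfsg.Sz F k) := Subtype.finite
  haveI := Fact.mk hx
  haveI := Fact.mk Nat.prime_two
  have hfree := free_of_prime hF hk hd rfl
  have hodd : Odd (Nat.card C[x]) := (odd_sq_add_one hF).of_dvd_nat (free_card_dvd hF hk hfree)
  set N := normalizer (C[x] : Set (Cfsg.Sz F k)) with hN
  obtain ⟨S, hS⟩ := Sylow.exists_subgroup_card_pow_prime (G := N) 2 (n := 2)
    (by rw [hN, free_normalizer_card hF hk hfree]; exact dvd_mul_right _ _)
  have hout : ∀ s : Cfsg.Sz F k, orderOf s ∣ 4 → s ∈ C[x] → s = 1 := fun s hs hsC =>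
    orderOf_eq_one_iff.1 (Nat.eq_one_of_dvd_coprimes
      (Nat.Coprime.pow_left 2 (Nat.coprime_two_left.2 hodd)) (by norm_num; exact hs)
      (Subgroup.orderOf_dvd_natCard _ hsC))
  have hfpf : ∀ s : Cfsg.Sz F k, orderOf s ∣ 4 → s ≠ 1 → ∀ a ∈ C[x], Commute s a → a = 1 := by
    intro s hs hs1 a ha hc
    by_contra ha1
    refine hs1 (hout s hs ?_)
    rw [← (centralizer_eq hF hk hfree ha ha1).2]
    exact mem_centralizer_singleton_iff.2 hc.eq
  have hinv : ∀ s ∈ N, s * s = 1 → s ≠ 1 → ∀ a ∈ C[x], s * a * s⁻¹ = a⁻¹ := by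
    intro s hsN hs2 hs1 a ha
    have hsa : s * a * s⁻¹ ∈ C[x] := (mem_normalizer_iff.1 hsN a).1 ha
    have hc := centralizer_comm hF hk hfree hsa ha
    refine eq_inv_of_mul_eq_one_left (hfpf s ?_ hs1 _ (mul_mem hsa ha) ?_)
    · exact orderOf_dvd_of_pow_eq_one (pow_four_of_sq hs2)
    · show s * (s * a * s⁻¹ * a) = s * a * s⁻¹ * a * s
      calc s * (s * a * s⁻¹ * a) = s * s * a * s⁻¹ * a := by group
        _ = a * s * a := by rw [hs2, one_mul, inv_eq_of_mul_eq_one_right hs2]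
        _ = a * (s * a * s⁻¹) * s := by group
        _ = _ := by rw [← hc.eq]
  obtain ⟨y, hy4, hy2⟩ : ∃ y : N, y ∈ S ∧ (y : Cfsg.Sz F k) * y ≠ 1 := by
    by_contra hno
    push Not at hno
    obtain ⟨a, ha, ha1⟩ := S.bot_or_exists_ne_one.resolve_left fun e => by
      rw [e, Subgroup.card_bot] at hS; norm_num at hS
    obtain ⟨b, hb, hba⟩ : ∃ b ∈ S, b ∉ zpowers a := by
      by_contra hb
      push Not at hb
      have h := Subgroup.card_le_of_le (hb : S ≤ zpowers a)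
      rw [Nat.card_zpowers, hS] at h
      have : orderOf a ≤ 2 := orderOf_le_of_pow_eq_one two_pos (Subtype.ext (by
        rw [Subgroup.coe_pow, pow_two]; exact hno a ha))
      omega
    have hb1 : b ≠ 1 := fun e => hba (e ▸ one_mem _)
    have hab1 : a * b ≠ 1 := fun e => hba (eq_inv_of_mul_eq_one_right e ▸ inv_mem (mem_zpowers a))
    have hx1 : x ≠ 1 := hfree.ne_one hF
    have hxC : x ∈ C[x] := mem_centralizer_singleton_iff.2 rfl
    refine hx1 (hfpf ((a * b : N) : Cfsg.Sz F k) ?_ (fun e => hab1 (Subtype.ext e)) x hxC ?_)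
    · exact orderOf_dvd_of_pow_eq_one (by
        exact pow_four_of_sq (hno _ (mul_mem ha hb)))
    · have e1 := hinv a a.2 (hno a ha) (fun e => ha1 (Subtype.ext e))
      have e2 := hinv b b.2 (hno b hb) (fun e => hb1 (Subtype.ext e))
      show ((a * b : N) : Cfsg.Sz F k) * x = x * ((a * b : N) : Cfsg.Sz F k)
      rw [Subgroup.coe_mul]
      refine mul_inv_eq_iff_eq_mul.1 ?_
      calc (a : Cfsg.Sz F k) * b * x * ((a : Cfsg.Sz F k) * b)⁻¹
          = a * ((b : Cfsg.Sz F k) * x * (b : Cfsg.Sz F k)⁻¹) * (a : Cfsg.Sz F k)⁻¹ := by group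
        _ = x := by rw [e2 x hxC, e1 _ (inv_mem hxC), inv_inv]
  have hyo4 : (y : Cfsg.Sz F k) ^ 4 = 1 := by
    have h := pow_card_eq_one' (x := (⟨y, hy4⟩ : S))
    rw [hS] at h
    exact congrArg (fun z : S => ((z : N) : Cfsg.Sz F k)) h
  have hyo : orderOf (y : Cfsg.Sz F k) = 4 :=
    orderOf_eq_prime_pow (p := 2) (n := 1) (by rwa [pow_one, pow_two]) hyo4
  refine ⟨y, hyo, hfree, hodd, fun a ha => (mem_normalizer_iff.1 y.2 a).1 ha, fun i hi hi4 => ?_, ?_⟩
  · exact hfpf _ ((orderOf_pow_dvd i).trans hyo.dvd) (pow_ne_one_of_lt_orderOf hi.ne' (by rwa [hyo]))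
  · exact hinv _ (mul_mem y.2 y.2) (Eq.trans (by simp only [pow_succ, pow_zero, one_mul, mul_assoc]) hyo4) hy2

include hk hF in
theorem conj_uSub {g : Cfsg.Sz F k} (h4 : orderOf g ∣ 4) (h1 : g ≠ 1) :
    ∃ (h : Cfsg.Sz F k) (a b : F), g = h * uS hF a b * h⁻¹ := by
  haveI : Finite (Cfsg.Sz F k) := Subtype.finite
  have h2 : Fact (Nat.Prime 2) := ⟨Nat.prime_two⟩
  obtain ⟨P, hP⟩ := IsPGroup.exists_le_sylow (p := 2) (P := zpowers g)
    (IsPGroup.of_card_dvd_pow (n := 2) (by rw [Nat.card_zpowers]; exact h4))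
  obtain ⟨h, hh⟩ := MulAction.exists_smul_eq (Cfsg.Sz F k) (sylU hF hk) P
  have hg : g ∈ (P : Subgroup (Cfsg.Sz F k)) := hP (mem_zpowers g)
  rw [← hh, Sylow.coe_subgroup_smul, coe_sylU] at hg
  obtain ⟨u, ⟨a, b, rfl⟩, he⟩ := hg
  exact ⟨h, a, b, by rw [← he]; rfl⟩

include hk hF in
theorem conj_order_two {g : Cfsg.Sz F k} (hg : orderOf g = 2) :
    ∃ h : Cfsg.Sz F k, g = h * uS hF 0 1 * h⁻¹ := by
  obtain ⟨hg2, hg1⟩ := orderOf_eq_prime_iff.1 hg
  obtain ⟨h, a, b, he⟩ := conj_uSub hk hF (hg.dvd.trans (by norm_num)) hg1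
  have ha : a = 0 := by
    have e : uS hF a b ^ 2 = 1 := by
      rwa [he, conj_pow, conj_eq_one_iff] at hg2
    rw [uS_sq, ← uS_one hF] at e
    have := (uS_inj hF e).2
    by_contra ha
    exact mul_ne_zero (θ_ne_zero ha) ha this
  subst ha
  have hb : b ≠ 0 := fun e => hg1 (by rw [he, e, uS_one, mul_one, mul_inv_cancel])
  obtain ⟨t, ht⟩ := th_unit_surjective (m := k) b hb
  exact ⟨h * tS hF t, by rw [he, mul_inv_rev]; calc _ = h * (tS hF t * uS hF 0 1 * (tS hF t)⁻¹) * h⁻¹ := by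
                                                      rw [conj_uS, mul_zero, mul_one, ht]
                                                    _ = _ := by group⟩

include hk hF in
theorem conj_order_four {g : Cfsg.Sz F k} (hg : orderOf g = 4) :
    ∃ h : Cfsg.Sz F k, g = h * uS hF 1 0 * h⁻¹ ∨ g = h * (uS hF 1 0)⁻¹ * h⁻¹ := by
  have hg1 : g ≠ 1 := fun e => by rw [e, orderOf_one] at hg; omega
  obtain ⟨h, a, b, he⟩ := conj_uSub hk hF hg.dvd hg1
  have ha : a ≠ 0 := fun e => by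
    subst e
    have h2 : g ^ 2 = 1 := by rw [he, conj_pow, uS_sq, mul_zero, uS_one, mul_one, mul_inv_cancel]
    have := Nat.le_of_dvd two_pos (orderOf_dvd_of_pow_eq_one h2)
    omega
  obtain ⟨t, ht⟩ := torusRatio_surjective hF a ha
  have hθ : th F k (t : F) ≠ 0 := θ_ne_zero t.ne_zero
  let L : F →+ F :=
    { toFun := fun c => th F k c + c
      map_zero' := by simp
      map_add' := fun c d => by rw [map_add]; ring }
  have hker : Nat.card L.ker ≤ 2 := by
    rw [← Nat.card_eq_two_iff' (0 : Bool) |>.2 ⟨true, by decide, by decide⟩]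
    refine Nat.card_le_card_of_surjective (fun i : Bool => (⟨if i then 1 else 0, ?_⟩ : L.ker)) fun c => ?_
    · rw [AddMonoidHom.mem_ker]
      show th F k _ + _ = (0 : F)
      cases i <;> simp [CharTwo.add_self_eq_zero]
    · have h1 : th F k (c : F) = c := CharTwo.add_eq_zero.1 c.2
      have h2 := congrArg (th F k) h1
      rw [th_tits hF, h1, sq] at h2
      by_cases hc : (c : F) = 0
      · exact ⟨false, Subtype.ext hc.symm⟩
      · exact ⟨true, Subtype.ext (mul_left_cancel₀ hc (h2.trans (mul_one _).symm)).symm⟩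
  have hcover : ∀ e : F, e ∈ L.range ∨ e + 1 ∈ L.range := by
    have hidx : L.range.index ≤ 2 := by
      have h1 := L.range.index_mul_card
      have h2 : Nat.card L.ker * Nat.card L.range = Nat.card F := by
        rw [← AddSubgroup.index_ker, mul_comm, AddSubgroup.index_mul_card]
      rw [← h2] at h1
      exact (Nat.eq_of_mul_eq_mul_right Nat.card_pos h1).trans_le hker
    have h1' : (1 : F) ∉ L.range := fun ⟨s, hs⟩ => th_add_ne_one hF s hs
    have hidx2 : L.range.index = 2 := by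
      have : L.range.index ≠ 1 := fun e => h1' ((AddSubgroup.index_eq_one.1 e).symm ▸ AddSubgroup.mem_top _)
      have : L.range.index ≠ 0 := AddSubgroup.index_ne_zero_of_finite
      omega
    intro e
    rw [AddSubgroup.add_mem_iff_of_index_two hidx2]
    tauto
  -- reduce to first coordinate one
  obtain ⟨s, hs⟩ : ∃ s : Cfsg.Sz F k, ∃ i : F, (i = 0 ∨ i = 1) ∧ uS hF a b = s * uS hF 1 i * s⁻¹ := by
    rcases hcover (b / th F k t) with ⟨c, hc⟩ | ⟨c, hc⟩
    · refine ⟨tS hF t * uS hF c 0, 0, Or.inl rfl, ?_⟩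
      rw [show tS hF t * uS hF c 0 * uS hF 1 0 * (tS hF t * uS hF c 0)⁻¹ =
        tS hF t * (uS hF c 0 * uS hF 1 0 * (uS hF c 0)⁻¹) * (tS hF t)⁻¹ by group, conj_uS_uS, conj_uS, ht]
      congr 1
      · rw [mul_one]
      · rw [map_one, one_mul, mul_one, zero_add]
        rw [show th F k c + c = b / th F k t from hc, mul_div_cancel₀ _ hθ]
    · refine ⟨tS hF t * uS hF c 0, 1, Or.inr rfl, ?_⟩
      rw [show tS hF t * uS hF c 0 * uS hF 1 1 * (tS hF t * uS hF c 0)⁻¹ =
        tS hF t * (uS hF c 0 * uS hF 1 1 * (uS hF c 0)⁻¹) * (tS hF t)⁻¹ by group, conj_uS_uS, conj_uS, ht]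
      congr 1
      · rw [mul_one]
      · rw [map_one, one_mul, mul_one]
        rw [show th F k c + c = b / th F k t + 1 from hc, ← add_assoc, add_comm (1 : F),
          add_assoc, CharTwo.add_self_eq_zero, add_zero, mul_div_cancel₀ _ hθ]
  obtain ⟨i, hi, hs⟩ := hs
  refine ⟨h * s, ?_⟩
  rcases hi with rfl | rfl
  · exact Or.inl (by rw [he, hs]; group)
  · refine Or.inr ?_
    rw [he, hs, show (uS hF (1 : F) 0)⁻¹ = uS hF 1 1 by rw [uS_inv]; simp]
    group

include hk hF in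
theorem card_unip_fix {V : Type*} [CommGroup V] [Finite V] {j : ℕ} (hexp : ∀ v : V, v ^ (2 * j + 1) = 1)
    (ρ : Cfsg.Sz F k →* MulAut V) {x : Cfsg.Sz F k} (hx : (orderOf x).Prime)
    (hd : orderOf x ∣ Fintype.card F ^ 2 + 1)
    (hfix : ∀ v, ρ x v = v → v = 1) :
    Nat.card (fixS ρ (unip hF : Set (Cfsg.Sz F k))) ^ (Fintype.card F ^ 2) = Nat.card V := by
  haveI : Finite (Cfsg.Sz F k) := Subtype.finite
  obtain ⟨y, hy, hfree, hodd, hyC, hfpf, hinv⟩ := exists_torus_four hk hF hx hd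
  haveI := (free_centralizer hF hk hfree).1
  haveI := Fact.mk hx
  have hxC : x ∈ C[x] := mem_centralizer_singleton_iff.2 rfl
  have hpC : orderOf x ∣ Nat.card C[x] := Subgroup.orderOf_dvd_natCard _ hxC
  -- the elements of the same prime order of the torus have no fixed points
  have hsame : ∀ c ∈ C[x], c ^ orderOf x = 1 → c ≠ 1 → ∀ v, ρ c v = v → v = 1 := by
    intro c hc hcp hc1 v hv
    exact hfix v (fix_zpowers ρ hv (mem_zpowers_of_cyclic hc hxC hcp hc1 (pow_orderOf_eq_one x)))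
  obtain ⟨x', hx'⟩ : ∃ x', y * x * y⁻¹ = x' := ⟨_, rfl⟩
  have hx'C : x' ∈ C[x] := hx' ▸ hyC x hxC
  have hx1 : x ≠ 1 := hfree.ne_one hF
  have hp : x ^ orderOf x = 1 := pow_orderOf_eq_one x
  have hp' : x' ^ orderOf x = 1 := by rw [← hx', conj_pow, hp, mul_one, mul_inv_cancel]
  have hc : Commute x x' := centralizer_comm hF hk hfree hxC hx'C
  have hx2 : y * x' * y⁻¹ = x⁻¹ := by
    rw [← hx', ← hinv x hxC]; group
  have hne1 : x' ≠ x := fun e => hx1 (hfpf 1 one_pos (by norm_num) x hxC (by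
    rw [pow_one]; exact mul_inv_eq_iff_eq_mul.1 (hx'.trans e)))
  have hne2 : x * x' ≠ 1 := fun e => hx1 (hfpf 3 (by norm_num) (by norm_num) x hxC (by
    refine mul_inv_eq_iff_eq_mul.1 ?_
    calc y ^ 3 * x * (y ^ 3)⁻¹ = y * (y * y * x * (y * y)⁻¹) * y⁻¹ := by
          simp only [pow_succ, pow_zero, one_mul, mul_inv_rev, mul_assoc]
      _ = (y * x * y⁻¹)⁻¹ := by rw [hinv x hxC]; group
      _ = x := by rw [hx', eq_inv_of_mul_eq_one_right e, inv_inv]))
  have hodd2 : x * x ≠ 1 := fun e => by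
    have h1 := orderOf_eq_prime (p := 2) (by rw [pow_two, e]) hx1
    rw [h1] at hd
    exact (Nat.not_even_iff_odd.2 (odd_sq_add_one hF)) (even_iff_two_dvd.2 hd)
  have hy4 : y ^ 4 = 1 := orderOf_dvd_iff_pow_eq_one.1 hy.dvd
  obtain ⟨h4, h2⟩ := free_four ρ hexp hy4 hx' hx2 hc
    (hsame _ (mul_mem hxC hxC) (by rw [(Commute.refl x).mul_pow, hp, one_mul]) hodd2)
    (hsame _ (mul_mem (inv_mem hx'C) hxC) (by rw [hc.symm.inv_left.mul_pow, inv_pow, hp, hp', inv_one, one_mul])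
      fun e => hne1 (inv_mul_eq_one.1 e))
    (hsame _ (mul_mem hxC hx'C) (by rw [hc.mul_pow, hp, hp', one_mul]) hne2)
  have hyy : orderOf (y * y) = 2 := by
    rw [← pow_two, orderOf_pow' y two_ne_zero, hy]; rfl
  have hbase : ∀ g ∈ unip hF, Nat.card (fix1 ρ g) ^ orderOf g = Nat.card V := by
    intro g hg
    obtain ⟨e, he⟩ := isPGroup_unip hF ⟨g, hg⟩
    obtain ⟨a, b, rfl⟩ := hg
    by_cases h1 : uS hF a b = 1
    · rw [h1, orderOf_one, pow_one]
      refine (Nat.card_congr ?_).trans Subgroup.card_top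
      refine (MulEquiv.subgroupCongr (eq_top_iff.2 fun v _ => ?_)).toEquiv
      rw [mem_fix1, map_one, MulAut.one_apply]
    have hd4 : orderOf (uS hF a b) ∣ 2 ^ 2 := orderOf_dvd_of_pow_eq_one (uS_pow_four hF a b)
    obtain ⟨i, hi2, hi⟩ := (Nat.dvd_prime_pow Nat.prime_two).1 hd4
    rcases (show i = 0 ∨ i = 1 ∨ i = 2 by omega) with rfl | rfl | rfl
    · exact absurd (orderOf_eq_one_iff.1 hi) h1
    · rw [hi]
      obtain ⟨s, hs⟩ := conj_order_two hk hF hi
      obtain ⟨s', hs'⟩ := conj_order_two hk hF hyy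
      rw [hs, card_fix_conj, ← card_fix_conj ρ s', ← hs', pow_one, h2]
    · rw [hi]
      have hbase4 : ∀ u : Cfsg.Sz F k, orderOf u = 4 → Nat.card (fix1 ρ u) = Nat.card (fix1 ρ (uS hF 1 0)) := by
        intro u hu
        obtain ⟨s, hs | hs⟩ := conj_order_four hk hF hu
        · rw [hs, card_fix_conj]
        · rw [hs, card_fix_conj, card_fix_inv]
      rw [hbase4 _ hi, ← hbase4 y hy]
      exact h4
  have := card_fix_pow ρ hexp (isPGroup_unip hF) hbase _ (unip hF) le_rfl rfl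
  rwa [card_unip hF] at this

include hk hF in
theorem not_fpf_sq_add_one {V : Type*} [CommGroup V] [Finite V] [Nontrivial V] {j : ℕ}
    (hexp : ∀ v : V, v ^ (2 * j + 1) = 1) (ρ : Cfsg.Sz F k →* MulAut V) {x : Cfsg.Sz F k}
    (hx : (orderOf x).Prime) (hd : orderOf x ∣ Fintype.card F ^ 2 + 1) :
    ∃ v, v ≠ 1 ∧ ρ x v = v := by
  classical
  by_contra hcon
  push Not at hcon
  have hfix : ∀ v, ρ x v = v → v = 1 := fun v hv => by_contra fun h => hcon v h hv
  haveI : Finite (Cfsg.Sz F k) := Subtype.finite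
  haveI := Fact.mk hx
  set W := fixS ρ (unip hF : Set (Cfsg.Sz F k)) with hW
  let S : Subgroup V := Subgroup.closure {v | ∃ g, ∃ w ∈ W, v = ρ g w}
  have hS : ∀ g : Cfsg.Sz F k, ∀ v ∈ S, ρ g v ∈ S := fun g v hv => by
    induction hv using Subgroup.closure_induction with
    | mem z hz =>
      obtain ⟨h, w, hw, rfl⟩ := hz
      exact subset_closure ⟨g * h, w, hw, (app ρ g h w).symm⟩
    | one => rw [map_one]; exact one_mem _
    | mul a b _ _ iha ihb => rw [map_mul]; exact mul_mem iha ihb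
    | inv a _ iha => rw [map_inv]; exact inv_mem iha
  have hWS : ∀ w ∈ W, w ∈ S := fun w hw => subset_closure ⟨1, w, hw, by rw [map_one, MulAut.one_apply]⟩
  have hexpS : ∀ v : S, v ^ (2 * j + 1) = 1 := fun v => Subtype.ext (by rw [Subgroup.coe_pow, hexp]; rfl)
  have hV := card_unip_fix hk hF hexp ρ hx hd hfix
  have hScard := card_unip_fix hk hF hexpS (restrictAct ρ S hS) hx hd
    fun v hv => Subtype.ext (hfix v (congrArg Subtype.val hv))
  have hWW : Nat.card (fixS (restrictAct ρ S hS) (unip hF : Set (Cfsg.Sz F k))) = Nat.card W := by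
    refine Nat.card_eq_of_bijective
      (fun v => (⟨((v : S) : V), fun g hg => congrArg Subtype.val (v.2 g hg)⟩ : W))
      ⟨fun v v' h => Subtype.ext (Subtype.ext (congrArg Subtype.val h :)), fun w =>
        ⟨⟨⟨w, hWS w w.2⟩, fun g hg => Subtype.ext (w.2 g hg)⟩, rfl⟩⟩
  rw [hWW] at hScard
  have hW2 : 2 ≤ Nat.card W := by
    by_contra h
    have h1 : Nat.card W = 1 := by have := Nat.card_pos (α := W); omega
    rw [← hW, h1, one_pow] at hV
    exact absurd hV.symm Finite.one_lt_card.ne'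
  -- translates
  have hWB : ∀ g : Cfsg.Sz F k, g • pt F k none = pt F k none → ∀ w ∈ W, ρ g w ∈ W := by
    intro g hg w hw
    obtain ⟨a, b, t, rfl⟩ := stab_inf hF hk hg
    have h1 : ρ (tS hF t) w ∈ W := fixS_invariant ρ (fun s hs => by
      obtain ⟨c, d, rfl⟩ := hs
      refine ⟨((t⁻¹ : Fˣ) : F) ^ 2 / th F k ((t⁻¹ : Fˣ) : F) * c, th F k ((t⁻¹ : Fˣ) : F) * d, ?_⟩
      rw [← conj_uS hF t⁻¹ c d, map_inv, inv_inv]) hw
    rw [app, h1 _ ⟨a, b, rfl⟩]
    exact h1
  haveI := pretransitive (hF := hF)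
  choose gP hgP using fun P : Cfsg.suzukiOvoid F k => MulAction.exists_smul_eq (Cfsg.Sz F k) (pt F k none) P
  have hfree : Free x := free_of_prime hF hk hd rfl
  have hst : ∀ P : Cfsg.suzukiOvoid F k, MulAction.stabilizer (zpowers x) P = ⊥ := by
    intro P
    rw [eq_bot_iff]
    intro g hg
    by_contra hg1
    obtain ⟨i, hi⟩ := mem_zpowers_iff.1 g.2
    have hgne : (g : Cfsg.Sz F k) ≠ 1 := fun e => hg1 (Subgroup.mem_bot.2 (Subtype.ext e))
    have hxg : x ∈ zpowers (g : Cfsg.Sz F k) := by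
      have := eq_of_le_of_card_ge (zpowers_le.2 g.2) (by
        rw [Nat.card_zpowers, Nat.card_zpowers]
        rcases (Nat.dvd_prime hx).1 ((orderOf_dvd_natCard (g : zpowers x)).trans (Nat.card_zpowers x).dvd) with h | h
        · exact absurd (orderOf_eq_one_iff.1 h) (fun e => hgne (congrArg Subtype.val e))
        · rw [Subgroup.orderOf_coe, h])
      rw [this]
      exact mem_zpowers x
    have hle : zpowers (g : Cfsg.Sz F k) ≤ MulAction.stabilizer (Cfsg.Sz F k) P := zpowers_le.2 hg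
    exact hfree P (hle hxg)
  let e := MulAction.selfEquivOrbitsQuotientProd (G := zpowers x) (X := Cfsg.suzukiOvoid F k) hst
  set R := Quotient (MulAction.orbitRel (zpowers x) (Cfsg.suzukiOvoid F k)) with hR
  haveI : Finite R := Quotient.finite _
  haveI : Fintype R := Fintype.ofFinite R
  set p := orderOf x with hpdef
  have hMp : Nat.card R * p = Fintype.card F ^ 2 + 1 := by
    rw [← card_ovoid hF, Nat.card_congr e, Nat.card_prod, Nat.card_zpowers]
  obtain ⟨p', hp'⟩ : ∃ p', p = p' + 1 := ⟨p - 1, by have := hx.two_le; omega⟩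
  let Φ : (R × Fin p' → W) →* V :=
    { toFun := fun f => ∏ z, ρ (x ^ (z.2 : ℕ) * gP z.1.out) (f z : V)
      map_one' := by simp
      map_mul' := fun f f' => by simp [Finset.prod_mul_distrib] }
  have hsingle : ∀ (r : R) (i : Fin p'), ∀ w ∈ W, ρ (x ^ (i : ℕ) * gP r.out) w ∈ Φ.range := by
    intro r i w hw
    refine ⟨Pi.mulSingle (r, i) ⟨w, hw⟩, ?_⟩
    show ∏ z, ρ (x ^ (z.2 : ℕ) * gP z.1.out) ((Pi.mulSingle (r, i) (⟨w, hw⟩ : W) : R × Fin p' → W) z : V) = _
    rw [Finset.prod_eq_single (r, i) (fun z _ hz => by simp [Pi.mulSingle_eq_of_ne hz]) (by simp),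
      Pi.mulSingle_eq_same]
  have hSle : S ≤ Φ.range := by
    refine (closure_le _).2 ?_
    rintro v ⟨g, w, hw, rfl⟩
    obtain ⟨r, hr⟩ : ∃ r : R, r = Quotient.mk'' (g • pt F k none) := ⟨_, rfl⟩
    obtain ⟨⟨z, hz⟩, hzr⟩ : g • pt F k none ∈ MulAction.orbit (zpowers x) r.out :=
      MulAction.orbitRel_apply.1 (Quotient.exact' (by rw [Quotient.out_eq']; exact hr.symm))
    have hzr' : z • r.out = g • pt F k none := hzr
    obtain ⟨i, hi, hzi⟩ := Finset.mem_image.1 (mem_zpowers_iff_mem_range_orderOf.1 hz)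
    subst hzi
    obtain ⟨w', hw'⟩ : ∃ w', w' = ρ ((x ^ i * gP r.out)⁻¹ * g) w := ⟨_, rfl⟩
    have hw'W : w' ∈ W := hw' ▸ hWB _ (by
      rw [mul_smul, ← hzr', mul_inv_rev, mul_smul, inv_smul_smul, inv_smul_eq_iff, hgP]) w hw
    have hgw : ρ g w = ρ (x ^ i * gP r.out) w' := by
      rw [hw', ← app, mul_inv_cancel_left]
    rw [SetLike.mem_coe, hgw]
    have hi' := Finset.mem_range.1 hi
    by_cases hip : i < p'
    · exact hsingle r ⟨i, hip⟩ w' hw'W
    · have h0 := CfsgLib.Recog.ThreePrimes.prod_orbit_eq_one ρ (pow_orderOf_eq_one x) hfix (ρ (gP r.out) w')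
      rw [← hpdef, hp', Finset.prod_range_succ, show p' = i by omega] at h0
      rw [app, eq_inv_of_mul_eq_one_right h0]
      refine inv_mem (prod_mem fun l hl => ?_)
      rw [← app]
      exact hsingle r ⟨l, by have := Finset.mem_range.1 hl; omega⟩ w' hw'W
  have hbound : Nat.card S ≤ Nat.card W ^ (Nat.card R * p') := by
    refine (Subgroup.card_le_of_le hSle).trans ?_
    refine (Nat.card_le_card_of_surjective Φ.rangeRestrict Φ.rangeRestrict_surjective).trans_eq ?_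
    rw [Nat.card_fun, Nat.card_prod, Nat.card_eq_fintype_card (α := Fin p'), Fintype.card_fin]
  rw [← hScard] at hbound
  have hle := (Nat.pow_le_pow_iff_right hW2).1 hbound
  have hR1 : Nat.card R ≤ 1 := by
    rw [hp', mul_add, mul_one] at hMp
    omega
  have hp1 : p = Fintype.card F ^ 2 + 1 := by
    rcases (show Nat.card R = 0 ∨ Nat.card R = 1 by omega) with h | h
    · rw [h, zero_mul] at hMp; omega
    · rwa [h, one_mul] at hMp
  obtain ⟨h8, -, hprod⟩ := CfsgLib.CIT.SzPrimeGraph.q_facts k hk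
  rw [hp1, hF, ← hprod] at hx
  rcases Nat.prime_mul_iff.1 hx with ⟨-, h⟩ | ⟨-, h⟩
  · have : 2 ^ (k + 1) < 2 ^ (2 * k + 1) := Nat.pow_lt_pow_right one_lt_two (by omega)
    omega
  · have := Nat.one_le_two_pow (n := k + 1)
    omega

end Suzuki

section Main

open CfsgLib.Lie.Suzuki

variable {F : Type*} [Field F] [Fintype F] {k : ℕ} (hk : 1 ≤ k) (hF : Fintype.card F = 2 ^ (2 * k + 1))
include hk hF

/-- An element of prime order different from the characteristic has fixed points on every module of odd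
characteristic. -/
theorem exists_fixed_sz {V : Type*} [CommGroup V] [Finite V] [Nontrivial V] {l : ℕ} (hl : l.Prime) (hl2 : l ≠ 2)
    (hexp : ∀ v : V, v ^ l = 1) (ρ : Cfsg.Sz F k →* MulAut V) {x : Cfsg.Sz F k} (hx : (orderOf x).Prime)
    (hxl : orderOf x ≠ l) : ∃ v : V, v ≠ 1 ∧ ρ x v = v := by
  classical
  haveI : CharP F 2 := charTwo_of_card hF
  haveI : Finite (Cfsg.Sz F k) := Subtype.finite
  haveI := Fact.mk hx
  obtain ⟨j, rfl⟩ := hl.odd_of_ne_two hl2
  have hd := orderOf_dvd_natCard x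
  rw [nat_card hF hk] at hd
  rcases hx.dvd_mul.1 hd with h | h
  · rcases hx.dvd_mul.1 h with h | h
    · -- involutions
      have h2 : orderOf x = 2 := (Nat.prime_dvd_prime_iff_eq hx Nat.prime_two).1
        (hx.dvd_of_dvd_pow (hF ▸ hx.dvd_of_dvd_pow h))
      obtain ⟨s, hs0, hs1⟩ := CfsgLib.Lie.Suzuki.exists_ne hk hF
      have hinvol : ∀ b : F, b ≠ 0 → orderOf (uS hF 0 b) = 2 := fun b hb =>
        orderOf_eq_prime (by rw [uS_sq, map_zero, zero_mul, uS_one]) fun e => hb ((uS_eq_one_iff hF).1 e).2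
      have key : ∃ b : F, b ≠ 0 ∧ ∃ v : V, v ≠ 1 ∧ ρ (uS hF 0 b) v = v := by
        by_contra hno
        push Not at hno
        have hneg : ∀ b : F, b ≠ 0 → ∀ v, ρ (uS hF 0 b) v = v⁻¹ := fun b hb v => by
          refine eq_inv_of_mul_eq_one_left (by_contra fun hne => hno b hb _ hne ?_)
          rw [map_mul, ← app, ← pow_two (uS hF 0 b), uS_sq, map_zero, zero_mul, uS_one, map_one,
            MulAut.one_apply, mul_comm]
        obtain ⟨v, hv⟩ := exists_ne (1 : V)
        refine hno (1 + s) (fun e => hs1 (CharTwo.add_eq_zero.1 e).symm) v hv ?_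
        have e : uS hF 0 1 * uS hF 0 s = uS hF 0 (1 + s) := by rw [uS_mul]; simp
        rw [← e, app, hneg s hs0, map_inv, hneg 1 one_ne_zero, inv_inv]
      obtain ⟨b, hb, v, hv1, hv⟩ := key
      obtain ⟨h', hh'⟩ := conj_order_two hk hF h2
      obtain ⟨g, hg⟩ := conj_order_two hk hF (hinvol b hb)
      rw [hh', show h' * uS hF 0 1 * h'⁻¹ = h' * g⁻¹ * uS hF 0 b * (h' * g⁻¹)⁻¹ by rw [hg]; group]
      exact fix_conj ρ hv1 hv
    · exact not_fpf_sq_add_one hk hF hexp ρ hx h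
  · -- torus elements
    obtain ⟨g, hg⟩ := exists_tSub_conj hF hk h (Q := zpowers x)
      (IsPGroup.of_card (n := 1) (by rw [Nat.card_zpowers, pow_one]))
    obtain ⟨t, ht⟩ := (mem_tSub hF).1 (hg x (mem_zpowers x))
    rw [show x = g * tS hF t * g⁻¹ by rw [← ht]; group] at hx hxl ⊢
    suffices ∃ v : V, v ≠ 1 ∧ ρ (tS hF t) v = v by
      obtain ⟨v, hv1, hv⟩ := this
      exact fix_conj ρ hv1 hv
    by_contra hcon
    push Not at hcon
    let Z : Subgroup (Cfsg.Sz F k) :=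
      { carrier := {g | ∃ b, g = uS hF 0 b}
        one_mem' := ⟨0, (uS_one hF).symm⟩
        mul_mem' := by rintro _ _ ⟨b, rfl⟩ ⟨d, rfl⟩; exact ⟨b + d, by rw [uS_mul]; simp⟩
        inv_mem' := by rintro _ ⟨b, rfl⟩; exact ⟨b, by rw [uS_inv]; simp⟩ }
    set n := orderOf (tS hF t) with hn
    have hnorm := norm_lemma ρ Z (y := tS hF t) (n := n) (orderOf_pos _)
      (by rintro _ ⟨b, rfl⟩; exact ⟨th F k t * b, by rw [conj_uS, mul_zero]⟩)
      (by
        rintro i hi hin _ ⟨b, rfl⟩ hc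
        rw [← map_pow] at hc
        have h1 := mul_inv_eq_iff_eq_mul.2 hc.eq
        rw [conj_uS, mul_zero] at h1
        have h2 := (uS_inj hF h1).2
        by_cases hb : b = 0
        · rw [hb, uS_one]
        · exfalso
          have h3 : th F k ((t ^ i : Fˣ) : F) = th F k 1 := by
            rw [map_one]; exact mul_right_cancel₀ hb (h2.trans (one_mul b).symm)
          refine pow_ne_one_of_lt_orderOf hi.ne' hin ?_
          rw [← map_pow, show t ^ i = 1 from Units.ext ((th_bij (F := F) (m := k)).1 h3), map_one])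
      (fun a _ w => by
        refine CfsgLib.Recog.ThreePrimes.prod_orbit_eq_one ρ
          (by rw [conj_pow, hn, pow_orderOf_eq_one, mul_one, mul_inv_cancel]) (fun v hv => ?_) w
        by_contra hv1
        obtain ⟨u, hu1, hu⟩ := fix_conj ρ (h := a⁻¹) hv1 hv
        refine hcon u hu1 ?_
        simpa [mul_assoc] using hu)
    have hcardZ : Nat.card Z = 2 ^ (2 * k + 1) := by
      rw [← hF, ← Nat.card_eq_fintype_card]
      symm
      exact Nat.card_eq_of_bijective (fun b => (⟨uS hF 0 b, b, rfl⟩ : Z))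
        ⟨fun b b' e => (uS_inj hF (congrArg Subtype.val e)).2, fun ⟨g, b, e⟩ => ⟨b, Subtype.ext e.symm⟩⟩
    haveI : IsSimpleGroup (Cfsg.Sz F k) := CfsgLib.Lie.Suzuki.isSimple hF hk
    have htriv := trivial_of_simple ρ (g := uS hF 0 1)
      (fun e => one_ne_zero ((uS_eq_one_iff hF).1 e).2) (fun v => by
      have hco : (Nat.card Z).Coprime (2 * j + 1) := by
        rw [hcardZ]; exact (Nat.coprime_two_left.2 (odd_two_mul_add_one j)).pow_left _
      have hh := hnorm (uS hF 0 1) ⟨1, rfl⟩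
      obtain ⟨w, rfl⟩ : ∃ w, w ^ Nat.card Z = v := by
        obtain ⟨c, hc⟩ := exists_pow_eq_self_of_coprime
          (hco.coprime_dvd_right (orderOf_dvd_of_pow_eq_one (hexp v)))
        exact ⟨v ^ c, by rw [← pow_mul, mul_comm, pow_mul, hc]⟩
      exact hh w)
    obtain ⟨v, hv⟩ := exists_ne (1 : V)
    exact hcon v hv (by rw [htriv, MulAut.one_apply])

/-- Without elements of order eight, a group minimally covering a Suzuki group centralises every elementary abelian
two-subgroup it normalises. -/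
theorem centralizes_of_no_eight {G : Type*} [Group G] [Finite G] (h8 : ∀ g : G, orderOf g ≠ 8) {H N : Subgroup G}
    [IsMulCommutative N] (hN : ∀ v ∈ N, v ^ 2 = 1) (hHN : H ≤ Subgroup.normalizer (N : Set G))
    (f : H →* Cfsg.Sz F k) (hf : Function.Surjective f)
    (hmin : ∀ S : Subgroup H, S.map f = ⊤ → S = ⊤) : ∀ h : H, ∀ v ∈ N, Commute (h : G) v := by
  classical
  haveI : CharP F 2 := charTwo_of_card hF
  haveI : Finite (Cfsg.Sz F k) := Subtype.finite
  haveI : IsSimpleGroup (Cfsg.Sz F k) := CfsgLib.Lie.Suzuki.isSimple hF hk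
  letI : CommGroup N := { (inferInstance : Group N) with mul_comm := mul_comm' }
  obtain ⟨ψ, hψ⟩ : ∃ ψ : H →* MulAut N, ψ = N.normalizerMonoidHom.comp (Subgroup.inclusion hHN) := ⟨_, rfl⟩
  have hψv : ∀ (h : H) (v : N), (ψ h v : G) = h * v * (h : G)⁻¹ := fun h v => by rw [hψ]; rfl
  suffices htriv : ∀ g, ψ g = 1 by
    intro h v hv
    have e : ψ h ⟨v, hv⟩ = ⟨v, hv⟩ := by rw [htriv, MulAut.one_apply]
    exact mul_inv_eq_iff_eq_mul.1 ((hψv h ⟨v, hv⟩).symm.trans (congrArg Subtype.val e))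
  have h8H : ∀ g : H, orderOf g ≠ 8 := fun g => by rw [← Subgroup.orderOf_coe]; exact h8 g
  obtain ⟨p, hp, hpd⟩ := Nat.exists_prime_and_dvd
    (show Fintype.card F ^ 2 + 1 ≠ 1 by have := two_lt_card hF hk; nlinarith)
  haveI := Fact.mk hp
  have hp2 : p ≠ 2 := fun e =>
    (Nat.not_even_iff_odd.2 (odd_sq_add_one hF)) (even_iff_two_dvd.2 (e ▸ hpd))
  obtain ⟨x, hx⟩ := exists_prime_orderOf_dvd_card' (G := Cfsg.Sz F k) p
    (by rw [nat_card hF hk]; exact (hpd.mul_left _).mul_right _)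
  obtain ⟨y, hy, hfree, hodd, hyC, -, hinvC⟩ := exists_torus_four hk hF (hx ▸ hp) (hx ▸ hpd)
  set C := Subgroup.centralizer ({x} : Set (Cfsg.Sz F k)) with hC
  haveI : IsCyclic C := (free_centralizer hF hk hfree).1
  have hxC : x ∈ C := mem_centralizer_singleton_iff.2 rfl
  have hy4 : y ^ 4 = 1 := orderOf_dvd_iff_pow_eq_one.1 hy.dvd
  -- a Sylow subgroup of the preimage of the torus and a lift of `y` normalising it
  set L := C.comap f with hL
  obtain ⟨z, hz⟩ := hf y
  have hyCi : ∀ (j : ℕ), ∀ c ∈ C, y ^ j * c * (y ^ j)⁻¹ ∈ C := fun j => by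
    induction j with
    | zero => intro c hc; simpa using hc
    | succ j ih =>
      intro c hc
      rw [show y ^ (j + 1) * c * (y ^ (j + 1))⁻¹ = y * (y ^ j * c * (y ^ j)⁻¹) * y⁻¹ by rw [pow_succ']; group]
      exact hyC _ (ih c hc)
  have hzL : z ∈ normalizer (L : Set H) := mem_normalizer_iff.2 fun a => by
    show f a ∈ C ↔ f (z * a * z⁻¹) ∈ C
    rw [map_mul, map_mul, map_inv, hz]
    refine ⟨fun h => hyC _ h, fun h => ?_⟩
    have h3 := hyCi 3 _ h
    rwa [show y ^ 3 * (y * f a * y⁻¹) * (y ^ 3)⁻¹ = y ^ 4 * f a * (y ^ 4)⁻¹ by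
      simp only [pow_succ, pow_zero, one_mul, mul_inv_rev, mul_assoc], hy4, one_mul, inv_one, mul_one] at h3
  obtain ⟨x0, hx0⟩ := hf x
  obtain ⟨e, m, hpm, hem⟩ : ∃ e m : ℕ, ¬ p ∣ m ∧ orderOf x0 = p ^ e * m :=
    Nat.exists_eq_pow_mul_and_not_dvd (orderOf_pos x0).ne' p hp.ne_one
  have ha0L : x0 ^ m ∈ L := by
    show f (x0 ^ m) ∈ C
    rw [map_pow, hx0]
    exact pow_mem hxC m
  have ha0p : IsPGroup p (zpowers (⟨x0 ^ m, ha0L⟩ : L)) := IsPGroup.of_card_dvd_pow (n := e) (by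
    rw [Nat.card_zpowers]
    refine orderOf_dvd_of_pow_eq_one (Subtype.ext ?_)
    show (x0 ^ m) ^ p ^ e = 1
    rw [← pow_mul, mul_comm, ← hem, pow_orderOf_eq_one])
  obtain ⟨Su, hSu⟩ := ha0p.exists_le_sylow
  let ez : MulAut L := L.normalizerMonoidHom ⟨z, hzL⟩
  obtain ⟨l, hl⟩ := MulAction.exists_smul_eq L (ez • Su) Su
  set P : Subgroup H := (Su : Subgroup L).map L.subtype with hP
  have hPp : IsPGroup p P := Su.isPGroup'.map _
  have hPL : ∀ a ∈ P, f a ∈ C := by
    rintro _ ⟨a, -, rfl⟩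
    exact a.2
  set h0 : H := (l : H) * z with hh0
  have hh0P : ∀ a ∈ P, h0 * a * h0⁻¹ ∈ P := by
    rintro _ ⟨a, ha, rfl⟩
    have h1 : l * ez a * l⁻¹ ∈ ((l • (ez • Su) : Sylow p L) : Subgroup L) := ⟨ez a, ⟨a, ha, rfl⟩, rfl⟩
    rw [hl] at h1
    refine ⟨_, h1, ?_⟩
    show (l : H) * (z * a * z⁻¹) * (l : H)⁻¹ = l * z * a * (l * z)⁻¹
    group
  have hconj0 : ∀ (j : ℕ), ∀ c ∈ C, f h0 ^ j * c * (f h0 ^ j)⁻¹ = y ^ j * c * (y ^ j)⁻¹ := by
    intro j
    induction j with
    | zero => simp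
    | succ j ih =>
      intro c hc
      have hd := hyC _ (hyCi j c hc)
      have hl' : f (l : H) ∈ C := l.2
      have hcm := centralizer_comm hF hk hfree hl' hd
      rw [show f h0 ^ (j + 1) * c * (f h0 ^ (j + 1))⁻¹ = f h0 * (f h0 ^ j * c * (f h0 ^ j)⁻¹) * (f h0)⁻¹ by
          rw [pow_succ']; group, ih c hc, hh0, map_mul, hz,
        show f (l : H) * y * (y ^ j * c * (y ^ j)⁻¹) * (f (l : H) * y)⁻¹ =
          f (l : H) * (y * (y ^ j * c * (y ^ j)⁻¹) * y⁻¹) * (f (l : H))⁻¹ by group, hcm.eq, mul_inv_cancel_right,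
        pow_succ']
      group
  obtain ⟨n, hn1, hn4⟩ := exists_two_part h8H h0
  obtain ⟨h, hh⟩ : ∃ h, h = h0 ^ n := ⟨_, rfl⟩
  rw [← hh] at hn4
  have hhP : ∀ a ∈ P, h * a * h⁻¹ ∈ P := by
    rw [hh]
    clear hh hn1 hn4
    induction n with
    | zero => intro a ha; simpa using ha
    | succ n ih =>
      intro a ha
      rw [show h0 ^ (n + 1) * a * (h0 ^ (n + 1))⁻¹ = h0 * (h0 ^ n * a * (h0 ^ n)⁻¹) * h0⁻¹ by rw [pow_succ']; group]
      exact hh0P _ (ih a ha)
  have hconj : ∀ c ∈ C, f h * c * (f h)⁻¹ = y * c * y⁻¹ := fun c hc => by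
    rw [hh, map_pow, hconj0 n c hc, ← pow_mod_orderOf, hy, hn1, pow_one]
  obtain ⟨A, hAp, -, hhA, ⟨a1, ha1A, ha11⟩, hAfpf⟩ := exists_frobenius_lift f hp2 hn4 hPp hhP
    (fun a ha => by
      rw [show f h * f h * f a * (f h * f h)⁻¹ = f h * (f h * f a * (f h)⁻¹) * (f h)⁻¹ by group,
        hconj _ (hPL a ha), hconj _ (hyC _ (hPL a ha)), ← hinvC _ (hPL a ha)]
      group)
    (fun a ha hap => by
      rw [hconj _ (hPL a ha)]
      by_cases ha1 : f a = 1
      · exact ⟨0, by rw [ha1]; group⟩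
      obtain ⟨r, hr⟩ := Submonoid.mem_powers_iff _ _ |>.1 (mem_powers_iff_mem_zpowers.2
        (mem_zpowers_of_cyclic (hPL a ha) (hyC _ (hPL a ha)) hap ha1
          (by rw [conj_pow, hap, mul_one, mul_inv_cancel])))
      exact ⟨r, hr.symm⟩)
    ⟨x0 ^ m, ⟨⟨x0 ^ m, ha0L⟩, hSu (mem_zpowers _), rfl⟩, by
      rw [map_pow, hx0]
      exact fun e1 => hpm (hx ▸ orderOf_dvd_of_pow_eq_one e1)⟩
  have hfpf : ∀ i : ℕ, 0 < i → i < 4 → ∀ a ∈ A, Commute (h ^ i) a → a = 1 := by
    intro i hi hi4 a ha hc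
    refine hAfpf a ha ?_
    rcases (show i = 1 ∨ i = 2 ∨ i = 3 by omega) with rfl | rfl | rfl
    · rw [pow_one] at hc
      exact hc.mul_left hc
    · rwa [pow_two] at hc
    · have e : h ^ 3 * h ^ 3 = h * h := by rw [← pow_add, pow_add h 4 2, hn4, one_mul, pow_two]
      exact e ▸ hc.mul_left hc
  have horb : ∀ a ∈ A, ∀ w : N, ∏ i ∈ Finset.range 4, ψ ((a * h * a⁻¹) ^ i) w = 1 := by
    intro a _ w
    obtain ⟨g, hg⟩ : ∃ g, g = a * h * a⁻¹ := ⟨_, rfl⟩
    have h4 : g ^ 4 = 1 := by rw [hg, conj_pow, hn4, mul_one, mul_inv_cancel]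
    rw [← hg]
    by_contra hne
    have hprod : (((w : G) * (g : G)) ^ 4) = ((∏ i ∈ Finset.range 4, ψ (g ^ i) w : N) : G) := by
      have h4' : (g : G) * g * g * g = 1 := by
        have := congrArg Subtype.val h4
        rw [Subgroup.coe_pow] at this
        simp only [pow_succ, pow_zero, one_mul] at this
        exact this
      simp only [Finset.prod_range_succ, Finset.prod_range_zero, one_mul, Subgroup.coe_mul, hψv, Subgroup.coe_pow]
      calc ((w : G) * g) ^ 4
          = (w : G) * (g * w * (g : G)⁻¹) * ((g : G) ^ 2 * w * ((g : G) ^ 2)⁻¹) *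
              ((g : G) ^ 3 * w * ((g : G) ^ 3)⁻¹) * ((g : G) * g * g * g) := by
            simp only [pow_succ, pow_zero, one_mul]; group
        _ = _ := by rw [h4', mul_one]; group
    set u : N := ∏ i ∈ Finset.range 4, ψ (g ^ i) w with hu
    refine h8 ((w : G) * g) (orderOf_eq_prime_pow (p := 2) (n := 2) ?_ ?_ : orderOf _ = 2 ^ 3)
    · rw [show (2 : ℕ) ^ 2 = 4 from rfl, hprod]
      exact fun e => hne (Subtype.ext e)
    · rw [show (2 : ℕ) ^ (2 + 1) = 4 * 2 from rfl, pow_mul, hprod]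
      exact hN _ u.2
  have hnorm := norm_lemma ψ A (y := h) (n := 4) (by norm_num) hhA hfpf horb
  have hA1 : a1 ∈ ψ.ker := MonoidHom.mem_ker.2 (MulEquiv.ext fun v => by
    obtain ⟨i, hi⟩ := IsPGroup.iff_card.1 hAp
    obtain ⟨r, hr⟩ := (hp.odd_of_ne_two hp2).pow (n := i)
    have hv : v ^ 2 = 1 := Subtype.ext (by rw [Subgroup.coe_pow]; exact hN _ v.2)
    have := hnorm a1 ha1A v
    rw [hi, hr, pow_succ, pow_mul, hv, one_pow, one_mul] at this
    rw [MulAut.one_apply, this])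
  rcases IsSimpleGroup.eq_bot_or_eq_top_of_normal (ψ.ker.map f)
    (Subgroup.Normal.map inferInstance f hf) with e1 | e1
  · exact absurd (Subgroup.mem_bot.1 (e1 ▸ Subgroup.mem_map_of_mem f hA1)) ha11
  · exact fun g => MonoidHom.mem_ker.1 (hmin _ e1 ▸ Subgroup.mem_top g)

end Main

end CfsgLib.SzSq
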