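import Cfsg.Agent.Lib.SzSq.Main
import Cfsg.Agent.Lib.SzSq.Fix

/-!
Owner: helper19. Recognition of the square of a Suzuki group, given the classification of simple groups of order
prime to three (S0336).
-/

set_option autoImplicit false

namespace CfsgLib.SzSq

open CfsgLib.Lie.Suzuki

universe u v

theorem fixFacts : FixFacts.{u} where
  fixed := fun {F} _ _ {k} hk hF => by
    haveI := charTwo_of_card hF
    exact fun {V} _ _ _ {l} hl hl2 hexp ρ {x} hx hxl => exists_fixed_sz hk hF hl hl2 hexp ρ hx hxl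
  cent := fun {F} _ _ {k} hk hF => by
    haveI := charTwo_of_card hF
    exact fun {G} _ _ h8 {H N} _ hN hHN f hf hmin => centralizes_of_no_eight hk hF h8 hN hHN f hf hmin

/-- The statement S3533, given the classification of simple groups of order prime to three. -/
theorem spectrum_of_threePrime (h3p : ThreePrimeUse.ThreePrimeSimple.{u}) {G : Type u} [Group G] [Finite G]
    {F : Type v} [Field F] [Fintype F] {m : ℕ} (hm : 1 ≤ m) (hm2 : m ≠ 2) (hF : Fintype.card F = 2 ^ (2 * m + 1))
    (h : Set.range (orderOf : G → ℕ) =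
      Set.range (orderOf : ↥(Cfsg.Lie.Sz F (2 ^ (m + 1))) × ↥(Cfsg.Lie.Sz F (2 ^ (m + 1))) → ℕ)) :
    Nonempty (G ≃* ↥(Cfsg.Lie.Sz F (2 ^ (m + 1))) × ↥(Cfsg.Lie.Sz F (2 ^ (m + 1)))) :=
  spectrum fixFacts h3p hm hm2 hF h

end CfsgLib.SzSq
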