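import Cfsg.Agent.Lib.SzSq.FixModule
import Cfsg.Agent.Lib.PGroups.Basic

/-!
Owner: helper1. Lifting a Frobenius group with complement of order four along a surjection without elements of order
eight.
-/

set_option autoImplicit false
set_option linter.all false

namespace CfsgLib.SzSq

open Subgroup

/-- Two elements of the same prime order in a cyclic group generate each other. -/
theorem mem_zpowers_of_cyclic {G : Type*} [Group G] {C : Subgroup G} [Finite C] [IsCyclic C] {p : ℕ}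
    [Fact p.Prime] {c d : G} (hc : c ∈ C) (hd : d ∈ C) (hcp : c ^ p = 1) (hc1 : c ≠ 1) (hdp : d ^ p = 1) :
    d ∈ zpowers c := by
  letI : CommGroup C := IsCyclic.commGroup
  obtain ⟨K, hK⟩ : ∃ K, K = (powMonoidHom p : C →* C).ker := ⟨_, rfl⟩
  have ho : orderOf (⟨c, hc⟩ : C) = p := (Subgroup.orderOf_coe _).symm.trans (orderOf_eq_prime hcp hc1)
  have hKc : Nat.card K = p := by
    rw [hK, IsCyclic.card_powMonoidHom_ker, Nat.gcd_eq_right (ho ▸ orderOf_dvd_natCard _)]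
  have he : zpowers (⟨c, hc⟩ : C) = K :=
    eq_of_le_of_card_ge (zpowers_le.2 (hK ▸ Subtype.ext hcp)) (by rw [hKc, Nat.card_zpowers, ho])
  have hdK : (⟨d, hd⟩ : C) ∈ zpowers (⟨c, hc⟩ : C) := by
    rw [he, hK]
    exact Subtype.ext hdp
  obtain ⟨i, hi⟩ := mem_zpowers_iff.1 hdK
  exact mem_zpowers_iff.2 ⟨i, by simpa using congrArg Subtype.val hi⟩

/-- Without elements of order eight, the two-part of an element is a power congruent to one modulo four. -/
theorem exists_two_part {G : Type*} [Group G] [Finite G] (h8 : ∀ g : G, orderOf g ≠ 8) (g : G) :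
    ∃ n : ℕ, n % 4 = 1 ∧ (g ^ n) ^ 4 = 1 := by
  obtain ⟨e, m, hm, hem⟩ := Nat.exists_eq_two_pow_mul_odd (n := orderOf g) (orderOf_pos g).ne'
  refine ⟨m * m, by obtain ⟨r, rfl⟩ := hm; ring_nf; omega, ?_⟩
  have hh2 : (g ^ (m * m)) ^ 2 ^ e = 1 := by
    rw [← pow_mul, show m * m * 2 ^ e = orderOf g * m by rw [hem]; ring, pow_mul, pow_orderOf_eq_one, one_pow]
  obtain ⟨i, hie, hi⟩ := (Nat.dvd_prime_pow Nat.prime_two).1 (orderOf_dvd_of_pow_eq_one hh2)
  rcases Nat.lt_or_ge i 3 with hlt | hge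
  · refine orderOf_dvd_iff_pow_eq_one.1 (hi ▸ ?_)
    exact Nat.pow_dvd_pow 2 (show i ≤ 2 by omega)
  · exfalso
    refine h8 ((g ^ (m * m)) ^ 2 ^ (i - 3)) ?_
    rw [orderOf_pow' _ (pow_ne_zero _ two_ne_zero), hi,
      Nat.gcd_eq_right (Nat.pow_dvd_pow 2 (by omega)), Nat.pow_div (by omega) two_pos,
      show i - (i - 3) = 3 by omega]
    norm_num

/-- An element `h` with `h ^ 4 = 1` normalising a `p`-group, inverting by its square and raising to a power the image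
of one element, normalises a smaller group covering something on which its square has no fixed points. -/
theorem exists_frobenius_lift {H X : Type*} [Group H] [Finite H] [Group X] (f : H →* X) {p : ℕ} [Fact p.Prime]
    (hp2 : p ≠ 2) {h : H} (hh : h ^ 4 = 1) {P : Subgroup H} (hP : IsPGroup p P)
    (hhP : ∀ a ∈ P, h * a * h⁻¹ ∈ P)
    (hinv : ∀ a ∈ P, f h * f h * f a * (f h * f h)⁻¹ = (f a)⁻¹)
    (hpow : ∀ a ∈ P, f a ^ p = 1 → ∃ r : ℕ, f h * f a * (f h)⁻¹ = f a ^ r)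
    (hne : ∃ a ∈ P, f a ≠ 1) :
    ∃ A : Subgroup H, IsPGroup p A ∧ A ≤ P ∧ (∀ a ∈ A, h * a * h⁻¹ ∈ A) ∧ (∃ a ∈ A, f a ≠ 1) ∧
      ∀ a ∈ A, Commute (h * h) a → a = 1 := by
  have hp : p.Prime := Fact.out
  obtain ⟨A, ⟨hAP, hhA, hA1⟩, hmin⟩ := Set.Finite.exists_minimal
    (s := {A : Subgroup H | A ≤ P ∧ (∀ a ∈ A, h * a * h⁻¹ ∈ A) ∧ ∃ a ∈ A, f a ≠ 1}) (Set.toFinite _)
    ⟨P, le_rfl, hhP, hne⟩
  have hAp : IsPGroup p A := hP.to_le hAP
  refine ⟨A, hAp, hAP, hhA, hA1, ?_⟩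
  haveI := hAp.isNilpotent
  let φ : A →* A :=
    { toFun := fun a => ⟨h * a * h⁻¹, hhA a a.2⟩
      map_one' := Subtype.ext (by simp)
      map_mul' := fun a b => Subtype.ext (by simp [mul_assoc]) }
  have hφ2 : ∀ a : A, ((φ (φ a) : A) : H) = h * h * a * (h * h)⁻¹ := fun a => by
    show h * (h * a * h⁻¹) * h⁻¹ = _
    group
  have hφ4 : ∀ a : A, φ (φ (φ (φ a))) = a := fun a => Subtype.ext (by
    show h * (h * (h * (h * a * h⁻¹) * h⁻¹) * h⁻¹) * h⁻¹ = a
    calc h * (h * (h * (h * a * h⁻¹) * h⁻¹) * h⁻¹) * h⁻¹ = h ^ 4 * a * (h ^ 4)⁻¹ := by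
          simp only [pow_succ, pow_zero, one_mul, mul_inv_rev, mul_assoc]
      _ = _ := by rw [hh]; group)
  -- a covering invariant subgroup is everything
  have hfull : ∀ B : Subgroup A, (∀ b ∈ B, φ b ∈ B) → (∃ b ∈ B, f (b : H) ≠ 1) → B = ⊤ := by
    intro B hB ⟨b, hb, hb1⟩
    have hle : A ≤ B.map A.subtype := hmin
      (y := B.map A.subtype) ⟨(map_subtype_le B).trans hAP, by
        rintro _ ⟨c, hc, rfl⟩
        exact ⟨φ c, hB c hc, rfl⟩, b, ⟨b, hb, rfl⟩, hb1⟩ (map_subtype_le B)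
    exact eq_top_iff.2 fun a _ => by
      obtain ⟨c, hc, e⟩ := hle a.2
      obtain rfl : c = a := Subtype.ext e
      exact hc
  set Φ := frattini A with hΦ
  have hφΦ : ∀ a ∈ Φ, φ a ∈ Φ := by
    intro a ha
    let e : A ≃* A := MulEquiv.ofBijective φ ⟨fun x y hxy => by
      rw [← hφ4 x, hxy, hφ4], fun y => ⟨φ (φ (φ y)), hφ4 y⟩⟩
    have := (characteristic_iff_comap_eq.1 (frattini_characteristic (G := A)) e)
    rw [hΦ, ← this] at ha
    rw [hΦ]
    exact ha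
  haveI hΦn : Φ.Normal := inferInstance
  have hcommQ : ∀ x y : A ⧸ Φ, x * y = y * x := fun x y => by
    obtain ⟨a, rfl⟩ := QuotientGroup.mk'_surjective Φ x
    obtain ⟨b, rfl⟩ := QuotientGroup.mk'_surjective Φ y
    rw [← commutatorElement_eq_one_iff_mul_comm, ← map_commutatorElement, QuotientGroup.mk'_apply,
      QuotientGroup.eq_one_iff]
    exact CfsgLib.PGroups.commutator_le_frattini
      (Subgroup.commutator_mem_commutator (mem_top a) (mem_top b))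
  have hpQ : ∀ a : A, QuotientGroup.mk' Φ a ^ p = 1 := fun a => by
    rw [← map_pow, QuotientGroup.mk'_apply, QuotientGroup.eq_one_iff]
    exact CfsgLib.PGroups.pow_mem_frattini hAp a
  letI : CommGroup (A ⧸ Φ) := { (inferInstance : Group (A ⧸ Φ)) with mul_comm := hcommQ }
  set π := QuotientGroup.mk' Φ with hπ
  have hπφ : ∀ a b : A, π a = π b → π (φ a) = π (φ b) := fun a b hab => by
    rw [hπ, QuotientGroup.mk'_apply, QuotientGroup.mk'_apply, QuotientGroup.eq] at hab ⊢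
    simpa using hφΦ _ hab
  -- the square inverts the Frattini quotient
  obtain ⟨a₀, ha₀, ha₀1⟩ := hA1
  have hsq : ∀ (n : ℕ) (x : X), x ^ n = 1 → n.Coprime 2 → x * x = 1 → x = 1 := fun n x hn hco hx => by
    have h1 := pow_gcd_eq_one.2 ⟨hn, (pow_two x).trans hx⟩
    rwa [hco.gcd_eq_one, pow_one] at h1
  have hp2' : p.Coprime 2 := (Nat.coprime_primes hp Nat.prime_two).2 hp2
  have hne2 : ∀ a : A, f (a : H) ≠ 1 → f ((a : H)⁻¹ * ((φ (φ a) : A) : H)) ≠ 1 := fun a ha1 e => by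
    rw [hφ2, map_mul, map_mul, map_mul, map_inv, map_inv, map_mul, hinv _ (hAP a.2), ← mul_inv_rev,
      inv_eq_one] at e
    obtain ⟨n, hn⟩ := hAp a
    refine ha1 (hsq (p ^ n) _ ?_ (hp2'.pow_left n) e)
    rw [← map_pow, ← Subgroup.coe_pow, hn, Subgroup.coe_one, map_one]
  have hall : ∀ a : A, π (φ (φ a)) = (π a)⁻¹ := by
    let B : Subgroup A := MonoidHom.ker
      (((π.comp φ).comp φ) * π : A →* A ⧸ Φ)
    have hB : ∀ b, b ∈ B ↔ π (φ (φ b)) * π b = 1 := fun b => Iff.rfl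
    have : B = ⊤ := hfull B (fun b hb => by
      rw [hB, ← map_mul] at hb ⊢
      rw [← map_one π] at hb ⊢
      have := hπφ _ _ hb
      rwa [map_mul, map_one] at this) ⟨⟨a₀, ha₀⟩⁻¹ * φ (φ ⟨a₀, ha₀⟩), by
        rw [hB, ← map_mul π,
          show φ (φ ((⟨a₀, ha₀⟩ : A)⁻¹ * φ (φ ⟨a₀, ha₀⟩))) * ((⟨a₀, ha₀⟩ : A)⁻¹ * φ (φ ⟨a₀, ha₀⟩)) = 1 by
            rw [map_mul, map_mul, hφ4, map_inv, map_inv]; group, map_one], hne2 ⟨a₀, ha₀⟩ ha₀1⟩
    intro a
    exact eq_inv_of_mul_eq_one_left ((hB a).1 (this ▸ mem_top a))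
  -- a generator
  obtain ⟨a, ha1, hap⟩ : ∃ a : A, f (a : H) ≠ 1 ∧ f (a : H) ^ p = 1 := by
    obtain ⟨n, hn⟩ := hAp ⟨a₀, ha₀⟩
    classical
    have hex : ∃ i, f (((⟨a₀, ha₀⟩ : A) : H)) ^ p ^ i = 1 :=
      ⟨n, by rw [← map_pow, ← Subgroup.coe_pow, hn, Subgroup.coe_one, map_one]⟩
    obtain ⟨i, hi⟩ : ∃ i, Nat.find hex = i + 1 := by
      refine ⟨Nat.find hex - 1, (Nat.sub_add_cancel (Nat.one_le_iff_ne_zero.2 fun e => ha₀1 ?_)).symm⟩
      have := Nat.find_spec hex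
      rwa [e, pow_zero, pow_one] at this
    refine ⟨⟨a₀, ha₀⟩ ^ p ^ i, ?_, ?_⟩
    · rw [Subgroup.coe_pow, map_pow]
      exact Nat.find_min hex (by omega)
    · rw [Subgroup.coe_pow, map_pow, ← pow_mul, ← pow_succ, ← hi]
      exact Nat.find_spec hex
  obtain ⟨r, hr⟩ := hpow _ (hAP a.2) hap
  have hfo : orderOf (f (a : H)) = p := orderOf_eq_prime hap ha1
  have hr2 : p ∣ r * r + 1 := by
    rw [← hfo, orderOf_dvd_iff_pow_eq_one, pow_succ, pow_mul, ← hr]
    rw [conj_pow, ← hr]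
    calc f h * (f h * f (a : H) * (f h)⁻¹) * (f h)⁻¹ * f (a : H)
        = f h * f h * f (a : H) * (f h * f h)⁻¹ * f (a : H) := by group
      _ = 1 := by rw [hinv _ (hAP a.2), inv_mul_cancel]
  have hpr : ¬ p ∣ r + r := fun hd => by
    rw [← two_mul] at hd
    rcases hp.dvd_mul.1 hd with h' | h'
    · exact hp2 ((Nat.prime_dvd_prime_iff_eq hp Nat.prime_two).1 h')
    · exact hp.not_dvd_one ((Nat.dvd_add_right (h'.mul_right r)).1 hr2)
  obtain ⟨a', ha'⟩ : ∃ a', a' = φ a * a ^ r := ⟨_, rfl⟩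
  have ha'1 : f (a' : H) ≠ 1 := by
    rw [ha', Subgroup.coe_mul, Subgroup.coe_pow, map_mul, map_pow,
      show f ((φ a : A) : H) = f (a : H) ^ r from by
        rw [← hr, show ((φ a : A) : H) = h * a * h⁻¹ from rfl, map_mul, map_mul, map_inv], ← pow_add]
    exact fun e => hpr (hfo ▸ orderOf_dvd_of_pow_eq_one e)
  have hπa' : π (φ a') = π (a' ^ r) := by
    have e : π a ^ (r * r) = (π a)⁻¹ := by
      refine eq_inv_of_mul_eq_one_left ?_
      obtain ⟨c, hc⟩ := hr2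
      rw [← pow_succ, hc, pow_mul, hpQ, one_pow]
    rw [ha', map_mul, map_mul π, map_pow φ, map_pow π, map_pow π, map_mul π, map_pow π, hall, mul_pow, ← pow_mul, e,
      mul_comm]
  have hgen : zpowers a' = ⊤ := by
    have hmem : a' ∈ zpowers a' ⊔ Φ := Subgroup.mem_sup_left (mem_zpowers a')
    refine frattini_nongenerating (K := zpowers a') (hΦ ▸ hfull (zpowers a' ⊔ Φ) (fun b hb => ?_)
      (Exists.intro a' (And.intro hmem ha'1)))
    obtain ⟨c, hc, z, hz, rfl⟩ := Subgroup.mem_sup_of_normal_right.1 hb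
    obtain ⟨i, rfl⟩ := mem_zpowers_iff.1 hc
    rw [map_mul]
    refine mul_mem ?_ (mem_sup_right (hφΦ z hz))
    rw [map_zpow]
    refine zpow_mem ?_ i
    refine Subgroup.mem_sup_of_normal_right.2 ⟨a' ^ r, pow_mem (mem_zpowers a') r, (a' ^ r)⁻¹ * φ a', ?_, mul_inv_cancel_left _ _⟩
    have h1 := hπa'.symm
    rw [hπ, QuotientGroup.mk'_apply, QuotientGroup.mk'_apply, QuotientGroup.eq] at h1
    exact h1
  have hcA : ∀ x y : A, Commute x y := fun x y => by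
    obtain ⟨i, rfl⟩ := mem_zpowers_iff.1 (hgen ▸ mem_top x : x ∈ zpowers a')
    obtain ⟨l, rfl⟩ := mem_zpowers_iff.1 (hgen ▸ mem_top y : y ∈ zpowers a')
    exact (Commute.refl a').zpow_zpow i l
  letI : CommGroup A := { (inferInstance : Group A) with mul_comm := fun x y => (hcA x y).eq }
  let B : Subgroup A := MonoidHom.ker ((φ.comp φ) * MonoidHom.id A : A →* A)
  have hB : ∀ b, b ∈ B ↔ φ (φ b) * b = 1 := fun b => Iff.rfl
  have hBtop : B = ⊤ := hfull B (fun b hb => by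
    rw [hB] at hb ⊢
    have := congrArg φ hb
    rwa [map_mul, map_one] at this) ⟨a⁻¹ * φ (φ a), by
      rw [hB, map_mul, map_mul, hφ4, map_inv, map_inv]
      rw [mul_comm a⁻¹ (φ (φ a)), mul_assoc, ← mul_assoc a, mul_comm a (φ (φ a)), mul_assoc,
        mul_inv_cancel, mul_one, inv_mul_cancel], hne2 a ha1⟩
  intro x hx hc
  have h1 := (hB ⟨x, hx⟩).1 (hBtop ▸ mem_top _)
  have h2 : (φ (φ ⟨x, hx⟩) : H) = x := by
    rw [hφ2]
    show h * h * x * (h * h)⁻¹ = x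
    rw [hc.eq, mul_inv_cancel_right]
  have h3 : x * x = 1 := by
    have := congrArg Subtype.val h1
    rw [Subgroup.coe_mul, h2, Subgroup.coe_one] at this
    exact this
  obtain ⟨n, hn⟩ := hAp ⟨x, hx⟩
  have h4 := pow_gcd_eq_one.2 ⟨show x ^ (p ^ n) = 1 from congrArg Subtype.val hn, (pow_two x).trans h3⟩
  rwa [(hp2'.pow_left n).gcd_eq_one, pow_one] at h4

end CfsgLib.SzSq
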