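import Mathlib

/-!
Owner: helper1. Actions on abelian groups of odd exponent: eigenspaces of involutions, the four group formula,
regular two-groups and Frobenius groups.
-/

set_option autoImplicit false
set_option linter.all false

namespace CfsgLib.SzSq

open Subgroup

section Generic

variable {X : Type*} [Group X] {V : Type*} [CommGroup V] (ρ : X →* MulAut V)

/-- Common fixed points. -/
def fixS (S : Set X) : Subgroup V where
  carrier := {v | ∀ g ∈ S, ρ g v = v}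
  one_mem' := fun g _ => map_one _
  mul_mem' := fun {a b} ha hb g hg => by rw [map_mul, ha g hg, hb g hg]
  inv_mem' := fun {a} ha g hg => by rw [map_inv, ha g hg]

theorem mem_fixS {S : Set X} {v : V} : v ∈ fixS ρ S ↔ ∀ g ∈ S, ρ g v = v := Iff.rfl

/-- Fixed points of one element. -/
def fix1 (g : X) : Subgroup V where
  carrier := {v | ρ g v = v}
  one_mem' := map_one _
  mul_mem' := fun {a b} (ha : ρ g a = a) (hb : ρ g b = b) => show ρ g (a * b) = a * b by rw [map_mul, ha, hb]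
  inv_mem' := fun {a} (ha : ρ g a = a) => show ρ g a⁻¹ = a⁻¹ by rw [map_inv, ha]

theorem mem_fix1 {g : X} {v : V} : v ∈ fix1 ρ g ↔ ρ g v = v := Iff.rfl

/-- The inverted elements. -/
def invS (g : X) : Subgroup V where
  carrier := {v | ρ g v = v⁻¹}
  one_mem' := show ρ g 1 = 1⁻¹ by rw [map_one, inv_one]
  mul_mem' := fun {a b} (ha : ρ g a = a⁻¹) (hb : ρ g b = b⁻¹) =>
    show ρ g (a * b) = (a * b)⁻¹ by rw [map_mul, ha, hb, mul_inv]
  inv_mem' := fun {a} (ha : ρ g a = a⁻¹) => show ρ g a⁻¹ = a⁻¹⁻¹ by rw [map_inv, ha]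

theorem mem_invS {g : X} {v : V} : v ∈ invS ρ g ↔ ρ g v = v⁻¹ := Iff.rfl

theorem app (g h : X) (v : V) : ρ (g * h) v = ρ g (ρ h v) := by rw [map_mul, MulAut.mul_apply]

theorem app_inv (g : X) (v : V) : ρ g⁻¹ (ρ g v) = v := by
  rw [← app, inv_mul_cancel, map_one, MulAut.one_apply]

theorem fix_zpowers {c : X} {v : V} (hc : ρ c v = v) {g : X} (hg : g ∈ zpowers c) : ρ g v = v := by
  have hle : zpowers c ≤ (MulAction.stabilizer (MulAut V) v).comap ρ := zpowers_le.2 hc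
  exact hle hg

theorem fixS_zpowers (g : X) : fixS ρ (zpowers g : Set X) = fix1 ρ g :=
  le_antisymm (fun v hv => hv g (mem_zpowers g)) fun v hv x hx => fix_zpowers ρ hv hx

theorem card_fix_conj (h g : X) : Nat.card (fix1 ρ (h * g * h⁻¹)) = Nat.card (fix1 ρ g) := by
  have e : fix1 ρ (h * g * h⁻¹) = (fix1 ρ g).map (ρ h).toMonoidHom := by
    ext v
    rw [Subgroup.mem_map, mem_fix1]
    refine ⟨fun hv => ⟨ρ h⁻¹ v, ?_, ?_⟩, ?_⟩
    · rw [mem_fix1]
      calc ρ g (ρ h⁻¹ v) = ρ h⁻¹ (ρ (h * g * h⁻¹) v) := by rw [← app, ← app]; group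
        _ = _ := by rw [hv]
    · show ρ h (ρ h⁻¹ v) = v
      rw [← app, mul_inv_cancel, map_one, MulAut.one_apply]
    · rintro ⟨w, hw, rfl⟩
      show ρ (h * g * h⁻¹) (ρ h w) = ρ h w
      rw [← app, inv_mul_cancel_right, app, show ρ g w = w from hw]
  rw [e, Subgroup.card_map_of_injective (ρ h).injective]

theorem card_fix_inv (g : X) : Nat.card (fix1 ρ g⁻¹) = Nat.card (fix1 ρ g) := by
  rw [← fixS_zpowers, ← fixS_zpowers, zpowers_inv]

/-- A conjugate of an element with fixed points has fixed points. -/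
theorem fix_conj {h g : X} {v : V} (hv1 : v ≠ 1) (hv : ρ g v = v) : ∃ w : V, w ≠ 1 ∧ ρ (h * g * h⁻¹) w = w :=
  ⟨ρ h v, fun e => hv1 ((map_eq_one_iff _ (ρ h).injective).1 e), by
    rw [← app, inv_mul_cancel_right, app, hv]⟩

/-- An element normalising a set maps its fixed points to themselves. -/
theorem fixS_invariant {S : Set X} {g : X} (hg : ∀ s ∈ S, g⁻¹ * s * g ∈ S) {v : V} (hv : v ∈ fixS ρ S) :
    ρ g v ∈ fixS ρ S := fun s hs => by
  rw [← app, show s * g = g * (g⁻¹ * s * g) by group, app, hv _ (hg s hs)]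

variable {j : ℕ} (hexp : ∀ v : V, v ^ (2 * j + 1) = 1)

include hexp in
theorem eq_one_of_sq {v : V} (h : v * v = 1) : v = 1 := by
  have h2 := hexp v
  rwa [pow_succ, pow_mul, pow_two, h, one_pow, one_mul] at h2

include hexp in
theorem card_split [Finite V] (T : Subgroup V) (a : X) (hT : ∀ v ∈ T, ρ a v ∈ T)
    (ha : ∀ v ∈ T, ρ a (ρ a v) = v) :
    Nat.card T = Nat.card (T ⊓ fix1 ρ a : Subgroup V) * Nat.card (T ⊓ invS ρ a : Subgroup V) := by
  rw [← Nat.card_prod]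
  symm
  refine Nat.card_eq_of_bijective
    (fun p : (T ⊓ fix1 ρ a : Subgroup V) × (T ⊓ invS ρ a : Subgroup V) =>
      (⟨(p.1 : V) * p.2, mul_mem (Subgroup.mem_inf.1 p.1.2).1 (Subgroup.mem_inf.1 p.2.2).1⟩ : T)) ⟨?_, ?_⟩
  · rintro ⟨⟨f, hf⟩, ⟨i, hi⟩⟩ ⟨⟨f', hf'⟩, ⟨i', hi'⟩⟩ h
    have h1 : f * i = f' * i' := congrArg Subtype.val h
    have h2 : f / f' = i' / i := by rw [div_eq_div_iff_mul_eq_mul, h1, mul_comm]
    have h3 : ρ a (f / f') = f / f' := by rw [map_div, mem_fix1 ρ |>.1 hf.2, mem_fix1 ρ |>.1 hf'.2]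
    have h4 : ρ a (i' / i) = (i' / i)⁻¹ := div_mem (show i' ∈ invS ρ a from (Subgroup.mem_inf.1 hi').2) (show i ∈ invS ρ a from (Subgroup.mem_inf.1 hi).2)
    rw [← h2, h3] at h4
    have h5 : f / f' = 1 := eq_one_of_sq hexp (by nth_rw 2 [h4]; exact mul_inv_cancel _)
    obtain rfl := div_eq_one.1 h5
    obtain rfl := mul_left_cancel h1
    rfl
  · rintro ⟨v, hv⟩
    have hs : v ^ (j + 1) * v ^ (j + 1) = v := by
      rw [← pow_add, show j + 1 + (j + 1) = 2 * j + 1 + 1 by omega, pow_succ, hexp, one_mul]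
    generalize hsv : v ^ (j + 1) = s at hs
    have hsT : s ∈ T := hsv ▸ pow_mem hv _
    refine ⟨(⟨s * ρ a s, Subgroup.mem_inf.2 ⟨mul_mem hsT (hT s hsT), ?_⟩⟩,
      ⟨s / ρ a s, Subgroup.mem_inf.2 ⟨div_mem hsT (hT s hsT), ?_⟩⟩), ?_⟩
    · show ρ a (s * ρ a s) = s * ρ a s
      rw [map_mul, ha s hsT, mul_comm]
    · show ρ a (s / ρ a s) = (s / ρ a s)⁻¹
      rw [map_div, ha s hsT, inv_div]
    · refine Subtype.ext ?_
      show s * ρ a s * (s / ρ a s) = v
      rw [mul_assoc, mul_div_cancel, hs]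

include hexp in
/-- The formula for a four group. -/
theorem four_formula [Finite V] (T : Subgroup V) (a b : X) (hTa : ∀ v ∈ T, ρ a v ∈ T) (hTb : ∀ v ∈ T, ρ b v ∈ T)
    (ha : ∀ v ∈ T, ρ a (ρ a v) = v) (hb : ∀ v ∈ T, ρ b (ρ b v) = v)
    (hab : ∀ v ∈ T, ρ a (ρ b v) = ρ b (ρ a v)) :
    Nat.card (T ⊓ fix1 ρ a : Subgroup V) * Nat.card (T ⊓ fix1 ρ b : Subgroup V) *
        Nat.card (T ⊓ fix1 ρ (a * b) : Subgroup V) =
      Nat.card T * Nat.card (T ⊓ fix1 ρ a ⊓ fix1 ρ b : Subgroup V) ^ 2 := by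
  have e1 := card_split ρ hexp T a hTa ha
  have e2 := card_split ρ hexp (T ⊓ invS ρ a) b (fun v hv => ⟨hTb v hv.1, by
    show ρ a (ρ b v) = (ρ b v)⁻¹
    rw [hab v hv.1, show ρ a v = v⁻¹ from hv.2, map_inv]⟩) fun v hv => hb v hv.1
  have e3 := card_split ρ hexp (T ⊓ fix1 ρ b) a (fun v hv => ⟨hTa v hv.1, by
    show ρ b (ρ a v) = ρ a v
    rw [← hab v hv.1, show ρ b v = v from hv.2]⟩) fun v hv => ha v hv.1
  have e4 := card_split ρ hexp (T ⊓ fix1 ρ (a * b)) a (fun v hv => ⟨hTa v hv.1, by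
    have hv2 : ρ a (ρ b v) = v := (app ρ a b v).symm.trans hv.2
    show ρ (a * b) (ρ a v) = ρ a v
    rw [app, ← hab v hv.1, ha _ (hTb v hv.1)]
    have h := congrArg (ρ a) hv2
    rwa [ha _ (hTb v hv.1)] at h⟩) fun v hv => ha v hv.1
  rw [inf_right_comm T (fix1 ρ b) (fix1 ρ a), inf_right_comm T (fix1 ρ b) (invS ρ a)] at e3
  rw [show T ⊓ fix1 ρ (a * b) ⊓ fix1 ρ a = T ⊓ fix1 ρ a ⊓ fix1 ρ b by
      ext v
      simp only [Subgroup.mem_inf]
      exact ⟨fun ⟨⟨h1, h2⟩, h3⟩ => ⟨⟨h1, h3⟩, (ρ a).injective (((app ρ a b v).symm.trans h2).trans h3.symm)⟩,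
       fun ⟨⟨h1, h2⟩, h3⟩ => ⟨⟨h1, show ρ (a * b) v = v by rw [app, show ρ b v = v from h3]; exact h2⟩, h2⟩⟩,
    show T ⊓ fix1 ρ (a * b) ⊓ invS ρ a = T ⊓ invS ρ a ⊓ invS ρ b by
      ext v
      simp only [Subgroup.mem_inf]
      exact ⟨fun ⟨⟨h1, h2⟩, h3⟩ => ⟨⟨h1, h3⟩, by
          have h := congrArg (ρ a) ((app ρ a b v).symm.trans h2)
          rw [ha _ (hTb v h1), show ρ a v = v⁻¹ from h3] at h
          exact h⟩,
       fun ⟨⟨h1, h2⟩, h3⟩ => ⟨⟨h1, show ρ (a * b) v = v by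
          rw [app, show ρ b v = v⁻¹ from h3, map_inv, show ρ a v = v⁻¹ from h2, inv_inv]⟩, h2⟩⟩] at e4
  rw [e1, e2, e3, e4]
  ring

include hexp in
/-- In a two group, fixed points as in the regular module for every element give the same for every subgroup. -/
theorem card_fix_pow [Finite X] [Finite V] {Q : Subgroup X} (hQ : IsPGroup 2 Q)
    (hb : ∀ g ∈ Q, Nat.card (fix1 ρ g) ^ orderOf g = Nat.card V) :
    ∀ n : ℕ, ∀ P : Subgroup X, P ≤ Q → Nat.card P = n → Nat.card (fixS ρ (P : Set X)) ^ n = Nat.card V := by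
  intro n
  induction n using Nat.strong_induction_on with
  | _ n ih =>
  intro P hPQ hn
  by_cases hcyc : IsCyclic P
  · obtain ⟨g, hg⟩ := (Subgroup.isCyclic_iff_exists_zpowers_eq_top P).1 hcyc
    subst hg
    rw [fixS_zpowers, ← hn, Nat.card_zpowers]
    exact hb g (hPQ (mem_zpowers g))
  have h2 : Fact (Nat.Prime 2) := ⟨Nat.prime_two⟩
  have hP : IsPGroup 2 P := hQ.to_le hPQ
  have hidx : ∀ M : Subgroup P, IsCoatom M → M.index = 2 := by
    intro M hM
    obtain ⟨e, he⟩ := IsPGroup.iff_card.1 hP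
    obtain ⟨i, hie, hi⟩ := (Nat.dvd_prime_pow Nat.prime_two).1 (he ▸ M.card_subgroup_dvd_card)
    have hlt : i < e := by
      by_contra hge
      refine hM.1 (Subgroup.eq_top_of_card_eq _ ?_)
      rw [hi, he, show i = e by omega]
    obtain ⟨K, hK, hMK⟩ := Sylow.exists_subgroup_card_pow_succ (p := 2) (n := i) (G := P)
      (he ▸ Nat.pow_dvd_pow 2 hlt) hi
    have hKM : M < K := lt_of_le_of_ne hMK fun e' => by
      rw [e', hK, pow_succ] at hi
      have := Nat.two_pow_pos i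
      omega
    rw [hM.2 K hKM, Subgroup.card_top] at hK
    refine Nat.eq_of_mul_eq_mul_right (Nat.card_pos (α := M)) ?_
    rw [Subgroup.index_mul_card, hi, hK, pow_succ']
  obtain ⟨A, B, hA, hB, hAB⟩ : ∃ A B : Subgroup P, IsCoatom A ∧ IsCoatom B ∧ A ≠ B := by
    rcases eq_top_or_exists_le_coatom (⊥ : Subgroup P) with hbt | ⟨A, hA, -⟩
    · exfalso
      haveI : Subsingleton P := ⟨fun x y => by
        have hx : x ∈ (⊥ : Subgroup P) := hbt ▸ mem_top x
        have hy : y ∈ (⊥ : Subgroup P) := hbt ▸ mem_top y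
        rw [Subgroup.mem_bot.1 hx, Subgroup.mem_bot.1 hy]⟩
      exact hcyc inferInstance
    · obtain ⟨g, hg⟩ : ∃ g, g ∉ A := by
        by_contra h
        push Not at h
        exact hA.1 (eq_top_iff.2 fun x _ => h x)
      rcases eq_top_or_exists_le_coatom (zpowers g) with h | ⟨B, hB, hgB⟩
      · exact absurd ⟨g, fun x => (h ▸ mem_top x : x ∈ zpowers g)⟩ hcyc
      · exact ⟨A, B, hA, hB, fun e => hg (e ▸ hgB (mem_zpowers g))⟩
  have iA := hidx A hA
  have iB := hidx B hB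
  obtain ⟨a, haA, haB⟩ := SetLike.not_le_iff_exists.1 fun h : A ≤ B =>
    hAB (((le_iff_eq_or_lt.1 h).resolve_right fun h' => hB.1 (hA.2 B h')))
  obtain ⟨b, hbB, hbA⟩ := SetLike.not_le_iff_exists.1 fun h : B ≤ A =>
    hAB (((le_iff_eq_or_lt.1 h).resolve_right fun h' => hA.1 (hB.2 A h'))).symm
  let K : Subgroup P := A ⊓ B
  let C : Subgroup P :=
    { carrier := {g | g ∈ A ↔ g ∈ B}
      one_mem' := by simp [one_mem]
      mul_mem' := fun {x y} (hx : x ∈ A ↔ x ∈ B) (hy : y ∈ A ↔ y ∈ B) => by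
        show x * y ∈ A ↔ x * y ∈ B
        rw [mul_mem_iff_of_index_two iA, mul_mem_iff_of_index_two iB, hx, hy]
      inv_mem' := fun {x} (hx : x ∈ A ↔ x ∈ B) => by
        show x⁻¹ ∈ A ↔ x⁻¹ ∈ B
        rwa [inv_mem_iff, inv_mem_iff] }
  have iC : C.index = 2 := Subgroup.index_eq_two_iff.2 ⟨a, fun g => by
    show Xor (g * a ∈ A ↔ g * a ∈ B) (g ∈ A ↔ g ∈ B)
    rw [mul_mem_iff_of_index_two iA, mul_mem_iff_of_index_two iB]
    simp only [haA, haB, iff_true, iff_false, xor_def]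
    tauto⟩
  have iK : K.index = 4 := by
    have h1 : K.relIndex A * A.index = K.index := relIndex_mul_index inf_le_left
    have h2 : K.relIndex A ≤ 2 ∧ K.relIndex A ≠ 1 := by
      constructor
      · rw [inf_relIndex_left, ← iB]
        exact Nat.le_of_dvd (Nat.pos_of_ne_zero Subgroup.index_ne_zero_of_finite)
          (haveI := Subgroup.normal_of_index_eq_two iB; Subgroup.relIndex_dvd_index_of_normal B A)
      · rw [inf_relIndex_left]
        exact fun e => haB (Subgroup.relIndex_eq_one.1 e haA)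
    have h3 : K.relIndex A ≠ 0 := Subgroup.index_ne_zero_of_finite
    rw [← h1, iA]
    omega
  haveI := Subgroup.normal_of_index_eq_two iA
  haveI := Subgroup.normal_of_index_eq_two iB
  haveI hKn : K.Normal := inferInstanceAs (A ⊓ B).Normal
  obtain ⟨k, hk⟩ : ∃ k, Nat.card K = k := ⟨_, rfl⟩
  have hn4 : n = 4 * k := by rw [← hn, ← hk, ← iK, Subgroup.index_mul_card]
  have hk0 : 0 < k := hk ▸ Nat.card_pos
  have hcard : ∀ H : Subgroup P, H.index = 2 → Nat.card H = 2 * k := fun H hH => by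
    have h := H.index_mul_card
    rw [hH, hn, hn4] at h
    omega
  have hih : ∀ H : Subgroup P, ∀ c : ℕ, Nat.card H = c → c < n →
      Nat.card (fixS ρ (H.map P.subtype : Set X)) ^ c = Nat.card V := fun H c hc hlt =>
    ih c hlt _ ((map_subtype_le H).trans hPQ)
      (by rw [Subgroup.card_map_of_injective P.subtype_injective, hc])
  set T : Subgroup V := fixS ρ (K.map P.subtype : Set X) with hTdef
  have hTmem : ∀ v, v ∈ T ↔ ∀ x ∈ K, ρ (x : X) v = v := fun v => by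
    rw [hTdef, mem_fixS]
    exact ⟨fun h x hx => h _ ⟨x, hx, rfl⟩, fun h g ⟨x, hx, e⟩ => e ▸ h x hx⟩
  have hinv : ∀ (g : P), ∀ v ∈ T, ρ (g : X) v ∈ T := fun g v hv => (hTmem _).2 fun x hx => by
    have := (hTmem v).1 hv _ (hKn.conj_mem x hx g⁻¹)
    simp only [inv_inv, Subgroup.coe_mul, Subgroup.coe_inv] at this
    rw [← app, show (x : X) * g = g * ((g : X)⁻¹ * x * g) by group, app, this]
  have hmodK : ∀ g h : P, g⁻¹ * h ∈ K → ∀ v ∈ T, ρ (h : X) v = ρ (g : X) v := fun g h hgh v hv => by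
    have := (hTmem v).1 hv _ hgh
    simp only [Subgroup.coe_mul, Subgroup.coe_inv] at this
    conv_lhs => rw [show (h : X) = g * ((g : X)⁻¹ * h) by group, app, this]
  have hsq : ∀ g : P, ∀ v ∈ T, ρ (g : X) (ρ (g : X) v) = v := fun g v hv => by
    rw [← app, ← Subgroup.coe_mul]
    exact (hTmem v).1 hv _ ⟨mul_self_mem_of_index_two iA g, mul_self_mem_of_index_two iB g⟩
  -- fixed points of the three maximal subgroups
  have hfixH : ∀ (H : Subgroup P) (c : P), K ≤ H → c ∈ H → (∀ g ∈ H, g ∈ K ∨ c⁻¹ * g ∈ K) →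
      T ⊓ fix1 ρ (c : X) = fixS ρ (H.map P.subtype : Set X) := fun H c hKH hc hcov => by
    refine le_antisymm (fun v hv g hg => ?_) fun v hv => ?_
    · obtain ⟨x, hx, rfl⟩ := hg
      rcases hcov x hx with h | h
      · exact (hTmem v).1 hv.1 x h
      · exact (hmodK c x h v hv.1).trans hv.2
    · exact ⟨(hTmem v).2 fun x hx => hv _ ⟨x, hKH hx, rfl⟩, hv _ ⟨c, hc, rfl⟩⟩
  have hcovA : ∀ g ∈ A, g ∈ K ∨ a⁻¹ * g ∈ K := fun g hg => by
    by_cases hgB : g ∈ B
    · exact Or.inl ⟨hg, hgB⟩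
    · refine Or.inr (Subgroup.mem_inf.2 ⟨mul_mem (inv_mem haA) hg, ?_⟩)
      rw [mul_mem_iff_of_index_two iB, inv_mem_iff]
      exact iff_of_false haB hgB
  have hcovB : ∀ g ∈ B, g ∈ K ∨ b⁻¹ * g ∈ K := fun g hg => by
    by_cases hgA : g ∈ A
    · exact Or.inl ⟨hgA, hg⟩
    · refine Or.inr (Subgroup.mem_inf.2 ⟨?_, mul_mem (inv_mem hbB) hg⟩)
      rw [mul_mem_iff_of_index_two iA, inv_mem_iff]
      exact iff_of_false hbA hgA
  have habA : a * b ∉ A := fun h => hbA ((Subgroup.mul_mem_cancel_left _ haA).1 h)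
  have habB : a * b ∉ B := fun h => haB ((Subgroup.mul_mem_cancel_right _ hbB).1 h)
  have habC : a * b ∈ C := iff_of_false habA habB
  have hcovC : ∀ g ∈ C, g ∈ K ∨ (a * b)⁻¹ * g ∈ K := fun g (hg : g ∈ A ↔ g ∈ B) => by
    by_cases hgA : g ∈ A
    · exact Or.inl ⟨hgA, hg.1 hgA⟩
    · refine Or.inr (Subgroup.mem_inf.2 ⟨?_, ?_⟩)
      · rw [mul_mem_iff_of_index_two iA, inv_mem_iff]
        exact iff_of_false habA hgA
      · rw [mul_mem_iff_of_index_two iB, inv_mem_iff]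
        exact iff_of_false habB fun h => hgA (hg.2 h)
  have hfull : T ⊓ fix1 ρ (a : X) ⊓ fix1 ρ (b : X) = fixS ρ (P : Set X) := by
    refine le_antisymm (fun v hv g hg => ?_) fun v hv =>
      ⟨⟨(hTmem v).2 fun x _ => hv _ x.2, hv _ a.2⟩, hv _ b.2⟩
    obtain ⟨⟨hvT, hva⟩, hvb⟩ := hv
    have hvA : v ∈ T ⊓ fix1 ρ (a : X) := ⟨hvT, hva⟩
    rw [hfixH A a inf_le_left haA hcovA] at hvA
    by_cases hgA : (⟨g, hg⟩ : P) ∈ A
    · exact hvA g ⟨_, hgA, rfl⟩
    · have h1 : b⁻¹ * ⟨g, hg⟩ ∈ A := by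
        rw [mul_mem_iff_of_index_two iA, inv_mem_iff]
        exact iff_of_false hbA hgA
      have h2 : ρ ((b : X)⁻¹ * g) v = v := hvA _ ⟨_, h1, rfl⟩
      rw [show g = (b : X) * ((b : X)⁻¹ * g) by group, app, h2]
      exact hvb
  have hform := four_formula ρ hexp T (a : X) (b : X) (hinv a) (hinv b) (hsq a) (hsq b) fun v hv => by
    rw [← app, ← app, ← Subgroup.coe_mul, ← Subgroup.coe_mul]
    refine hmodK (b * a) (a * b) (Subgroup.mem_inf.2 ⟨?_, ?_⟩) v hv
    · rw [mul_mem_iff_of_index_two iA, inv_mem_iff, mul_mem_iff_of_index_two iA,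
        mul_mem_iff_of_index_two iA]
      tauto
    · rw [mul_mem_iff_of_index_two iB, inv_mem_iff, mul_mem_iff_of_index_two iB,
        mul_mem_iff_of_index_two iB]
      tauto
  rw [hfull, ← Subgroup.coe_mul, hfixH A a inf_le_left haA hcovA, hfixH B b inf_le_right hbB hcovB,
    hfixH C (a * b) (fun x hx => iff_of_true hx.1 hx.2) habC hcovC] at hform
  have dA := hih A _ (hcard A iA) (by omega)
  have dB := hih B _ (hcard B iB) (by omega)
  have dC := hih C _ (hcard C iC) (by omega)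
  have dK := hih K _ hk (by omega)
  have hd : 0 < Nat.card V := Nat.card_pos
  have h := congrArg (· ^ (2 * k)) hform
  simp only [mul_pow] at h
  rw [dA, dB, dC] at h
  have hT2 : Nat.card T ^ (2 * k) = Nat.card V ^ 2 := by
    rw [pow_mul' (Nat.card T) 2 k]
    exact congrArg (· ^ 2) dK
  rw [hT2] at h
  rw [hn4]
  refine Nat.eq_of_mul_eq_mul_left (pow_pos hd 2) ?_
  calc Nat.card V ^ 2 * Nat.card (fixS ρ (P : Set X)) ^ (4 * k)
      = Nat.card V ^ 2 * (Nat.card (fixS ρ (P : Set X)) ^ 2) ^ (2 * k) := by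
        rw [← pow_mul, show 4 * k = 2 * (2 * k) by ring]
    _ = Nat.card V * Nat.card V * Nat.card V := h.symm
    _ = _ := by ring

/-- Elements acting without fixed points, inverted and moved, give a regular module for the cyclic group of order
four. -/
theorem free_four [Finite V] {j : ℕ} (hexp : ∀ v : V, v ^ (2 * j + 1) = 1) {x y x' : X} (hy : y ^ 4 = 1)
    (hx' : y * x * y⁻¹ = x') (hx2 : y * x' * y⁻¹ = x⁻¹) (hc : Commute x x')
    (f1 : ∀ v, ρ (x * x) v = v → v = 1) (f2 : ∀ v, ρ (x'⁻¹ * x) v = v → v = 1)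
    (f3 : ∀ v, ρ (x * x') v = v → v = 1) :
    Nat.card (fix1 ρ y) ^ 4 = Nat.card V ∧ Nat.card (fix1 ρ (y * y)) ^ 2 = Nat.card V := by
  have hz2 : ∀ v, ρ (y * y) (ρ (y * y) v) = v := fun v => by
    rw [← app, show y * y * (y * y) = y ^ 4 by simp only [pow_succ, pow_zero, one_mul, mul_assoc], hy, map_one, MulAut.one_apply]
  have hz : y * y * x = x⁻¹ * (y * y) := by
    rw [← hx2, ← hx']; group
  have hz' : y * y * x⁻¹ = x * (y * y) := by
    calc y * y * x⁻¹ = x * (x⁻¹ * (y * y)) * x⁻¹ := by group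
      _ = x * (y * y * x) * x⁻¹ := by rw [hz]
      _ = _ := by group
  have e0 : Nat.card (fix1 ρ (y * y)) = Nat.card (invS ρ (y * y)) := by
    refine le_antisymm (Nat.card_le_card_of_injective
        (fun v : fix1 ρ (y * y) => (⟨ρ x v / ρ x⁻¹ v, ?_⟩ : invS ρ (y * y))) ?_)
      (Nat.card_le_card_of_injective
        (fun v : invS ρ (y * y) => (⟨ρ x v / ρ x⁻¹ v, ?_⟩ : fix1 ρ (y * y))) ?_)
    · rw [mem_invS, map_div, ← app, ← app, hz, hz', app ρ x⁻¹ (y * y), app ρ x (y * y), mem_fix1 ρ |>.1 v.2, inv_div]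
    rotate_left
    · rw [mem_fix1, map_div, ← app, ← app, hz, hz', app ρ x⁻¹ (y * y), app ρ x (y * y), mem_invS ρ |>.1 v.2, map_inv (ρ x⁻¹),
        map_inv (ρ x), inv_div_inv]
    all_goals
      intro v w h
      have h1 : ρ x (v : V) / ρ x⁻¹ (v : V) = ρ x (w : V) / ρ x⁻¹ (w : V) := congrArg Subtype.val h
      rw [div_eq_div_iff_div_eq_div, ← map_div, ← map_div] at h1
      have h2 := congrArg (ρ x) h1
      rw [← app, ← app, mul_inv_cancel, map_one, MulAut.one_apply] at h2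
      exact Subtype.ext (div_eq_one.1 (f1 _ h2))
  have hsplit := card_split ρ hexp ⊤ (y * y) (fun v _ => mem_top _) fun v _ => hz2 v
  rw [top_inf_eq, top_inf_eq, Subgroup.card_top, ← e0, ← sq] at hsplit
  -- the same inside the fixed points of the square
  let L : V →* V :=
    { toFun := fun v => ρ x v * ρ x⁻¹ v / (ρ x' v * ρ x'⁻¹ v)
      map_one' := by simp
      map_mul' := fun v w => by
        simp only [map_mul]
        rw [div_mul_div_comm]
        congr 1 <;> ac_rfl }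
  have hL : ∀ v, L v = 1 → v = 1 := fun v hv => by
    refine f3 v ?_
    obtain ⟨u, hu⟩ : ∃ u, u = v / ρ (x * x')⁻¹ v := ⟨_, rfl⟩
    have h1 : ρ x u / ρ x' u = 1 := by
      rw [hu, map_div, map_div, ← app, ← app, show x * (x * x')⁻¹ = x'⁻¹ by rw [hc.eq]; group,
        show x' * (x * x')⁻¹ = x⁻¹ by group]
      have hv' : ρ x v * ρ x⁻¹ v / (ρ x' v * ρ x'⁻¹ v) = 1 := hv
      rw [← hv']
      simp only [div_div_div_eq]
      rw [mul_comm (ρ x'⁻¹ v) (ρ x' v)]
    have h2 := f2 u (by rw [app, div_eq_one.1 h1, app_inv])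
    rw [hu, div_eq_one] at h2
    nth_rw 1 [h2]
    rw [← app, mul_inv_cancel, map_one, MulAut.one_apply]
  have hyx : y * x = x' * y := by rw [← hx']; group
  have hyxi : y * x⁻¹ = x'⁻¹ * y := by rw [← hx']; group
  have hyx' : y * x' = x⁻¹ * y := by rw [← hx2]; group
  have hyx'i : y * x'⁻¹ = x * y := by
    calc y * x'⁻¹ = (x⁻¹)⁻¹ * (x⁻¹ * y) * x'⁻¹ := by group
      _ = (x⁻¹)⁻¹ * (y * x') * x'⁻¹ := by rw [hyx']
      _ = _ := by group
  have hLy : ∀ v, ρ y (L v) = (L (ρ y v))⁻¹ := fun v => by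
    show ρ y (ρ x v * ρ x⁻¹ v / (ρ x' v * ρ x'⁻¹ v)) = _
    rw [map_div, map_mul, map_mul, ← app, ← app, ← app, ← app, hyx, hyxi, hyx', hyx'i, app, app, app, app]
    show _ = (ρ x (ρ y v) * ρ x⁻¹ (ρ y v) / (ρ x' (ρ y v) * ρ x'⁻¹ (ρ y v)))⁻¹
    rw [inv_div, mul_comm (ρ x⁻¹ (ρ y v))]
  have hmem : ∀ v ∈ fix1 ρ (y * y), L v ∈ fix1 ρ (y * y) := fun v hv => by
    rw [mem_fix1, app, hLy, map_inv, hLy, inv_inv, ← app, mem_fix1 ρ |>.1 hv]
  have e1 : Nat.card (fix1 ρ (y * y) ⊓ fix1 ρ y : Subgroup V) =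
      Nat.card (fix1 ρ (y * y) ⊓ invS ρ y : Subgroup V) := by
    refine le_antisymm (Nat.card_le_card_of_injective
        (fun v : (fix1 ρ (y * y) ⊓ fix1 ρ y : Subgroup V) =>
          (⟨L v, hmem v v.2.1, by show ρ y (L v) = (L v)⁻¹; rw [hLy, show ρ y (v : V) = v from v.2.2]⟩ :
            (fix1 ρ (y * y) ⊓ invS ρ y : Subgroup V))) ?_)
      (Nat.card_le_card_of_injective
        (fun v : (fix1 ρ (y * y) ⊓ invS ρ y : Subgroup V) =>
          (⟨L v, hmem v v.2.1, by show ρ y (L v) = L v; rw [hLy, show ρ y (v : V) = (v : V)⁻¹ from v.2.2, map_inv, inv_inv]⟩ :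
            (fix1 ρ (y * y) ⊓ fix1 ρ y : Subgroup V))) ?_)
    all_goals
      intro v w h
      have h1 : L (v : V) = L (w : V) := congrArg Subtype.val h
      rw [← div_eq_one, ← map_div] at h1
      exact Subtype.ext (div_eq_one.1 (hL _ h1))
  have hle : fix1 ρ y ≤ fix1 ρ (y * y) := fun v hv => by
    rw [mem_fix1, app, mem_fix1 ρ |>.1 hv, mem_fix1 ρ |>.1 hv]
  have hsp := card_split ρ hexp (fix1 ρ (y * y)) y
    (fun v hv => by
      have h : ρ (y * y) v = v := hv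
      rw [mem_fix1, ← app, show y * y * y = y * (y * y) by group, app, h])
    fun v hv => (app ρ y y v).symm.trans hv
  rw [← e1, inf_eq_right.2 hle, ← sq (Nat.card (fix1 ρ y))] at hsp
  exact ⟨by rw [hsplit, hsp]; ring, hsplit.symm⟩

/-- An element without fixed points with a Frobenius action makes the abelian kernel act trivially. -/
theorem norm_lemma {X V : Type*} [Group X] [CommGroup V] (ρ : X →* MulAut V) (A : Subgroup X) [Finite A]
    {y : X} {n : ℕ} (hn : 0 < n) (hyA : ∀ a ∈ A, y * a * y⁻¹ ∈ A)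
    (hfpf : ∀ i : ℕ, 0 < i → i < n → ∀ a ∈ A, Commute (y ^ i) a → a = 1)
    (horb : ∀ a ∈ A, ∀ w : V, ∏ i ∈ Finset.range n, ρ ((a * y * a⁻¹) ^ i) w = 1) :
    ∀ a ∈ A, ∀ w : V, ρ a (w ^ Nat.card A) = w ^ Nat.card A := by
  classical
  haveI : Fintype A := Fintype.ofFinite A
  let N : V → V := fun w => ∏ a : A, ρ (a : X) w
  have hyi : ∀ (i : ℕ), ∀ a ∈ A, y ^ i * a * (y ^ i)⁻¹ ∈ A := fun i a ha => by
    induction i with
    | zero => simpa using ha
    | succ i ih =>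
      rw [show y ^ (i + 1) * a * (y ^ (i + 1))⁻¹ = y * (y ^ i * a * (y ^ i)⁻¹) * y⁻¹ by rw [pow_succ']; group]
      exact hyA _ ih
  have hinner : ∀ i : ℕ, 0 < i → i < n → ∀ w : V,
      ∏ a : A, ρ (((a : X) * y * (a : X)⁻¹) ^ i) w = N (ρ (y ^ i) w) := by
    intro i hi hin w
    let f : A → A := fun a => ⟨(a : X) * (y ^ i * (a : X)⁻¹ * (y ^ i)⁻¹), mul_mem a.2 (hyi i _ (inv_mem a.2))⟩
    have hf : Function.Injective f := fun a b e => by
      have h : (a : X) * (y ^ i * (a : X)⁻¹ * (y ^ i)⁻¹) = b * (y ^ i * (b : X)⁻¹ * (y ^ i)⁻¹) :=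
        congrArg Subtype.val e
      refine Subtype.ext (inv_mul_eq_one.1 (hfpf i hi hin _ (mul_mem (inv_mem b.2) a.2) ?_)).symm
      show y ^ i * ((b : X)⁻¹ * a) = (b : X)⁻¹ * a * y ^ i
      calc y ^ i * ((b : X)⁻¹ * a)
          = (b : X)⁻¹ * (b * (y ^ i * (b : X)⁻¹ * (y ^ i)⁻¹)) * y ^ i * a := by group
        _ = (b : X)⁻¹ * (a * (y ^ i * (a : X)⁻¹ * (y ^ i)⁻¹)) * y ^ i * a := by rw [h]
        _ = _ := by group
    refine Fintype.prod_bijective f ⟨hf, Finite.surjective_of_injective hf⟩ _ _ fun a => ?_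
    rw [← app, conj_pow]
    show _ = ρ ((a : X) * (y ^ i * (a : X)⁻¹ * (y ^ i)⁻¹) * y ^ i) w
    congr 2
    group
  intro a0 ha0 w
  have key : w ^ Fintype.card A = N w := by
    have h1 : ∏ i ∈ Finset.range n, ∏ a : A, ρ (((a : X) * y * (a : X)⁻¹) ^ i) w = 1 := by
      rw [Finset.prod_comm]
      exact Finset.prod_eq_one fun a _ => horb a a.2 w
    have h2 : ∏ i ∈ Finset.range n, N (ρ (y ^ i) w) = 1 := by
      simp only [N]
      rw [Finset.prod_comm]
      refine Finset.prod_eq_one fun a _ => ?_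
      have e := horb 1 (one_mem A) w
      simp only [one_mul, inv_one, mul_one] at e
      rw [← map_prod, e, map_one]
    obtain ⟨k, hk⟩ : ∃ k, n = k + 1 := ⟨n - 1, by omega⟩
    rw [hk, Finset.prod_range_succ'] at h1 h2
    rw [Finset.prod_congr rfl fun i hi => hinner (i + 1) (by omega)
      (by have := Finset.mem_range.1 hi; omega) w] at h1
    simp only [pow_zero, map_one, MulAut.one_apply, Finset.prod_const, Finset.card_univ] at h1 h2
    exact mul_left_cancel (h1.trans h2.symm)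
  rw [Nat.card_eq_fintype_card, key]
  show ρ a0 (∏ a : A, ρ (a : X) w) = ∏ a : A, ρ (a : X) w
  rw [map_prod]
  refine Fintype.prod_bijective ((⟨a0, ha0⟩ : A) * ·) (Group.mulLeft_bijective _) _ _ fun a => ?_
  rw [← app]
  rfl

/-- The action on an invariant subgroup. -/
def restrictAct (S : Subgroup V) (hS : ∀ g : X, ∀ v ∈ S, ρ g v ∈ S) : X →* MulAut S where
  toFun g :=
    { toFun := fun v => ⟨ρ g v, hS g v v.2⟩
      invFun := fun v => ⟨ρ g⁻¹ v, hS g⁻¹ v v.2⟩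
      left_inv := fun v => Subtype.ext (app_inv ρ g v)
      right_inv := fun v => Subtype.ext (by
        show ρ g (ρ g⁻¹ (v : V)) = (v : V)
        rw [← app, mul_inv_cancel, map_one, MulAut.one_apply])
      map_mul' := fun v w => Subtype.ext (map_mul (ρ g) (v : V) (w : V)) }
  map_one' := MulEquiv.ext fun v => Subtype.ext (by show ρ 1 (v : V) = v; rw [map_one, MulAut.one_apply])
  map_mul' := fun g h => MulEquiv.ext fun v => Subtype.ext (app ρ g h v)

theorem coe_restrictAct (S : Subgroup V) (hS : ∀ g : X, ∀ v ∈ S, ρ g v ∈ S) (g : X) (v : S) :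
    (restrictAct ρ S hS g v : V) = ρ g (v : V) := rfl

/-- An action of a simple group in which one nontrivial element is trivial is trivial. -/
theorem trivial_of_simple [IsSimpleGroup X] {g : X} (hg : g ≠ 1) (h : ∀ v, ρ g v = v) : ∀ x : X, ρ x = 1 := by
  have hk : g ∈ ρ.ker := MonoidHom.mem_ker.2 (MulEquiv.ext h)
  rcases IsSimpleGroup.eq_bot_or_eq_top_of_normal ρ.ker inferInstance with e | e
  · exact absurd (Subgroup.mem_bot.1 (e ▸ hk)) hg
  · exact fun x => MonoidHom.mem_ker.1 (e ▸ mem_top x)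

end Generic

end CfsgLib.SzSq
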