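import Cfsg.Agent.Lib.SzSq.Basic
import Cfsg.Agent.Lib.Lie.Suzuki.Borel
import Cfsg.Agent.Lib.Lie.Suzuki.Fix
import Cfsg.Agent.Lib.Core.Coprime
import Cfsg.Agent.S0325
import Mathlib.GroupTheory.Frattini

/-!
Owner: helper19. Minimal covers of Suzuki groups: a large elementary abelian two-subgroup, permuted transitively.
-/

set_option autoImplicit false
set_option linter.unusedSectionVars false

namespace CfsgLib.SzSq

open Subgroup CfsgLib.Lie.Suzuki
open scoped Pointwise commutatorElement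

universe u

section Cover

variable {E : Type u} [Group E] [Finite E] {F : Type} [Field F] [Fintype F] {k : ℕ}
  (hk : 1 ≤ k) (hF : Fintype.card F = 2 ^ (2 * k + 1)) {f : E →* Cfsg.Sz F k}
  (hf : Function.Surjective f) (hmin : ∀ S : Subgroup E, S.map f = ⊤ → S = ⊤)

include hk hF hf hmin in
/-- A normal subgroup of a minimal cover is inside the kernel or everything. -/
theorem cover_dichotomy (N : Subgroup E) [N.Normal] : N ≤ f.ker ∨ N = ⊤ := by
  haveI : IsSimpleGroup (Cfsg.Sz F k) := Cfsg.Agent.S0325.result hk hF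
  rcases (Subgroup.Normal.map (inferInstance : N.Normal) f hf).eq_bot_or_eq_top with h | h
  · exact Or.inl ((map_eq_bot_iff N).1 h)
  · exact Or.inr (hmin N h)

include hk hF hf hmin in
/-- A minimal cover is perfect. -/
theorem cover_perfect : commutator E = ⊤ := by
  haveI := charTwo_of_card hF
  refine hmin _ ?_
  rw [commutator_def, map_commutator, map_top_of_surjective f hf, ← commutator_def]
  exact perfect hF hk

include hf hmin in
/-- The kernel of a minimal cover is nilpotent. -/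
theorem cover_ker_nilpotent : Group.IsNilpotent f.ker := by
  have hle : f.ker ≤ frattini E := le_iInf₂ fun M hM => by
    by_contra h
    have htop : M ⊔ f.ker = ⊤ := hM.2 _ (lt_of_le_of_ne le_sup_left fun e => h (e ▸ le_sup_right))
    refine hM.1 (hmin M ?_)
    rw [← map_top_of_surjective f hf, ← htop, Subgroup.map_sup, (map_eq_bot_iff f.ker).2 le_rfl, sup_bot_eq]
  haveI : Group.IsNilpotent (frattini E) := frattini_nilpotent
  exact Group.nilpotent_of_mulEquiv (subgroupOfEquivOfLe hle)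

/-- An elementary abelian two-group of order at least eight whose nontrivial elements are conjugate under a
normalising element. -/
structure IsFrame {G : Type*} [Group G] (A : Subgroup G) (y : G) : Prop where
  comm : IsMulCommutative A
  exp : ∀ a ∈ A, a ^ 2 = 1
  card : 8 ≤ Nat.card A
  inv : ∀ a ∈ A, y * a * y⁻¹ ∈ A
  trans : ∀ a ∈ A, ∀ b ∈ A, a ≠ 1 → b ≠ 1 → ∃ i : ℕ, y ^ i * a * (y ^ i)⁻¹ = b

include hk hF hf in
/-- The preimage of the centre of a Sylow two-subgroup gives a frame. -/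
theorem exists_frame (h2 : ∀ n : E, f n = 1 → (∃ j, n ^ 2 ^ j = 1) → n ∈ center E) :
    ∃ (A : Subgroup E) (y : E), IsFrame A y ∧ Nat.card A = 2 ^ (2 * k + 1) ∧ ∀ a ∈ A, f a = 1 → a = 1 := by
  classical
  haveI := charTwo_of_card hF
  haveI : Finite (Cfsg.Sz F k) := Subtype.finite
  haveI : Fact (Nat.Prime 2) := ⟨Nat.prime_two⟩
  let ζ : Multiplicative F →* Cfsg.Sz F k :=
    { toFun := fun b => uS hF 0 (Multiplicative.toAdd b)
      map_one' := uS_zero_zero hF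
      map_mul' := fun b c => by simp [uS_mul] }
  have hζi : Function.Injective ζ := fun b c h => (uS_inj hF h).2
  have hζ2 : ∀ z ∈ ζ.range, z ^ 2 = 1 := by
    rintro _ ⟨b, rfl⟩
    show uS hF 0 _ ^ 2 = 1
    rw [uS_sq, map_zero, zero_mul, uS_zero_zero]
  have hconj : ∀ (μ : Fˣ) (b : F), tS hF μ * uS hF 0 b * (tS hF μ)⁻¹ = uS hF 0 (th F k μ * b) := fun μ b => by
    rw [conj_uS, mul_zero]
  obtain ⟨t, ht⟩ := IsCyclic.exists_monoid_generator (α := Fˣ)
  obtain ⟨y0, hy0⟩ := hf (tS hF t)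
  obtain ⟨W, hW⟩ : ∃ W : Subgroup E, W = ζ.range.comap f := ⟨_, rfl⟩
  have hWy : ∀ w ∈ W, y0 * w * y0⁻¹ ∈ W := fun w hw => by
    rw [hW, mem_comap] at hw ⊢
    obtain ⟨b, hb⟩ := hw
    refine ⟨Multiplicative.ofAdd (th F k t * Multiplicative.toAdd b), ?_⟩
    rw [f.map_mul, f.map_mul, f.map_inv, hy0, ← hb]
    exact (hconj t _).symm
  obtain ⟨P, -⟩ : ∃ P : Sylow 2 W, P = default := ⟨_, rfl⟩
  obtain ⟨S, hS⟩ : ∃ S : Subgroup E, S = (P : Subgroup W).map W.subtype := ⟨_, rfl⟩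
  have hSW : S ≤ W := hS ▸ map_subtype_le _
  have hS2 : IsPGroup 2 S := hS ▸ P.isPGroup'.map _
  have hSonto : ∀ z ∈ ζ.range, ∃ s ∈ S, f s = z := fun z hz => by
    obtain ⟨e, he⟩ := hf z
    obtain ⟨j, c, hc, hjc⟩ := Nat.exists_eq_two_pow_mul_odd (orderOf_pos e).ne'
    obtain ⟨w, hw⟩ : ∃ w : W, (w : E) = e ^ c := ⟨⟨e ^ c, by rw [hW, mem_comap, map_pow, he]; exact pow_mem hz c⟩, rfl⟩
    have hwp : w ^ 2 ^ j = 1 := Subtype.ext (by
      rw [coe_pow, hw, ← pow_mul, mul_comm, ← hjc, pow_orderOf_eq_one]; rfl)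
    have hP : IsPGroup 2 (zpowers w) := fun a => by
      obtain ⟨i, hi⟩ := mem_zpowers_iff.1 a.2
      exact ⟨j, Subtype.ext (by
        rw [coe_pow, ← hi, ← zpow_natCast, ← zpow_mul, mul_comm, zpow_mul, zpow_natCast, hwp, one_zpow]; rfl)⟩
    obtain ⟨Q, hQ⟩ := hP.exists_le_sylow
    obtain ⟨r, hr⟩ := MulAction.exists_smul_eq W Q P
    refine ⟨((r * w * r⁻¹ : W) : E), hS ▸ ⟨r * w * r⁻¹, ?_, rfl⟩, ?_⟩
    · rw [← hr, Sylow.coe_subgroup_smul]
      exact smul_mem_pointwise_smul w (MulAut.conj r) _ (hQ (mem_zpowers w))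
    · have hfw : f ((w : E)) = z := by
        rw [hw, map_pow, he]
        obtain ⟨a, rfl⟩ := hc
        rw [pow_succ, pow_mul, hζ2 z hz, one_pow, one_mul]
      obtain ⟨b, hb⟩ : f (r : E) ∈ ζ.range := by simpa [hW] using r.2
      obtain ⟨d, hd⟩ := hz
      rw [coe_mul, coe_mul, coe_inv, map_mul, map_mul, map_inv, hfw, ← hb, ← hd, ← map_inv, ← map_mul, ← map_mul,
        mul_comm b d, mul_inv_cancel_right]
  obtain ⟨y, hyf, hyS⟩ : ∃ y : E, f y * (tS hF t)⁻¹ ∈ ζ.range ∧ ∀ s ∈ S, y * s * y⁻¹ ∈ S := by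
    have hQW : MulAut.conj y0 • S ≤ W := by
      intro x hx
      rw [mem_pointwise_smul_iff_inv_smul_mem] at hx
      have := hWy _ (hSW hx)
      simpa [MulAut.smul_def, mul_assoc] using this
    obtain ⟨r, hr, e⟩ := CfsgLib.Core.exists_conj_of_card_eq (G := E) (K := W) P hQW (by
      rw [← hS]; exact (Nat.card_congr (equivSMul (MulAut.conj y0) S).toEquiv).symm)
    refine ⟨r⁻¹ * y0, ?_, fun s hs => ?_⟩
    · rw [map_mul, map_inv, hy0, mul_inv_cancel_right]
      exact inv_mem (by simpa [hW] using hr)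
    · have : y0 * s * y0⁻¹ ∈ MulAut.conj r • S := by
        rw [hS, e]
        simpa [MulAut.smul_def] using smul_mem_pointwise_smul s (MulAut.conj y0) S hs
      rw [mem_pointwise_smul_iff_inv_smul_mem] at this
      simpa [MulAut.smul_def, mul_assoc] using this
  -- the action of the torus element
  have hyconj : ∀ z ∈ ζ.range, f y * z * (f y)⁻¹ = tS hF t * z * (tS hF t)⁻¹ := fun z hz => by
    obtain ⟨c, hc⟩ := hyf
    have hz' : tS hF t * z * (tS hF t)⁻¹ ∈ ζ.range := by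
      obtain ⟨b, rfl⟩ := hz
      exact ⟨Multiplicative.ofAdd (th F k t * Multiplicative.toAdd b), (hconj t _).symm⟩
    obtain ⟨d, hd⟩ := hz'
    rw [show f y = ζ c * tS hF t by rw [hc, inv_mul_cancel_right],
      show ζ c * tS hF t * z * (ζ c * tS hF t)⁻¹ = ζ c * (tS hF t * z * (tS hF t)⁻¹) * (ζ c)⁻¹ by group,
      ← hd, ← map_inv, ← map_mul, ← map_mul, mul_comm c d, mul_inv_cancel_right]
  have hyconj' : ∀ (i : ℕ) (b : F), f (y ^ i) * uS hF 0 b * (f (y ^ i))⁻¹ =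
      uS hF 0 (th F k ((t ^ i : Fˣ) : F) * b) := by
    intro i
    induction i with
    | zero => intro b; simp
    | succ i ih =>
      intro b
      rw [pow_succ', map_mul, show f y * f (y ^ i) * uS hF 0 b * (f y * f (y ^ i))⁻¹ =
        f y * (f (y ^ i) * uS hF 0 b * (f (y ^ i))⁻¹) * (f y)⁻¹ by group, ih,
        hyconj (uS hF 0 (th F k ((t ^ i : Fˣ) : F) * b)) ⟨Multiplicative.ofAdd _, rfl⟩, hconj, pow_succ', Units.val_mul, map_mul, mul_assoc]
  have hyS' : ∀ (i : ℕ), ∀ s ∈ S, y ^ i * s * (y ^ i)⁻¹ ∈ S := by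
    intro i
    induction i with
    | zero => intro s hs; simpa using hs
    | succ i ih =>
      intro s hs
      have := hyS _ (ih s hs)
      rwa [show y ^ (i + 1) * s * (y ^ (i + 1))⁻¹ = y * (y ^ i * s * (y ^ i)⁻¹) * y⁻¹ by rw [pow_succ']; group]
  -- lifts
  choose l hlS hlf using fun b : F => hSonto (uS hF 0 b) ⟨Multiplicative.ofAdd b, rfl⟩
  have hSker : ∀ s ∈ S, f s = 1 → s ∈ center E := fun s hs h => h2 s h (by
    obtain ⟨j, hj⟩ := hS2 ⟨s, hs⟩
    exact ⟨j, congrArg Subtype.val hj⟩)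
  have hSval : ∀ s ∈ S, ∃ b n, n ∈ center E ∧ s = l b * n := fun s hs => by
    have hm := hSW hs
    rw [hW, mem_comap] at hm
    obtain ⟨b, hb⟩ := hm
    exact ⟨Multiplicative.toAdd b, (l _)⁻¹ * s, hSker _ (mul_mem (inv_mem (hlS _)) hs)
      (by rw [map_mul, map_inv, hlf, ← hb]; exact inv_mul_cancel _), (mul_inv_cancel_left _ _).symm⟩
  obtain ⟨β, hβ⟩ : ∃ β : F → F → E, ∀ a b, β a b = ⁅l a, l b⁆ := ⟨fun a b => ⁅l a, l b⁆, fun _ _ => rfl⟩
  have hβc : ∀ a b, ∀ g : E, β a b * g = g * β a b := fun a b g => by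
    refine (mem_center_iff.1 (hSker _ ?_ ?_) g).symm
    · rw [hβ, commutatorElement_def]
      exact mul_mem (mul_mem (mul_mem (hlS a) (hlS b)) (inv_mem (hlS a))) (inv_mem (hlS b))
    · rw [hβ, map_commutatorElement, hlf, hlf, commutatorElement_eq_one_iff_commute]
      show uS hF 0 a * uS hF 0 b = uS hF 0 b * uS hF 0 a
      rw [uS_mul, uS_mul, map_zero, zero_mul, add_comm a b]
  have hβn : ∀ a b n n', n ∈ center E → n' ∈ center E → ⁅l a * n, l b * n'⁆ = β a b := by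
    intro a b n n' hn hn'
    have e1 := mem_center_iff.1 hn
    have e2 := mem_center_iff.1 hn'
    rw [hβ, commutatorElement_def, commutatorElement_def, mul_inv_rev, mul_inv_rev]
    calc l a * n * (l b * n') * (n⁻¹ * (l a)⁻¹) * (n'⁻¹ * (l b)⁻¹)
        = l a * n * (l b * n' * n⁻¹ * (l a)⁻¹ * n'⁻¹) * (l b)⁻¹ := by group
      _ = l a * ((l b * n' * n⁻¹ * (l a)⁻¹ * n'⁻¹) * n) * (l b)⁻¹ := by rw [mul_assoc (l a), e1]
      _ = l a * l b * (n' * (n⁻¹ * (l a)⁻¹ * n'⁻¹ * n)) * (l b)⁻¹ := by group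
      _ = l a * l b * (n⁻¹ * (l a)⁻¹ * n'⁻¹ * n * n') * (l b)⁻¹ := by rw [e2]
      _ = l a * l b * (n⁻¹ * (l a)⁻¹ * (n'⁻¹ * (n * n'))) * (l b)⁻¹ := by group
      _ = l a * l b * (n⁻¹ * ((l a)⁻¹ * n)) * (l b)⁻¹ := by rw [e2 n, inv_mul_cancel_left, mul_assoc n⁻¹]
      _ = _ := by rw [e1, inv_mul_cancel_left]
  have hadd : ∀ a a' b, β (a + a') b = β a b * β a' b := fun a a' b => by
    obtain ⟨n, hn, hh⟩ : ∃ n, n ∈ center E ∧ l a * l a' = l (a + a') * n := by
      refine ⟨(l (a + a'))⁻¹ * (l a * l a'), hSker _ (mul_mem (inv_mem (hlS _)) (mul_mem (hlS a) (hlS a'))) ?_,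
        (mul_inv_cancel_left _ _).symm⟩
      rw [map_mul, map_inv, map_mul, hlf, hlf, hlf, uS_mul, map_zero, zero_mul, add_zero, add_zero, inv_mul_cancel]
    have h1 := hβn (a + a') b n 1 hn (one_mem _)
    rw [← hh, mul_one] at h1
    rw [← h1]
    calc ⁅l a * l a', l b⁆ = l a * ⁅l a', l b⁆ * (l a)⁻¹ * ⁅l a, l b⁆ := by
          rw [commutatorElement_def, commutatorElement_def, commutatorElement_def]; group
      _ = β a b * β a' b := by
          rw [← hβ, ← hβ, ← hβc a' b (l a), mul_inv_cancel_right, hβc]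
  have hinv : ∀ (μ : Fˣ) a b, β ((μ : F) * a) ((μ : F) * b) = β a b := by
    intro μ a b
    obtain ⟨ν, hν⟩ := (th_bij (F := F) (m := k)).2 (μ : F)
    have hν0 : ν ≠ 0 := fun e => μ.ne_zero (by rw [← hν, e, map_zero])
    obtain ⟨i, hi⟩ := (Submonoid.mem_powers_iff _ _).1 (ht (Units.mk0 ν hν0))
    have key : ∀ c, ∃ n, n ∈ center E ∧ y ^ i * l c * (y ^ i)⁻¹ = l ((μ : F) * c) * n := fun c => by
      refine ⟨(l ((μ : F) * c))⁻¹ * (y ^ i * l c * (y ^ i)⁻¹),
        hSker _ (mul_mem (inv_mem (hlS _)) (hyS' i _ (hlS c))) ?_, (mul_inv_cancel_left _ _).symm⟩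
      rw [map_mul, map_inv, map_mul, map_mul, map_inv, hlf, hlf, hyconj', hi, Units.val_mk0, hν, inv_mul_cancel]
    obtain ⟨na, hna, ea⟩ := key a
    obtain ⟨nb, hnb, eb⟩ := key b
    rw [← hβn _ _ na nb hna hnb, ← ea, ← eb, ← conjugate_commutatorElement, ← hβ, ← hβc, mul_inv_cancel_right]
  have hself : ∀ a, β a a = 1 := fun a => by rw [hβ, commutatorElement_self]
  have hanti : ∀ a b, β b a = (β a b)⁻¹ := fun a b => by rw [hβ, hβ, commutatorElement_inv]
  have hadd2 : ∀ a b b', β a (b + b') = β a b * β a b' := fun a b b' => by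
    rw [hanti (b + b'), hadd, hanti a b, hanti a b', mul_inv_rev, inv_inv, inv_inv, ← hβc]
  obtain ⟨c, hc⟩ : ∃ c : F → E, ∀ x, c x = β 1 x := ⟨fun x => β 1 x, fun _ => rfl⟩
  have hsc : ∀ a x : F, a ≠ 0 → β a x = c (x / a) := fun a x ha => by
    rw [hc, ← hinv (Units.mk0 a ha) 1 (x / a), Units.val_mk0, mul_one, mul_div_cancel₀ _ ha]
  obtain ⟨μ, hμ0, hμ1, hμ2⟩ : ∃ μ : F, μ ≠ 0 ∧ μ ≠ 1 ∧ μ ^ 2 + μ + 1 ≠ 0 := by
    by_contra h
    push Not at h
    obtain ⟨p, hp⟩ : ∃ p : Polynomial F, p = Polynomial.X ^ 2 + Polynomial.X + 1 := ⟨_, rfl⟩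
    have hdeg : p.natDegree = 2 := by rw [hp]; compute_degree!
    have hp0 : p ≠ 0 := fun e => by rw [e, Polynomial.natDegree_zero] at hdeg; omega
    have hsub : (Finset.univ : Finset F) ⊆ insert 0 (insert 1 p.roots.toFinset) := fun x _ => by
      simp only [Finset.mem_insert, Multiset.mem_toFinset]
      by_cases h0 : x = 0
      · exact Or.inl h0
      by_cases h1 : x = 1
      · exact Or.inr (Or.inl h1)
      refine Or.inr (Or.inr (Polynomial.mem_roots'.2 ⟨hp0, ?_⟩))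
      rw [hp]
      simpa using h x h0 h1
    have h1 := Finset.card_le_card hsub
    have h2 := Finset.card_insert_le (0 : F) (insert 1 p.roots.toFinset)
    have h3 := Finset.card_insert_le (1 : F) p.roots.toFinset
    have h4 := p.roots.toFinset_card_le
    have h5 := p.card_roots'
    have h8 : 2 ^ 3 ≤ Fintype.card F := hF ▸ Nat.pow_le_pow_right two_pos (by omega)
    rw [Finset.card_univ] at h1
    rw [hdeg] at h5
    omega
  have hc1 : ∀ x, c x = 1 := fun x => by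
    obtain ⟨w, hw⟩ : ∃ w, x = w * (μ + μ⁻¹ + 1) := by
      refine ⟨x / (μ + μ⁻¹ + 1), (div_mul_cancel₀ _ fun e => hμ2 ?_).symm⟩
      rw [show μ ^ 2 + μ + 1 = μ * (μ + μ⁻¹ + 1) by field_simp; ring, e, mul_zero]
    have h := hsc (1 + μ) (w * (1 + μ)) fun e => hμ1 (by rw [← CharTwo.add_eq_zero, add_comm]; exact e)
    rw [mul_div_cancel_right₀ _ (fun e => hμ1 (by rw [← CharTwo.add_eq_zero, add_comm]; exact e)),
      show w * (1 + μ) = w + μ * w by ring, hadd, hadd2, hadd2, ← hc, ← hc,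
      show β μ (μ * w) = c w by rw [hsc μ _ hμ0, mul_div_cancel_left₀ _ hμ0], hsc μ w hμ0, div_eq_mul_inv] at h
    have e1 : c (μ * w) * c (w * μ⁻¹) * c w = 1 := mul_left_cancel (a := c w) (by
      rw [mul_one, ← mul_assoc, ← mul_assoc]
      simpa [mul_assoc] using h)
    rw [hw, show w * (μ + μ⁻¹ + 1) = μ * w + w * μ⁻¹ + w by ring, hc, hadd2, hadd2, ← hc, ← hc, ← hc]
    exact e1
  have hScomm : ∀ s ∈ S, ∀ s' ∈ S, Commute s s' := fun s hs s' hs' => by
    obtain ⟨a, n, hn, rfl⟩ := hSval s hs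
    obtain ⟨b, n', hn', rfl⟩ := hSval s' hs'
    rw [← commutatorElement_eq_one_iff_commute, hβn a b n n' hn hn']
    rcases eq_or_ne a 0 with rfl | ha
    · have h0 := hadd 0 0 b
      rw [add_zero] at h0
      exact left_eq_mul.1 h0
    · rw [hsc a b ha, hc1]
  -- the complement
  let φ : S →* E :=
    { toFun := fun s => y * s * y⁻¹ * (s : E)⁻¹
      map_one' := by simp
      map_mul' := fun s r => by
        have e := hScomm _ (hyS r r.2) _ (inv_mem s.2)
        show y * ((s : E) * r) * y⁻¹ * ((s : E) * r)⁻¹ = y * s * y⁻¹ * (s : E)⁻¹ * (y * r * y⁻¹ * (r : E)⁻¹)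
        rw [mul_inv_rev, ← mul_assoc _ (y * r * y⁻¹), mul_assoc (y * s * y⁻¹) (s : E)⁻¹, ← e.eq,
          (hScomm _ (inv_mem r.2) _ (inv_mem s.2)).eq]
        group }
  have hφS : ∀ s : S, φ s ∈ S := fun s => mul_mem (hyS s s.2) (inv_mem s.2)
  have hth1 : th F k (t : F) ≠ 1 := fun e => by
    have ht1 : t = 1 := Units.ext ((th_bij (F := F) (m := k)).1 (e.trans (map_one _).symm))
    have h8 : 2 ^ 3 ≤ Fintype.card F := hF ▸ Nat.pow_le_pow_right two_pos (by omega)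
    haveI : Subsingleton Fˣ := ⟨fun u v => by
      obtain ⟨i, hi⟩ := (Submonoid.mem_powers_iff _ _).1 (ht u)
      obtain ⟨j, hj⟩ := (Submonoid.mem_powers_iff _ _).1 (ht v)
      rw [← hi, ← hj, ht1, one_pow, one_pow]⟩
    have h1 := Fintype.card_units F
    rw [Fintype.card_eq_one_iff.2 ⟨1, fun u => Subsingleton.elim u 1⟩] at h1
    omega
  have hφf : ∀ (s : S) (b : F), f s = uS hF 0 b → f (φ s) = uS hF 0 (th F k (t : F) * b + b) := fun s b hb => by
    show f (y * s * y⁻¹ * (s : E)⁻¹) = _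
    rw [map_mul, map_mul, map_mul, map_inv, map_inv, hb, hyconj (uS hF 0 b) ⟨Multiplicative.ofAdd b, rfl⟩, hconj, uS_inv,
      map_zero, zero_mul, add_zero, uS_mul, map_zero, zero_mul, add_zero, add_zero]
  have hb_of : ∀ s : S, ∃ b, f s = uS hF 0 b := fun s => by
    obtain ⟨b, n, hn, hs⟩ := hSval s s.2
    have hm := hSW s.2
    rw [hW, mem_comap] at hm
    obtain ⟨d, hd⟩ := hm
    exact ⟨Multiplicative.toAdd d, hd.symm⟩
  have hφker : ∀ s : S, f (φ s) = 1 → f s = 1 := fun s h => by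
    obtain ⟨b, hb⟩ := hb_of s
    rw [hφf s b hb, uS_eq_one_iff] at h
    have hb0 : b = 0 := by
      have h' := h.2
      rw [show th F k (t : F) * b + b = (th F k (t : F) + 1) * b by ring, mul_eq_zero] at h'
      exact h'.resolve_left fun e => hth1 (CharTwo.add_eq_zero.1 e)
    rw [hb, hb0, uS_zero_zero]
  obtain ⟨A, hA⟩ : ∃ A : Subgroup E, A = φ.range := ⟨_, rfl⟩
  have hA1 : ∀ a ∈ A, f a = 1 → a = 1 := by
    rw [hA]
    rintro _ ⟨s, rfl⟩ h
    show y * (s : E) * y⁻¹ * (s : E)⁻¹ = 1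
    rw [mem_center_iff.1 (hSker _ s.2 (hφker s h)) y, mul_inv_cancel_right, mul_inv_cancel]
  have hAS : A ≤ S := by rw [hA]; rintro _ ⟨s, rfl⟩; exact hφS s
  have hAinj : ∀ a ∈ A, ∀ a' ∈ A, f a = f a' → a = a' := fun a ha a' ha' e => by
    have := hA1 (a * a'⁻¹) (mul_mem ha (inv_mem ha')) (by rw [map_mul, map_inv, e, mul_inv_cancel])
    exact mul_inv_eq_one.1 this
  have hAonto : ∀ b : F, ∃ a ∈ A, f a = uS hF 0 b := fun b => by
    refine ⟨φ ⟨l (b / (th F k (t : F) + 1)), hlS _⟩, hA ▸ ⟨_, rfl⟩, ?_⟩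
    rw [hφf _ _ (hlf _)]
    congr 1
    rw [show th F k (t : F) * (b / (th F k (t : F) + 1)) + b / (th F k (t : F) + 1) =
      (th F k (t : F) + 1) * (b / (th F k (t : F) + 1)) by ring]
    exact mul_div_cancel₀ _ fun e => hth1 (CharTwo.add_eq_zero.1 e)
  have hcard : Nat.card A = 2 ^ (2 * k + 1) := by
    choose a haA haf using hAonto
    rw [← hF, ← Nat.card_eq_fintype_card]
    refine (Nat.card_eq_of_bijective (fun b => (⟨a b, haA b⟩ : A)) ⟨fun b b' h => ?_, fun x => ?_⟩).symm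
    · have h' := congrArg f (congrArg Subtype.val h)
      rw [haf, haf] at h'
      exact (uS_inj hF h').2
    · obtain ⟨d, hd⟩ := hb_of ⟨x, hAS x.2⟩
      exact ⟨d, Subtype.ext (hAinj _ (haA d) _ x.2 ((haf d).trans hd.symm))⟩
  have hAy : ∀ i : ℕ, ∀ a ∈ A, y ^ i * a * (y ^ i)⁻¹ ∈ A := by
    intro i
    rw [hA]
    rintro _ ⟨s, rfl⟩
    refine ⟨⟨y ^ i * s * (y ^ i)⁻¹, hyS' i s s.2⟩, ?_⟩
    show y * (y ^ i * (s : E) * (y ^ i)⁻¹) * y⁻¹ * (y ^ i * (s : E) * (y ^ i)⁻¹)⁻¹ =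
      y ^ i * (y * (s : E) * y⁻¹ * (s : E)⁻¹) * (y ^ i)⁻¹
    rw [show y * (y ^ i * (s : E) * (y ^ i)⁻¹) * y⁻¹ = (y * y ^ i) * s * (y * y ^ i)⁻¹ by group,
      ← pow_succ', pow_succ]
    group
  refine ⟨A, y, ⟨⟨⟨fun a b => Subtype.ext (hScomm _ (hAS a.2) _ (hAS b.2)).eq⟩⟩, fun a ha => ?_, ?_,
    fun a ha => by simpa using hAy 1 a ha, fun a ha b hb ha1 hb1 => ?_⟩, hcard, hA1⟩
  · refine hA1 _ (pow_mem ha 2) ?_
    rw [map_pow]
    refine hζ2 _ ?_
    obtain ⟨d, hd⟩ := hb_of ⟨a, hAS ha⟩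
    exact ⟨Multiplicative.ofAdd d, hd.symm⟩
  · rw [hcard]
    exact (Nat.pow_le_pow_right two_pos (show 3 ≤ 2 * k + 1 by omega) : 2 ^ 3 ≤ _)
  · obtain ⟨da, hda⟩ := hb_of ⟨a, hAS ha⟩
    obtain ⟨db, hdb⟩ := hb_of ⟨b, hAS hb⟩
    have hne : ∀ x ∈ A, x ≠ 1 → ∀ d, f x = uS hF 0 d → d ≠ 0 := fun x hx hx1 d hd e =>
      hx1 (hA1 x hx (by rw [hd, e, uS_zero_zero]))
    obtain ⟨ν, hν⟩ := (th_bij (F := F) (m := k)).2 (db / da)
    have hν0 : ν ≠ 0 := fun e => by
      rw [e, map_zero] at hν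
      exact (div_ne_zero (hne b hb hb1 db hdb) (hne a ha ha1 da hda)) hν.symm
    obtain ⟨i, hi⟩ := (Submonoid.mem_powers_iff _ _).1 (ht (Units.mk0 ν hν0))
    refine ⟨i, hAinj _ (hAy i a ha) _ hb ?_⟩
    rw [map_mul, map_mul, map_inv, hda, hyconj', hi, Units.val_mk0, hν,
      div_mul_cancel₀ _ (hne a ha ha1 da hda), hdb]

end Cover

section Use

variable {G : Type u} [Group G] [Finite G] {A : Subgroup G} {y : G}

theorem IsFrame.map {E : Type*} [Group E] {A : Subgroup E} {y : E} (h : IsFrame A y) (f : E →* G)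
    (hf : Function.Injective f) : IsFrame (A.map f) (f y) := by
  haveI := h.comm
  refine ⟨inferInstance, ?_, ?_, ?_, ?_⟩
  · rintro _ ⟨a, ha, rfl⟩
    rw [← map_pow, h.exp a ha, map_one]
  · rw [card_map_of_injective hf]
    exact h.card
  · rintro _ ⟨a, ha, rfl⟩
    exact ⟨_, h.inv a ha, by rw [map_mul, map_mul, map_inv]⟩
  · rintro _ ⟨a, ha, rfl⟩ _ ⟨b, hb, rfl⟩ ha1 hb1
    obtain ⟨i, hi⟩ := h.trans a ha b hb (fun e => ha1 (by rw [e, map_one])) fun e => hb1 (by rw [e, map_one])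
    exact ⟨i, by rw [← map_pow, ← map_inv, ← map_mul, ← map_mul, hi]⟩

theorem IsFrame.pow_mem {V : Subgroup G} (hyV : y ∈ normalizer (V : Set G)) (i : ℕ) {v : G} (hv : v ∈ V) :
    y ^ i * v * (y ^ i)⁻¹ ∈ V := ((mem_normalizer_iff.1 (Subgroup.pow_mem _ hyV i)) v).1 hv

/-- Every element of a frame has fixed points on a group of odd order. -/
theorem IsFrame.fixed (h : IsFrame A y) {V : Subgroup G} (hAV : A ≤ normalizer (V : Set G))
    (hyV : y ∈ normalizer (V : Set G)) (hodd : ¬ 2 ∣ Nat.card V) (hV : V ≠ ⊥) {a : G} (ha : a ∈ A) :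
    ∃ v ∈ V, v ≠ 1 ∧ Commute a v := by
  haveI := h.comm
  rcases eq_or_ne a 1 with rfl | ha1
  · obtain ⟨v, hv, hv1⟩ := V.bot_or_exists_ne_one.resolve_left hV
    exact ⟨v, hv, hv1, Commute.one_left v⟩
  obtain ⟨e, he, heo, v, hv, hv1, hev⟩ := exists_fixed_of_rank Nat.prime_two h.comm h.exp
    (le_trans (by norm_num) h.card) hAV hodd hV
  obtain ⟨i, hi⟩ := h.trans e he a ha (fun e1 => by rw [e1, orderOf_one] at heo; omega) ha1
  refine ⟨y ^ i * v * (y ^ i)⁻¹, IsFrame.pow_mem hyV i hv, fun e1 => hv1 ?_, ?_⟩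
  · exact conj_eq_one_iff.1 e1
  · rw [← hi]
    exact hev.map (MulAut.conj (y ^ i))

/-- A normalised elementary abelian group of odd exponent is small, or every element of the frame centralises
a noncyclic part of it. -/
theorem IsFrame.rank (h : IsFrame A y) {s : ℕ} (hs : s.Prime) (hs2 : s ≠ 2) {B : Subgroup G}
    [IsMulCommutative B] (hB : ∀ b ∈ B, b ^ s = 1) (hAB : A ≤ normalizer (B : Set G))
    (hyB : y ∈ normalizer (B : Set G)) :
    Nat.card B ≤ s ∨ ∀ a ∈ A, s ^ 2 ≤ Nat.card (B ⊓ centralizer ({a} : Set G) : Subgroup G) := by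
  classical
  haveI := Fact.mk hs
  haveI : Fact (Nat.Prime 2) := ⟨Nat.prime_two⟩
  haveI := h.comm
  by_contra hcon
  push Not at hcon
  obtain ⟨hcard, a0, ha0, hlt⟩ := hcon
  have hBp : IsPGroup s B := fun b => ⟨1, Subtype.ext (by simpa using hB _ b.2)⟩
  have hodd : ¬ 2 ∣ Nat.card B := fun hd => by
    obtain ⟨j, hj⟩ := IsPGroup.iff_card.1 hBp
    rw [hj] at hd
    exact hs2 ((Nat.prime_dvd_prime_iff_eq Nat.prime_two hs).1 (Nat.prime_two.dvd_of_dvd_pow hd)).symm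
  have hBne : B ≠ ⊥ := fun e => by
    rw [e, card_bot] at hcard
    exact absurd hcard (by have := hs.one_lt; omega)
  obtain ⟨C, hC⟩ : ∃ C : G → Subgroup G, ∀ a, C a = B ⊓ centralizer ({a} : Set G) := ⟨_, fun _ => rfl⟩
  have ha01 : a0 ≠ 1 := fun e => by
    rw [e, show centralizer ({(1 : G)} : Set G) = ⊤ from eq_top_iff.2 fun x _ =>
      mem_centralizer_singleton_iff.2 (by simp), inf_top_eq] at hlt
    obtain ⟨j, hj⟩ := IsPGroup.iff_card.1 hBp
    rw [hj] at hlt hcard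
    have h1 : j < 2 := (Nat.pow_lt_pow_iff_right hs.one_lt).1 hlt
    have h2 := Nat.pow_le_pow_right hs.pos (show j ≤ 1 by omega)
    rw [pow_one] at h2
    omega
  have hline : ∀ a ∈ A, a ≠ 1 → Nat.card (C a) = s := by
    intro a ha ha1
    obtain ⟨i, hi⟩ := h.trans a0 ha0 a ha ha01 ha1
    have hle : Nat.card (C a) ≤ Nat.card (C a0) := by
      refine Nat.card_le_card_of_injective
        (fun v : C a => (⟨(y ^ i)⁻¹ * v * y ^ i, ?_⟩ : C a0)) (fun v w e => Subtype.ext (by simpa using congrArg Subtype.val e))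
      have hv := mem_inf.1 ((hC a).le v.2)
      rw [hC, mem_inf]
      refine ⟨((mem_normalizer_iff''.1 (Subgroup.pow_mem _ hyB i)) v).1 hv.1, mem_centralizer_singleton_iff.2 ?_⟩
      have e := mem_centralizer_singleton_iff.1 hv.2
      have e : (v : G) * (y ^ i * a0 * (y ^ i)⁻¹) = y ^ i * a0 * (y ^ i)⁻¹ * v := by rw [hi]; exact e
      calc (y ^ i)⁻¹ * v * y ^ i * a0 = (y ^ i)⁻¹ * ((v : G) * (y ^ i * a0 * (y ^ i)⁻¹)) * y ^ i := by group
        _ = (y ^ i)⁻¹ * (y ^ i * a0 * (y ^ i)⁻¹ * v) * y ^ i := by rw [e]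
        _ = a0 * ((y ^ i)⁻¹ * v * y ^ i) := by group
    obtain ⟨j, hj⟩ := IsPGroup.iff_card.1 (hBp.to_le (show C a ≤ B from hC a ▸ inf_le_left))
    obtain ⟨v, hv, hv1, hav⟩ := h.fixed hAB hyB hodd hBne ha
    have hj0 : j ≠ 0 := fun e => hv1 (mem_bot.1 (by
      rw [e, pow_zero, card_eq_one] at hj
      rw [← hj, hC]
      exact ⟨hv, mem_centralizer_singleton_iff.2 hav.symm⟩))
    have hlt' : Nat.card (C a) < s ^ 2 := hle.trans_lt (by rw [hC]; exact hlt)
    rw [hj] at hlt' ⊢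
    have : j < 2 := (Nat.pow_lt_pow_iff_right hs.one_lt).1 hlt'
    rw [show j = 1 by omega, pow_one]
  obtain ⟨L, hL⟩ : ∃ L, L = C a0 := ⟨_, rfl⟩
  have hCnorm : ∀ a ∈ A, A ≤ normalizer (C a : Set G) := fun a ha x hx => by
    have key : ∀ x ∈ A, ∀ v ∈ C a, x * v * x⁻¹ ∈ C a := fun x hx v hv => by
      rw [hC, mem_inf] at hv ⊢
      refine ⟨((mem_normalizer_iff.1 (hAB hx)) v).1 hv.1, mem_centralizer_singleton_iff.2 ?_⟩
      have e1 : Commute x a := congrArg Subtype.val (h.comm.is_comm.comm (⟨x, hx⟩ : A) ⟨a, ha⟩)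
      exact ((e1.mul_left (mem_centralizer_singleton_iff.1 hv.2)).mul_left e1.inv_left).eq
    refine mem_normalizer_iff.2 fun v => ⟨key x hx v, fun hv => ?_⟩
    have := key x⁻¹ (inv_mem hx) _ hv
    rwa [inv_inv, show x⁻¹ * (x * v * x⁻¹) * x = v by group] at this
  have hK : ∀ a ∈ A, a ≠ 1 → Nat.card A ≤ 2 * Nat.card (A ⊓ centralizer (C a : Set G) : Subgroup G) := by
    intro a ha ha1
    haveI : Fact (Nat.card (C a)).Prime := ⟨by rw [hline a ha ha1]; exact hs⟩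
    obtain ⟨ψ, hψ⟩ : ∃ ψ : A →* MulAut (C a), ψ = ((C a).normalizerMonoidHom).comp (inclusion (hCnorm a ha)) :=
      ⟨_, rfl⟩
    haveI : IsCyclic (C a) := isCyclic_of_prime_card rfl
    haveI : IsCyclic (MulAut (C a)) := by
      haveI : NeZero (Nat.card (C a)) := ⟨Nat.card_pos.ne'⟩
      have e := IsCyclic.mulAutMulEquiv (C a)
      haveI : IsCyclic (ZMod (Nat.card (C a)))ˣ := ZMod.isCyclic_units_prime (Fact.out)
      exact e.symm.isCyclic.1 inferInstance
    have hrange : Nat.card ψ.range ≤ 2 := by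
      haveI : IsCyclic ψ.range := inferInstance
      obtain ⟨g, hg⟩ := IsCyclic.exists_generator (α := ψ.range)
      rw [← orderOf_eq_card_of_forall_mem_zpowers hg]
      refine Nat.le_of_dvd two_pos (orderOf_dvd_of_pow_eq_one ?_)
      obtain ⟨x, hx⟩ := g.2
      exact Subtype.ext (by
        rw [coe_pow, ← hx, ← map_pow, show x ^ 2 = 1 from Subtype.ext (h.exp x x.2), map_one]; rfl)
    have hker : Nat.card ψ.ker ≤ Nat.card (A ⊓ centralizer (C a : Set G) : Subgroup G) := by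
      refine Nat.card_le_card_of_injective
        (fun x : ψ.ker => (⟨((x : A) : G), (x : A).2, mem_centralizer_iff.2 fun v hv => ?_⟩ :
          (A ⊓ centralizer (C a : Set G) : Subgroup G))) fun x x' e => Subtype.ext (Subtype.ext (by simpa using congrArg Subtype.val e))
      have e := congrArg Subtype.val (DFunLike.congr_fun (MonoidHom.mem_ker.1 x.2) ⟨v, hv⟩)
      subst hψ
      exact (mul_inv_eq_iff_eq_mul.1 (show ((x : A) : G) * v * ((x : A) : G)⁻¹ = v from e)).symm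
    have h1 := card_eq_card_quotient_mul_card_subgroup ψ.ker
    rw [Nat.card_congr (QuotientGroup.quotientKerEquivRange ψ).toEquiv] at h1
    calc Nat.card A = Nat.card ψ.range * Nat.card ψ.ker := h1
      _ ≤ _ := Nat.mul_le_mul hrange hker
  have hsame : ∀ a ∈ A, a ≠ 1 → C a = L := by
    intro a ha ha1
    have hKa := hK a ha ha1
    have hK0 := hK a0 ha0 ha01
    obtain ⟨u, hu, hu1⟩ : ∃ u ∈ (A ⊓ centralizer (C a : Set G)) ⊓ (A ⊓ centralizer (C a0 : Set G)), u ≠ 1 := by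
      by_contra hno
      push Not at hno
      have h0 : (A ⊓ centralizer (C a : Set G)) ⊓ (A ⊓ centralizer (C a0 : Set G)) = ⊥ :=
        (eq_bot_iff_forall _).2 hno
      have hle : Nat.card (A ⊓ centralizer (C a : Set G) : Subgroup G) *
          Nat.card (A ⊓ centralizer (C a0 : Set G) : Subgroup G) ≤ Nat.card A := by
        rw [← Nat.card_prod]
        refine Nat.card_le_card_of_injective (fun p => (⟨(p.1 : G) * (p.2 : G), mul_mem p.1.2.1 p.2.2.1⟩ : A))
          fun p q e => ?_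
        obtain ⟨p1, p2⟩ := Subgroup.mul_injective_of_disjoint (disjoint_iff.2 h0)
          (a₁ := p) (a₂ := q) (congrArg Subtype.val e) |> Prod.ext_iff.1
        exact Prod.ext p1 p2
      have h8 := h.card
      nlinarith
    have hmem : ∀ b ∈ A, u ∈ centralizer (C b : Set G) → b ≠ 1 → C b = C u := fun b hb hub hb1 => by
      refine eq_of_le_of_card_ge (fun v hv => ?_) (by rw [hline b hb hb1, hline u hu.1.1 hu1])
      have hv' := hv
      rw [hC] at hv' ⊢
      exact ⟨hv'.1, mem_centralizer_singleton_iff.2 (mem_centralizer_iff.1 hub v hv)⟩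
    rw [hL, hmem a ha hu.1.2 ha1, hmem a0 ha0 hu.2.2 ha01]
  have hle : B ≤ L := CfsgLib.LocalEven.le_of_centralizers_le h.exp (le_trans (by norm_num) h.card) hAB hodd
    fun a ha ha1 => by rw [← hC, hsame a ha ha1]
  have := card_le_of_le hle
  rw [hL, hline a0 ha0 ha01] at this
  omega

end Use

end CfsgLib.SzSq
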