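import Cfsg.Agent.Lib.SzSq.Basic
import Cfsg.Agent.Lib.ThreeOrders.Suzuki
import Cfsg.Agent.S2238

/-!
Owner: helper19. The element orders of the Suzuki groups and of their squares.
-/

set_option autoImplicit false
set_option linter.unusedSectionVars false

namespace CfsgLib.SzSq

open Subgroup CfsgLib.Lie.Suzuki

universe u

/-- The four classes of element orders. -/
def cl (m : ℕ) : Fin 4 → ℕ :=
  ![4, 2 ^ (2 * m + 1) - 1, 2 ^ (2 * m + 1) + 2 ^ (m + 1) + 1, 2 ^ (2 * m + 1) - 2 ^ (m + 1) + 1]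

theorem cl_odd {m : ℕ} {i : Fin 4} (hi : i ≠ 0) : Odd (cl m i) := by
  have h1 : 2 ∣ 2 ^ (2 * m + 1) := dvd_pow_self 2 (by omega)
  have h2 : 2 ∣ 2 ^ (m + 1) := dvd_pow_self 2 (by omega)
  have h3 : 2 ^ (m + 1) ≤ 2 ^ (2 * m + 1) := Nat.pow_le_pow_right two_pos (by omega)
  have h4 : 1 ≤ 2 ^ (2 * m + 1) := Nat.one_le_two_pow
  rw [Nat.odd_iff]
  fin_cases i
  · exact absurd rfl hi
  all_goals (simp [cl] <;> omega)

theorem one_lt_cl {m : ℕ} (hm : 1 ≤ m) (i : Fin 4) : 1 < cl m i := by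
  have h1 : 8 ≤ 2 ^ (2 * m + 1) := (CIT.SzPrimeGraph.q_facts m hm).1
  have h3 : 2 ^ (m + 1) < 2 ^ (2 * m + 1) := Nat.pow_lt_pow_right (by norm_num) (by omega)
  fin_cases i <;> simp [cl] <;> omega

variable {m : ℕ}

theorem cl_coprime (hm : 1 ≤ m) {i j : Fin 4} (h : i ≠ j) : (cl m i).Coprime (cl m j) := by
  haveI : Fintype (GaloisField 2 (2 * m + 1)) := Fintype.ofFinite _
  have hF : Fintype.card (GaloisField 2 (2 * m + 1)) = 2 ^ (2 * m + 1) := by
    rw [← Nat.card_eq_fintype_card, GaloisField.card 2 _ (by omega)]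
  obtain ⟨h12, h13, h23⟩ := coprime_three hF hm
  have h4 : ∀ k : Fin 4, k ≠ 0 → (cl m 0).Coprime (cl m k) := fun k hk =>
    (Nat.coprime_two_left.2 (cl_odd hk)).pow_left 2
  fin_cases i <;> fin_cases j <;> first
    | exact absurd rfl h
    | exact h4 _ (by decide)
    | exact (h4 _ (by decide)).symm
    | exact h12 | exact h12.symm | exact h13 | exact h13.symm | exact h23 | exact h23.symm

theorem class_unique (hm : 1 ≤ m) {i j : Fin 4} {p : ℕ} (hp : p.Prime) (hi : p ∣ cl m i) (hj : p ∣ cl m j) : i = j := by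
  by_contra h
  exact hp.ne_one (Nat.eq_one_of_dvd_coprimes (cl_coprime hm h) hi hj)

theorem class_two (hm : 1 ≤ m) {i : Fin 4} (h : 2 ∣ cl m i) : i = 0 :=
  class_unique hm Nat.prime_two h (by norm_num [cl])

theorem class_zero {p : ℕ} (hp : p.Prime) (h : p ∣ cl m 0) : p = 2 :=
  (Nat.prime_dvd_prime_iff_eq hp Nat.prime_two).1 (hp.dvd_of_dvd_pow (show p ∣ 2 ^ 2 from h))

theorem not_three_dvd_cl (hm : 1 ≤ m) (i : Fin 4) : ¬ 3 ∣ cl m i := by
  obtain ⟨-, h3, hprod⟩ := CIT.SzPrimeGraph.q_facts m hm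
  have hA : ¬ 3 ∣ (2 ^ (2 * m + 1)) ^ 2 + 1 := fun h => by
    have e1 : (2 ^ (2 * m + 1)) ^ 2 % 3 = 1 := by rw [Nat.pow_mod, h3]
    omega
  have h1 : 1 ≤ 2 ^ (2 * m + 1) := Nat.one_le_two_pow
  fin_cases i
  · simp [cl]
  · simp [cl]; omega
  · exact fun h => hA (hprod ▸ dvd_mul_of_dvd_left h _)
  · exact fun h => hA (hprod ▸ dvd_mul_of_dvd_right h _)

/-- Every element order divides the product of two classes. -/
def Good (m : ℕ) (G : Type*) [Group G] : Prop :=
  ∀ g : G, ∃ i j : Fin 4, orderOf g ∣ Nat.lcm (cl m i) (cl m j)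

variable {G : Type u} [Group G]

theorem Good.subgroup (h : Good m G) (H : Subgroup G) : Good m H := fun g => by
  rw [← Subgroup.orderOf_coe]
  exact h g

theorem Good.of_injective {H : Type*} [Group H] (h : Good m G) (f : H →* G) (hf : Function.Injective f) :
    Good m H := fun g => by
  rw [← orderOf_injective f hf]
  exact h (f g)

theorem Good.of_surjective {H : Type*} [Group H] (h : Good m G) (f : G →* H) (hf : Function.Surjective f) :
    Good m H := fun g => by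
  obtain ⟨x, rfl⟩ := hf g
  obtain ⟨i, j, hij⟩ := h x
  exact ⟨i, j, (orderOf_map_dvd f x).trans hij⟩

theorem Good.quotient (h : Good m G) (N : Subgroup G) [N.Normal] : Good m (G ⧸ N) :=
  h.of_surjective _ (QuotientGroup.mk'_surjective N)

theorem Good.class_of (h : Good m G) {g : G} {p : ℕ} (hp : p.Prime) (hd : p ∣ orderOf g) :
    ∃ i, p ∣ cl m i := by
  obtain ⟨i, j, hij⟩ := h g
  rcases hp.dvd_mul.1 ((hd.trans hij).trans (Nat.lcm_dvd_mul _ _)) with h' | h'
  exacts [⟨i, h'⟩, ⟨j, h'⟩]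

theorem Good.class_of_card [Finite G] (h : Good m G) {p : ℕ} (hp : p.Prime) (hd : p ∣ Nat.card G) :
    ∃ i, p ∣ cl m i := by
  haveI := Fact.mk hp
  obtain ⟨g, hg⟩ := exists_prime_orderOf_dvd_card' p hd
  exact h.class_of hp (dvd_of_eq hg.symm)

theorem Good.not_three [Finite G] (hm : 1 ≤ m) (h : Good m G) : ¬ 3 ∣ Nat.card G := fun hd =>
  let ⟨i, hi⟩ := h.class_of_card Nat.prime_three hd
  not_three_dvd_cl hm i hi

/-- No element order meets three classes. -/
theorem Good.triple (hm : 1 ≤ m) (h : Good m G) {g : G} {i j k : Fin 4} (hij : i ≠ j) (hik : i ≠ k) (hjk : j ≠ k)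
    {p q r : ℕ} (hp : p.Prime) (hq : q.Prime) (hr : r.Prime) (hpi : p ∣ cl m i) (hqj : q ∣ cl m j)
    (hrk : r ∣ cl m k) (hpg : p ∣ orderOf g) (hqg : q ∣ orderOf g) (hrg : r ∣ orderOf g) : False := by
  obtain ⟨a, b, hab⟩ := h g
  have key : ∀ s : ℕ, ∀ l : Fin 4, s.Prime → s ∣ cl m l → s ∣ orderOf g → l = a ∨ l = b := fun s l hs hl hd =>
    (hs.dvd_mul.1 ((hd.trans hab).trans (Nat.lcm_dvd_mul _ _))).imp (class_unique hm hs hl) (class_unique hm hs hl)
  rcases key p i hp hpi hpg with rfl | rfl <;> rcases key q j hq hqj hqg with rfl | rfl <;>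
    rcases key r k hr hrk hrg with rfl | rfl <;> simp_all

/-- Three commuting elements from different classes. -/
theorem Good.false3 [Finite G] (hm : 1 ≤ m) (h : Good m G) {i j k : Fin 4} (hij : i ≠ j) (hik : i ≠ k) (hjk : j ≠ k)
    {p q r : ℕ} (hp : p.Prime) (hq : q.Prime) (hr : r.Prime) (hpi : p ∣ cl m i) (hqj : q ∣ cl m j)
    (hrk : r ∣ cl m k) {x y z : G} (hx : orderOf x = p) (hy : orderOf y = q) (hz : orderOf z = r)
    (hxy : Commute x y) (hxz : Commute x z) (hyz : Commute y z) : False := by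
  have hpq : p ≠ q := fun e => hij (class_unique hm hp hpi (e ▸ hqj))
  have hpr : p ≠ r := fun e => hik (class_unique hm hp hpi (e ▸ hrk))
  have hqr : q ≠ r := fun e => hjk (class_unique hm hq hqj (e ▸ hrk))
  have e1 : orderOf (x * y) = p * q :=
    CfsgLib.Recog.ThreePrimes.orderOf_mul_of_commute hxy hp hq hpq hx hy
  have e2 : orderOf (x * y * z) = p * q * r := by
    rw [(hxz.mul_left hyz).orderOf_mul_eq_mul_orderOf_of_coprime, e1, hz]
    rw [e1, hz]
    exact Nat.Coprime.mul_left ((Nat.coprime_primes hp hr).2 hpr) ((Nat.coprime_primes hq hr).2 hqr)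
  exact h.triple hm hij hik hjk hp hq hr hpi hqj hrk
    (e2 ▸ ⟨q * r, by ring⟩ : p ∣ orderOf (x * y * z)) (e2 ▸ ⟨p * r, by ring⟩ : q ∣ orderOf (x * y * z))
    (e2 ▸ ⟨p * q, by ring⟩ : r ∣ orderOf (x * y * z))

/-- There are no elements of order eight. -/
theorem Good.no_eight (hm : 1 ≤ m) (h : Good m G) (g : G) : ¬ 8 ∣ orderOf g := fun hd => by
  obtain ⟨i, j, hij⟩ := h g
  have h4 : ∀ l : Fin 4, cl m l ∣ 4 * ∏ k ∈ ({1, 2, 3} : Finset (Fin 4)), cl m k := fun l => by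
    fin_cases l
    · exact dvd_mul_right _ _
    all_goals exact dvd_mul_of_dvd_right (Finset.dvd_prod_of_mem _ (by decide)) _
  have h8 := (hd.trans hij).trans (Nat.lcm_dvd (h4 i) (h4 j))
  rw [show (8 : ℕ) = 4 * 2 from rfl] at h8
  have h2 := Nat.dvd_of_mul_dvd_mul_left (by norm_num) h8
  obtain ⟨k, hk, hk2⟩ := (Nat.prime_two.prime.dvd_finsetProd_iff _).1 h2
  rw [class_two hm hk2] at hk
  exact absurd hk (by decide)

theorem Good.pow_four [Finite G] (hm : 1 ≤ m) (h : Good m G) {g : G} {k : ℕ} (hg : orderOf g = 2 ^ k) : g ^ 4 = 1 := by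
  have hk : k ≤ 2 := by
    by_contra hk
    exact h.no_eight hm g (hg ▸ (pow_dvd_pow 2 (show 3 ≤ k by omega) : 2 ^ 3 ∣ 2 ^ k))
  rw [← orderOf_dvd_iff_pow_eq_one, hg]
  exact pow_dvd_pow 2 hk

section Suzuki

variable {F : Type*} [Field F] [Fintype F] (hF : Fintype.card F = 2 ^ (2 * m + 1))

include hF in
/-- The element orders of a Suzuki group. -/
theorem sz_order (hm : 1 ≤ m) (g : Cfsg.Sz F m) : ∃ i, orderOf g ∣ cl m i := by
  haveI := charTwo_of_card hF
  rcases cases_of_ne_one hF hm g with hg | ⟨h, hu⟩ | ⟨h, ht⟩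
  · have hd : orderOf g ∣ Nat.card (centralizer ({g} : Set (Cfsg.Sz F m))) :=
      Subgroup.orderOf_dvd_natCard _ (mem_centralizer_singleton_iff.2 rfl)
    rcases free_card_cases hF hm hg with e | e
    · exact ⟨2, by simpa [cl, e] using hd⟩
    · exact ⟨3, by simpa [cl, e] using hd⟩
  · obtain ⟨a, b, hab⟩ := (mem_uSub hF).1 (mem_cj.1 hu)
    refine ⟨0, orderOf_dvd_of_pow_eq_one ?_⟩
    show g ^ 4 = 1
    have : (h⁻¹ * g * h) ^ 4 = 1 := by rw [hab]; exact uS_pow_four hF a b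
    rw [show h⁻¹ * g * h = MulAut.conj h⁻¹ g by simp [MulAut.conj_apply], ← map_pow] at this
    exact (map_eq_one_iff _ (MulAut.conj h⁻¹).injective).1 this
  · refine ⟨1, ?_⟩
    have hd := Subgroup.orderOf_dvd_natCard _ ht
    rw [card_cj, card_tSub, hF] at hd
    exact hd

end Suzuki

section SuzukiSmall

variable {F : Type} [Field F] [Fintype F] (hF : Fintype.card F = 2 ^ (2 * m + 1))

include hF in
theorem exists_sz_order (hm : 1 ≤ m) (i : Fin 4) : ∃ g : Cfsg.Sz F m, orderOf g = cl m i := by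
  fin_cases i
  · obtain ⟨-, y, -, -, hy, -⟩ := ThreeOrders.exists_frobenius_four hm hF
    exact ⟨y, hy⟩
  · exact ThreeOrders.exists_orderOf_sz hm hF (Or.inl rfl)
  · exact ThreeOrders.exists_orderOf_sz hm hF (Or.inr (Or.inl rfl))
  · exact ThreeOrders.exists_orderOf_sz hm hF (Or.inr (Or.inr rfl))

end SuzukiSmall

end CfsgLib.SzSq
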