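import Cfsg.Agent.Lib.SzSq.Cover
import Cfsg.Agent.Lib.Core.MinNormal
import Cfsg.Agent.Lib.Core.Hall
import Cfsg.Agent.Lib.Core.Coprime

/-!
Owner: helper19. A Suzuki group on top of a solvable radical meeting three classes.
-/

set_option autoImplicit false
set_option linter.unusedSectionVars false

namespace CfsgLib.SzSq

open Subgroup CfsgLib.Lie.Suzuki
open scoped Pointwise

universe u

variable {G : Type u} [Group G] [Finite G] {m : ℕ}

/-- The subgroup has order divisible by a prime of the class. -/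
def Meets (m : ℕ) (R : Subgroup G) (c : Fin 4) : Prop :=
  ∃ p : ℕ, p.Prime ∧ p ∣ cl m c ∧ p ∣ Nat.card R

theorem meets_zero {R : Subgroup G} : Meets m R 0 ↔ 2 ∣ Nat.card R :=
  ⟨fun ⟨_, hp, hp0, hpR⟩ => (class_zero hp hp0) ▸ hpR, fun h => ⟨2, Nat.prime_two, by norm_num [cl], h⟩⟩

theorem orderOf_eq_two {A : Subgroup G} {y a : G} (hA : IsFrame A y) (ha : a ∈ A) (ha1 : a ≠ 1) : orderOf a = 2 := by
  haveI : Fact (Nat.Prime 2) := ⟨Nat.prime_two⟩
  exact orderOf_eq_prime (hA.exp a ha) ha1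

theorem IsFrame.exists_ne_one {A : Subgroup G} {y : G} (hA : IsFrame A y) : ∃ a ∈ A, a ≠ 1 :=
  A.bot_or_exists_ne_one.resolve_left fun e => by
    have := hA.card
    rw [e, card_bot] at this
    omega

theorem class_cases : ∀ a b e c : Fin 4, a ≠ b → a ≠ e → b ≠ e → a ≠ 0 → b ≠ 0 → e ≠ 0 → c ≠ 0 →
    c = a ∨ c = b ∨ c = e := by decide

theorem class_avoid : ∀ a b e c c' : Fin 4, a ≠ b → a ≠ e → b ≠ e →
    (a ≠ c ∧ a ≠ c') ∨ (b ≠ c ∧ b ≠ c') ∨ (e ≠ c ∧ e ≠ c') := by decide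

variable {F : Type} [Field F] [Fintype F] {k : ℕ}

/-- Minimal covers inside a supplement of the kernel of a map onto a Suzuki group. -/
theorem exists_cover_top (hk : 1 ≤ k) (hF : Fintype.card F = 2 ^ (2 * k + 1)) (hd : 2 * k + 1 ∣ 2 * m + 1)
    {f : G →* Cfsg.Sz F k} (hf : Function.Surjective f) {M : Subgroup G} (hM : f.ker ⊔ M = ⊤) :
    ∃ (E : Subgroup G) (f' : E →* Cfsg.Sz F k), E ≤ M ∧ IsCover m f' ∧ ∀ e : E, f' e = 1 ↔ (e : G) ∈ f.ker := by
  obtain ⟨E, f', hEM, -, hc, hker⟩ := exists_cover (R := f.ker) (H := (⊤ : Subgroup G)) hk hF hd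
    (f.comp (⊤ : Subgroup G).subtype) (fun z => by obtain ⟨g, rfl⟩ := hf z; exact ⟨⟨g, mem_top g⟩, rfl⟩)
    (fun h => Iff.rfl) (M := M) (fun h _ => by
      have hh : h ∈ M ⊔ f.ker := sup_comm f.ker M ▸ hM.symm ▸ mem_top h
      obtain ⟨x, hx, r, hr, e⟩ := Subgroup.mem_sup_of_normal_right.1 hh
      exact ⟨x, hx, r, hr, e.symm⟩) le_top
  exact ⟨E, f', hEM, hc, hker⟩

/-- Elements normalising two subgroups normalise their intersection with a centraliser of a fixed element. -/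
theorem normalizer_inf_centralizer {E V : Subgroup G} {z : G} (hEV : E ≤ normalizer (V : Set G))
    (hz : ∀ e ∈ E, Commute z e) : E ≤ normalizer ((V ⊓ centralizer ({z} : Set G) : Subgroup G) : Set G) :=
  fun e he => by
    have key : ∀ e ∈ E, ∀ x ∈ V ⊓ centralizer ({z} : Set G), e * x * e⁻¹ ∈ V ⊓ centralizer ({z} : Set G) :=
      fun e he x hx => ⟨((mem_normalizer_iff.1 (hEV he)) x).1 hx.1, mem_centralizer_singleton_iff.2
        (((hz e he).symm.mul_left (mem_centralizer_singleton_iff.1 hx.2)).mul_left (hz e he).symm.inv_left).eq⟩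
    refine mem_normalizer_iff.2 fun x => ⟨key e he x, fun hx => ?_⟩
    have := key e⁻¹ (inv_mem he) _ hx
    rwa [inv_inv, show e⁻¹ * (e * x * e⁻¹) * e = x by group] at this

namespace IsCover

variable {E : Subgroup G} {f : E →* Cfsg.Sz F k}

/-- An involution and an element of odd prime order, commuting and centralised by a cover. -/
theorem false_pair (hm : 1 ≤ m) (hG : Good m G) (hc : IsCover m f) {z a : G} {s : ℕ} {d : Fin 4}
    (hs : s.Prime) (hsd : s ∣ cl m d) (hd : d ≠ 0) (hz : orderOf z = 2) (ha : orderOf a = s)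
    (hzE : ∀ e ∈ E, Commute z e) (haE : ∀ e ∈ E, Commute a e) (hza : Commute z a) : False := by
  obtain ⟨x, p, j, hp, hx, hpj, hj0, hjd⟩ := hc.exists_class hm (c := d)
  obtain ⟨e, he⟩ := hc.surj x
  obtain ⟨i, hi⟩ := exists_pow_orderOf hp (g := (e : G)) (by
    rw [← hx, ← he, Subgroup.orderOf_coe]
    exact orderOf_map_dvd f e)
  exact hG.false3 hm hd.symm hj0.symm hjd.symm Nat.prime_two hs hp (by norm_num [cl]) hsd hpj hz ha hi hza
    ((hzE _ e.2).pow_right i) ((haE _ e.2).pow_right i)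

end IsCover

/-- A prime order element with all nontrivial powers moving everything is moved by its first power alone. -/
theorem fpf_powers {x : G} {A : Subgroup G} {q : ℕ} (hq : q.Prime) (hx : orderOf x = q)
    (h : ∀ a ∈ A, Commute x a → a = 1) : ∀ i : ℕ, ¬ orderOf x ∣ i → ∀ a ∈ A, Commute (x ^ i) a → a = 1 := by
  intro i hi a ha hc
  refine h a ha ?_
  rw [hx] at hi
  have hcop : (orderOf x).Coprime i := by rw [hx]; exact hq.coprime_iff_not_dvd.2 hi
  obtain ⟨b, hb⟩ := exists_pow_eq_self_of_coprime hcop.symm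
  rw [← hb]
  exact hc.pow_left b

set_option maxHeartbeats 400000 in
/-- A Suzuki group on top of a solvable radical meeting three classes. -/
theorem radical_false (hfix : FixFacts.{u}) (hm : 1 ≤ m) (hk : 1 ≤ k) (hF : Fintype.card F = 2 ^ (2 * k + 1))
    (hd : 2 * k + 1 ∣ 2 * m + 1) : ∀ (n : ℕ) (G : Type u) [Group G] [Finite G], Nat.card G = n → Good m G →
      ∀ f : G →* Cfsg.Sz F k, Function.Surjective f → Group.IsSolvable f.ker →
      (∃ a b c : Fin 4, a ≠ b ∧ a ≠ c ∧ b ≠ c ∧ Meets m f.ker a ∧ Meets m f.ker b ∧ Meets m f.ker c) → False := by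
  intro n
  induction n using Nat.strong_induction_on with
  | _ n ih =>
  intro G _ _ hcard hG f hf hsol h3
  classical
  haveI : Fact (Nat.Prime 2) := ⟨Nat.prime_two⟩
  obtain ⟨R, hR⟩ : ∃ R, R = f.ker := ⟨_, rfl⟩
  haveI : R.Normal := hR ▸ inferInstance
  haveI hRsol : Group.IsSolvable R := hR ▸ hsol
  by_cases h2 : 2 ∣ Nat.card R
  swap
  · -- odd radical
    have hall : ∀ c : Fin 4, c ≠ 0 → Meets m R c := by
      intro c hc
      obtain ⟨a, b, e, hab, hae, hbe, ha, hb, he⟩ := h3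
      rw [← hR] at ha hb he
      have hne : ∀ x, Meets m R x → x ≠ 0 := fun x hx h0 => h2 (meets_zero.1 (h0 ▸ hx))
      have hcase := class_cases a b e c hab hae hbe (hne a ha) (hne b hb) (hne e he) hc
      rcases hcase with rfl | rfl | rfl <;> assumption
    obtain ⟨E, f', -, hc, hker⟩ := exists_cover_top hk hF hd hf (M := ⊤) (sup_top_eq _)
    obtain ⟨A, y, hA, -, -, -⟩ := hc.exists_frame hfix hm hG
    obtain ⟨a0, ha0, ha01⟩ := hA.exists_ne_one
    have hA2 : IsPGroup 2 A := fun a => ⟨1, Subtype.ext (by rw [pow_one, coe_pow]; exact hA.exp a a.2)⟩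
    obtain ⟨X, hX⟩ : ∃ X : Subgroup G, X = R ⊓ centralizer ({a0} : Set G) := ⟨_, rfl⟩
    have key : ∀ c : Fin 4, c ≠ 0 → ∃ p, p.Prime ∧ p ∣ cl m c ∧ p ∣ Nat.card X := by
      intro c hc0
      obtain ⟨p, hp, hpc, hpR⟩ := hall c hc0
      refine ⟨p, hp, hpc, ?_⟩
      haveI := Fact.mk hp
      have hcop : (Nat.card A).Coprime (Nat.card R) := by
        obtain ⟨j, hj⟩ := hA2.exists_card_eq
        rw [hj]
        exact (Nat.prime_two.coprime_iff_not_dvd.2 h2).pow_left j
      haveI := hA.comm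
      have hAR : A ≤ normalizer (R : Set G) := le_normalizer_of_normal
      obtain ⟨P, hP⟩ := CfsgLib.Core.exists_invariant_sylow hAR hcop (Or.inr hRsol) p
      obtain ⟨e, he, heo, v, hv, hv1, hev⟩ := exists_fixed_of_rank Nat.prime_two hA.comm hA.exp
        (le_trans (by norm_num) hA.card) hP (fun hd2 => by
          obtain ⟨j, hj⟩ := (P.isPGroup'.map R.subtype).exists_card_eq
          rw [hj] at hd2
          have := (Nat.prime_dvd_prime_iff_eq Nat.prime_two hp).1 (Nat.prime_two.dvd_of_dvd_pow hd2)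
          exact h2 (this ▸ hpR))
        (fun e => P.ne_bot_of_dvd_card hpR ((map_eq_bot_iff_of_injective _ R.subtype_injective).1 e))
      obtain ⟨i, hi⟩ := hA.trans e he a0 ha0 (fun e1 => by rw [e1, orderOf_one] at heo; omega) ha01
      have hw : y ^ i * v * (y ^ i)⁻¹ ∈ X := hX ▸ ⟨(inferInstance : R.Normal).conj_mem v
        (map_subtype_le _ hv) _, mem_centralizer_singleton_iff.2 (hi ▸ ((hev.map (MulAut.conj (y ^ i))).symm).eq)⟩
      obtain ⟨j, hj⟩ := IsPGroup.iff_orderOf.1 (P.isPGroup'.map R.subtype) ⟨v, hv⟩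
      rw [← Subgroup.orderOf_coe] at hj
      have hj0 : j ≠ 0 := fun e => hv1 (orderOf_eq_one_iff.1 (hj.trans (by rw [e, pow_zero])))
      refine Dvd.dvd.trans ?_ (Subgroup.orderOf_dvd_natCard _ hw)
      rw [show y ^ i * v * (y ^ i)⁻¹ = MulAut.conj (y ^ i) v from rfl,
        show orderOf (MulAut.conj (y ^ i) v) = orderOf v from orderOf_injective (MulAut.conj (y ^ i)).toMonoidHom
          (MulAut.conj (y ^ i)).injective v, hj]
      exact dvd_pow_self p hj0
    obtain ⟨p1, hp1, hc1, hd1⟩ := key 1 (by decide)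
    obtain ⟨p2, hp2, hc2, hd2⟩ := key 2 (by decide)
    obtain ⟨p3, hp3, hc3, hd3⟩ := key 3 (by decide)
    have ne : ∀ {p q : ℕ} {i j : Fin 4}, i ≠ j → p.Prime → p ∣ cl m i → q ∣ cl m j → p ≠ q :=
      fun hij hp hi hj e => hij (class_unique hm hp hi (e ▸ hj))
    haveI : Group.IsSolvable X := hX ▸ Group.isSolvable_of_isSolvable_injective
      (inclusion_injective (inf_le_left : R ⊓ centralizer ({a0} : Set G) ≤ R))
    have pair : ∀ {p q : ℕ} {i j : Fin 4}, i ≠ j → i ≠ 0 → j ≠ 0 → p.Prime → q.Prime → p ∣ cl m i → q ∣ cl m j →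
        ∀ x : X, orderOf x = p * q → False := by
      intro p q i j hij hi0 hj0 hp hq hpi hqj x hx
      obtain ⟨u, hu⟩ := exists_pow_orderOf hp (g := (x : G)) (by rw [Subgroup.orderOf_coe, hx]; exact dvd_mul_right p q)
      obtain ⟨v, hv⟩ := exists_pow_orderOf hq (g := (x : G)) (by rw [Subgroup.orderOf_coe, hx]; exact dvd_mul_left q p)
      have hxc : Commute a0 (x : G) := (mem_centralizer_singleton_iff.1 (hX.le x.2).2).symm
      exact hG.false3 hm hi0.symm hj0.symm hij Nat.prime_two hp hq (by norm_num [cl]) hpi hqj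
        (orderOf_eq_two hA ha0 ha01) hu hv (hxc.pow_right u) (hxc.pow_right v) (Commute.pow_pow (Commute.refl _) u v)
    rcases CfsgLib.Recog.ThreePrimes.solvable_three_primes _ X rfl p1 p2 p3 hp1 hp2 hp3 (ne (by decide) hp1 hc1 hc2)
      (ne (by decide) hp1 hc1 hc3) (ne (by decide) hp2 hc2 hc3) hd1 hd2 hd3 with ⟨x, hx⟩ | ⟨x, hx⟩ | ⟨x, hx⟩
    · exact pair (by decide) (by decide) (by decide) hp1 hp2 hc1 hc2 x hx
    · exact pair (by decide) (by decide) (by decide) hp1 hp3 hc1 hc3 x hx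
    · exact pair (by decide) (by decide) (by decide) hp2 hp3 hc2 hc3 x hx
  -- a minimal normal subgroup is a whole class
  have elem : ∀ V : Subgroup G, V.Normal → V ≤ R → V ≠ ⊥ →
      (∀ K : Subgroup G, K.Normal → K ≤ V → K = ⊥ ∨ K = V) →
      ∃ (l : ℕ) (c : Fin 4) (D : Subgroup G), l.Prime ∧ l ∣ cl m c ∧ IsMulCommutative V ∧ (∀ v ∈ V, v ^ l = 1) ∧
        D ≤ R ∧ (∀ p, p.Prime → p ∣ Nat.card D → ¬ p ∣ cl m c) ∧
        (∀ r ∈ R, ∃ v ∈ V, ∃ x ∈ D, r = v * x) ∧ f.ker ⊔ normalizer (D : Set G) = ⊤ ∧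
        (∀ b, b ≠ c → Meets m R b → Meets m D b) ∧
        (∀ j (r : G), r ∈ R → r ^ l ^ j = 1 → r ∈ V) := by
    intro V hVn hVR hVne hVmin
    haveI := hVn
    obtain ⟨l, hl, hVl, hVc, hVexp⟩ := CfsgLib.Core.isPGroup_of_minimal_normal V
      (Group.isSolvable_of_isSolvable_injective (inclusion_injective hVR)) hVne hVmin
    haveI := Fact.mk hl
    obtain ⟨v0, hv0, hv01⟩ := V.bot_or_exists_ne_one.resolve_left hVne
    have hvo : orderOf v0 = l := orderOf_eq_prime (hVexp v0 hv0) hv01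
    obtain ⟨c, hlc⟩ := hG.class_of hl (g := v0) hvo.symm.dvd
    have hmul : Nat.card V * V.relIndex R = Nat.card R := by
      rw [relIndex, ← (V.subgroupOf R).card_mul_index, Nat.card_congr (subgroupOfEquivOfLe hVR).toEquiv]
    have hfull : ∀ p, p.Prime → p ∣ V.relIndex R → ¬ p ∣ cl m c := by
      intro p hp hpd hpc
      obtain ⟨q, hq⟩ : ∃ q : G →* G ⧸ V, q = QuotientGroup.mk' V := ⟨_, rfl⟩
      have hqs : Function.Surjective q := hq ▸ QuotientGroup.mk'_surjective V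
      have hle : q.ker ≤ f.ker := by rw [hq, QuotientGroup.ker_mk', ← hR]; exact hVR
      obtain ⟨fb, hfb⟩ : ∃ fb, fb = q.liftOfSurjective hqs ⟨f, hle⟩ := ⟨_, rfl⟩
      have hfbq : ∀ g, fb (q g) = f g := fun g => hfb ▸ MonoidHom.liftOfRightInverse_comp_apply _ _ _ _ g
      have hfker : fb.ker = R.map q := by
        ext x
        obtain ⟨g, rfl⟩ := hqs x
        rw [MonoidHom.mem_ker, hfbq, ← MonoidHom.mem_ker, ← hR]
        refine ⟨mem_map_of_mem q, fun ⟨r, hr, e⟩ => ?_⟩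
        have : r⁻¹ * g ∈ V := by
          rw [← QuotientGroup.ker_mk' V, ← hq, MonoidHom.mem_ker, map_mul, map_inv, e, inv_mul_cancel]
        simpa using mul_mem hr (hVR this)
      have hcardb : Nat.card fb.ker = V.relIndex R := by
        rw [hfker, ← relIndex_ker, hq, QuotientGroup.ker_mk']
      have hsolb : Group.IsSolvable fb.ker := by
        rw [hfker]
        exact Group.isSolvable_of_surjective (f := q.subgroupMap R) (MonoidHom.subgroupMap_surjective q R)
      have hlt : Nat.card (G ⧸ V) < n := by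
        rw [← hcard, ← V.index_mul_card, ← V.index_eq_card]
        exact lt_mul_of_one_lt_right (Nat.pos_of_ne_zero V.index_ne_zero_of_finite) (V.one_lt_card_iff_ne_bot.2 hVne)
      refine ih _ hlt (G ⧸ V) rfl (hG.quotient V) fb (fun z => ?_) hsolb ?_
      · obtain ⟨g, rfl⟩ := hf z
        exact ⟨q g, hfbq g⟩
      · have hmeet : ∀ b, Meets m R b → Meets m fb.ker b := by
          rintro b ⟨r, hr, hrb, hrR⟩
          rw [← hmul] at hrR
          rcases hr.dvd_mul.1 hrR with h' | h'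
          · obtain ⟨j, hj⟩ := hVl.exists_card_eq
            rw [hj] at h'
            have e := (Nat.prime_dvd_prime_iff_eq hr hl).1 (hr.dvd_of_dvd_pow h')
            subst e
            exact ⟨p, hp, (class_unique hm hr hrb hlc) ▸ hpc, hcardb.symm ▸ hpd⟩
          · exact ⟨r, hr, hrb, hcardb.symm ▸ h'⟩
        obtain ⟨a, b, e, hab, hae, hbe, ha, hb, he⟩ := h3
        rw [← hR] at ha hb he
        exact ⟨a, b, e, hab, hae, hbe, hmeet a ha, hmeet b hb, hmeet e he⟩
    have hcop : (Nat.card (V.subgroupOf R)).Coprime (V.subgroupOf R).index := by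
      rw [Nat.card_congr (subgroupOfEquivOfLe hVR).toEquiv]
      obtain ⟨j, hj⟩ := hVl.exists_card_eq
      rw [hj]
      exact (hl.coprime_iff_not_dvd.2 fun h => hfull l hl h hlc).pow_left j
    obtain ⟨D0, hD0⟩ := exists_right_complement'_of_coprime hcop
    obtain ⟨D, hD⟩ : ∃ D : Subgroup G, D = D0.map R.subtype := ⟨_, rfl⟩
    have hDR : D ≤ R := hD ▸ map_subtype_le D0
    have hDc : Nat.card D = V.relIndex R := by
      rw [hD, card_map_of_injective R.subtype_injective, relIndex, hD0.symm.index_eq_card]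
    refine ⟨l, c, D, hl, hlc, hVc, hVexp, hDR, fun p hp hpd => hfull p hp (hDc ▸ hpd), fun r hr => ?_, ?_, ?_, ?_⟩
    · obtain ⟨⟨⟨v, hv⟩, ⟨x, hx⟩⟩, e⟩ := hD0.surjective ⟨r, hr⟩
      exact ⟨v, hv, x, hD ▸ mem_map_of_mem R.subtype hx, (congrArg Subtype.val e).symm⟩
    · rw [← hR]
      refine CfsgLib.Core.hall_frattini hRsol hDR ?_
      have e1 : Nat.card D * D.relIndex R = Nat.card R := by
        rw [relIndex, ← (D.subgroupOf R).card_mul_index, Nat.card_congr (subgroupOfEquivOfLe hDR).toEquiv]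
      rw [← hmul, ← hDc, mul_comm (Nat.card V)] at e1
      rw [Nat.eq_of_mul_eq_mul_left Nat.card_pos e1, hDc]
      rw [relIndex, ← Nat.card_congr (subgroupOfEquivOfLe hVR).toEquiv]
      exact hcop.symm
    · rintro b hb ⟨r, hr, hrb, hrR⟩
      rw [← hmul] at hrR
      refine ⟨r, hr, hrb, hDc.symm ▸ (hr.dvd_mul.1 hrR).resolve_left fun h' => hb ?_⟩
      obtain ⟨j, hj⟩ := hVl.exists_card_eq
      rw [hj] at h'
      have e := (Nat.prime_dvd_prime_iff_eq hr hl).1 (hr.dvd_of_dvd_pow h')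
      exact class_unique hm hr hrb (e ▸ hlc)
    · intro j r hr hrj
      have h1 := orderOf_map_dvd (QuotientGroup.mk' (V.subgroupOf R)) ⟨r, hr⟩
      have h3' : orderOf (QuotientGroup.mk' (V.subgroupOf R) ⟨r, hr⟩) = 1 := by
        refine Nat.eq_one_of_dvd_coprimes ?_ (orderOf_dvd_natCard _)
          (h1.trans (orderOf_dvd_of_pow_eq_one (n := l ^ j) (Subtype.ext (by rw [coe_pow]; exact hrj))))
        rw [← index_eq_card]
        exact ((hl.coprime_iff_not_dvd.2 fun h => hfull l hl h hlc).pow_left j).symm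
      rw [orderOf_eq_one_iff, QuotientGroup.mk'_apply, QuotientGroup.eq_one_iff] at h3'
      exact h3'
  have two_classes : ∀ c : Fin 4, ∀ D : Subgroup G, (∀ b, b ≠ c → Meets m R b → Meets m D b) →
      ∀ c' : Fin 4, ∃ b, b ≠ c ∧ b ≠ c' ∧ Meets m D b := by
    intro c D hD c'
    obtain ⟨a, b, e, hab, hae, hbe, ha, hb, he⟩ := h3
    rw [← hR] at ha hb he
    rcases class_avoid a b e c c' hab hae hbe with
      ⟨h1, h2'⟩ | ⟨h1, h2'⟩ | ⟨h1, h2'⟩
    exacts [⟨a, h1, h2', hD a h1 ha⟩, ⟨b, h1, h2', hD b h1 hb⟩, ⟨e, h1, h2', hD e h1 he⟩]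
  have normal_inf : ∀ V D : Subgroup G, V.Normal → f.ker ⊔ normalizer (D : Set G) = ⊤ →
      (∀ r ∈ R, ∃ v ∈ V, ∃ x ∈ D, r = v * x) → (D ⊓ centralizer (V : Set G)).Normal := by
    intro V D hV hsup hprod
    haveI := hV
    rw [← normalizer_eq_top_iff, eq_top_iff, ← hsup, ← hR]
    have key : normalizer (D : Set G) ≤ normalizer ((D ⊓ centralizer (V : Set G) : Subgroup G) : Set G) :=
      fun g hg => mem_normalizer_iff.2 fun x => and_congr (mem_normalizer_iff.1 hg x)
        (mem_normalizer_iff.1 (normalizer_eq_top (centralizer (V : Set G)) ▸ mem_top g) x)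
    refine sup_le (fun r hr => ?_) key
    obtain ⟨v, hv, x, hx, rfl⟩ := hprod r hr
    refine mul_mem ?_ (key (le_normalizer hx))
    refine centralizer_le_normalizer _ ?_
    exact mem_centralizer_iff.2 fun w hw => ((mem_centralizer_iff.1 hw.2) v hv).symm
  have nfrat : ∀ D : Subgroup G, D ≤ R → f.ker ⊔ normalizer (D : Set G) = ⊤ → ∀ {q : ℕ}, q.Prime →
      ∃ P : Subgroup G, P ≤ D ∧ IsPGroup q P ∧ (q ∣ Nat.card D → P ≠ ⊥) ∧
        f.ker ⊔ (normalizer (D : Set G) ⊓ normalizer (P : Set G)) = ⊤ := by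
    intro D hDR hsup q hq
    haveI := Fact.mk hq
    obtain ⟨P, hP⟩ : ∃ P : Sylow q D, P = default := ⟨_, rfl⟩
    refine ⟨(P : Subgroup D).map D.subtype, map_subtype_le _, P.isPGroup'.map _, fun hdq e => ?_, ?_⟩
    · exact P.ne_bot_of_dvd_card hdq ((map_eq_bot_iff_of_injective _ D.subtype_injective).1 e)
    rw [eq_top_iff]
    intro g _
    have hg : g ∈ f.ker ⊔ normalizer (D : Set G) := hsup.symm ▸ mem_top g
    obtain ⟨r, hr, x, hx, rfl⟩ := Subgroup.mem_sup_of_normal_left.1 hg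
    refine mul_mem (mem_sup_left hr) ?_
    have hQ : MulAut.conj x • ((P : Subgroup D).map D.subtype) ≤ D := by
      intro w hw
      rw [mem_pointwise_smul_iff_inv_smul_mem] at hw
      have h := ((mem_normalizer_iff.1 hx) _).1 (map_subtype_le _ hw)
      simpa [MulAut.smul_def, mul_assoc] using h
    obtain ⟨d, hd', e⟩ := CfsgLib.Core.exists_conj_of_card_eq P hQ
      (Nat.card_congr (equivSMul (MulAut.conj x) _).toEquiv).symm
    have hmem : d⁻¹ * x ∈ normalizer (((P : Subgroup D).map D.subtype : Subgroup G) : Set G) := by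
      rw [CfsgLib.Core.mem_normalizer_iff_conj_smul_eq, map_mul, mul_smul, ← e, ← mul_smul, ← map_mul,
        inv_mul_cancel, map_one, one_smul]
    rw [show x = d * (d⁻¹ * x) by group]
    exact mul_mem (mem_sup_left (hR ▸ hDR hd'))
      (mem_sup_right (Subgroup.mem_inf.2 ⟨mul_mem (inv_mem (le_normalizer hd')) hx, hmem⟩))
  have hRne : R ≠ ⊥ := fun e => by rw [e, card_bot] at h2; omega
  by_cases hA : ∃ V : Subgroup G, V.Normal ∧ V ≤ R ∧ V ≠ ⊥ ∧
      (∀ K : Subgroup G, K.Normal → K ≤ V → K = ⊥ ∨ K = V) ∧ 2 ∣ Nat.card V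
  · -- a normal two-subgroup
    obtain ⟨V, hVn, hVR, hVne, hVmin, hV2⟩ := hA
    haveI := hVn
    obtain ⟨l, c, D, hl, hlc, hVc, hVexp, hDR, hfull, hprod, hsup, hmeet, hsyl⟩ := elem V hVn hVR hVne hVmin
    obtain rfl : l = 2 := by
      obtain ⟨v, hv⟩ := exists_prime_orderOf_dvd_card' 2 hV2
      have h := orderOf_dvd_of_pow_eq_one (hVexp v v.2)
      rw [Subgroup.orderOf_coe, hv] at h
      exact ((Nat.prime_dvd_prime_iff_eq Nat.prime_two hl).1 h).symm
    obtain rfl : c = 0 := class_two hm hlc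
    obtain ⟨E, f', hED, hc, hker⟩ := exists_cover_top hk hF hd hf hsup
    haveI := hVc
    have hEV : E ≤ normalizer (V : Set G) := le_normalizer_of_normal
    have hEVc : ∀ e : E, ∀ v ∈ V, Commute (e : G) v :=
      hfix.cent hk hF (fun g hg => hG.no_eight hm g (dvd_of_eq hg.symm)) hVexp hEV f' hc.surj hc.min
    obtain ⟨z, hz, hz1⟩ := V.bot_or_exists_ne_one.resolve_left hVne
    have hzo : orderOf z = 2 := orderOf_eq_prime (hVexp z hz) hz1
    by_cases hC0 : D ⊓ centralizer (V : Set G) = ⊥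
    swap
    · -- a normal odd subgroup centralising it
      haveI := normal_inf V D hVn hsup hprod
      obtain ⟨W, hWn, hWne, hWle, hWmin⟩ := CfsgLib.Core.exists_minimal_normal_le' _ hC0
      haveI := hWn
      have hWR : W ≤ R := hWle.trans (inf_le_left.trans hDR)
      obtain ⟨r, hr, hWr, hWc, hWexp⟩ := CfsgLib.Core.isPGroup_of_minimal_normal W
        (Group.isSolvable_of_isSolvable_injective (inclusion_injective hWR)) hWne hWmin
      haveI := Fact.mk hr
      haveI := hWc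
      have hr2 : r ≠ 2 := by
        rintro rfl
        obtain ⟨w, hw, hw1⟩ := W.bot_or_exists_ne_one.resolve_left hWne
        refine hfull 2 Nat.prime_two ?_ (by norm_num [cl])
        rw [← orderOf_eq_prime (hWexp w hw) hw1]
        exact Subgroup.orderOf_dvd_natCard _ (hWle hw).1
      exact hc.false_of_centralised hfix hm hG hzo (fun e he => (hEVc ⟨e, he⟩ z hz).symm) hr hr2 hWexp hWne
        le_normalizer_of_normal (fun w hw => (mem_centralizer_iff.1 (hWle hw).2) z hz)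
        fun e he ⟨j, hj⟩ w hw => (mem_centralizer_iff.1 (hWle hw).2) e
          (hsyl j e (hR ▸ (hker e).1 he) (congrArg Subtype.val hj))
    -- the complement is faithful and centralised by the cover
    have hEDc : ∀ e ∈ E, ∀ x ∈ D, Commute e x := by
      intro e he x hx
      have hmem : e * x * e⁻¹ * x⁻¹ ∈ D ⊓ centralizer (V : Set G) := by
        refine Subgroup.mem_inf.2 ⟨mul_mem (((mem_normalizer_iff.1 (hED he)) x).1 hx) (inv_mem hx), mem_centralizer_iff.2 fun v hv => ?_⟩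
        have hev : ∀ w ∈ V, Commute e w := hEVc ⟨e, he⟩
        have hw : x⁻¹ * v * x ∈ V := by simpa using hVn.conj_mem v hv x⁻¹
        have h1 : e * x * e⁻¹ * x⁻¹ * v * (e * x * e⁻¹ * x⁻¹)⁻¹ = v := by
          rw [show e * x * e⁻¹ * x⁻¹ * v * (e * x * e⁻¹ * x⁻¹)⁻¹ =
            e * x * (e⁻¹ * (x⁻¹ * v * x) * e) * x⁻¹ * e⁻¹ by group,
            show e⁻¹ * (x⁻¹ * v * x) * e = x⁻¹ * v * x by rw [mul_assoc, ← (hev _ hw).eq, inv_mul_cancel_left],
            show e * x * (x⁻¹ * v * x) * x⁻¹ * e⁻¹ = e * v * e⁻¹ by group, (hev v hv).eq, mul_inv_cancel_right]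
        exact (mul_inv_eq_iff_eq_mul.1 h1).symm
      rw [hC0, mem_bot] at hmem
      exact mul_inv_eq_iff_eq_mul.1 (mul_inv_eq_one.1 hmem)
    have hsemi : ∀ x ∈ D, (orderOf x).Prime → ∀ v ∈ V, Commute x v → v = 1 := by
      intro x hx hxp v hv hxv
      by_contra hv1
      obtain ⟨b, hb⟩ := hG.class_of hxp dvd_rfl
      refine hc.false_pair hm hG hxp hb (fun e => hfull _ hxp ?_ (e ▸ hb)) (orderOf_eq_prime (hVexp v hv) hv1)
        rfl (fun e he => (hEVc ⟨e, he⟩ v hv).symm) (fun e he => (hEDc e he x hx).symm) hxv.symm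
      exact Subgroup.orderOf_dvd_natCard _ hx
    obtain ⟨A, y, hAf, hAE, -, -⟩ := hc.exists_frame hfix hm hG
    obtain ⟨a0, ha0, ha01⟩ := hAf.exists_ne_one
    have hmix : ∀ x ∈ D, ∀ w ∈ D, ∀ (p q : ℕ) (i j : Fin 4), orderOf x = p → orderOf w = q → p.Prime → q.Prime →
        p ∣ cl m i → q ∣ cl m j → i ≠ 0 → j ≠ 0 → i ≠ j → ¬ Commute x w :=
      fun x hx w hw p q i j hxo hwo hp hq hpi hqj hi hj hij hxw =>
        hG.false3 hm hi.symm hj.symm hij Nat.prime_two hp hq (by norm_num [cl]) hpi hqj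
          (orderOf_eq_two hAf ha0 ha01) hxo hwo (hEDc a0 (hAE ha0) x hx) (hEDc a0 (hAE ha0) w hw) hxw
    obtain ⟨b1, hb10, -, p1, hp1, hp1b, hp1D⟩ := two_classes 0 D hmeet 0
    haveI : Group.IsSolvable D := Group.isSolvable_of_isSolvable_injective (inclusion_injective hDR)
    have hDne : (⊤ : Subgroup D) ≠ ⊥ := fun e => by
      rw [← card_top, e, card_bot] at hp1D
      exact hp1.ne_one (Nat.dvd_one.1 hp1D)
    obtain ⟨A1, hA1n, hA1ne, -, hA1min⟩ := CfsgLib.Core.exists_minimal_normal_le' (⊤ : Subgroup D) hDne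
    haveI := hA1n
    obtain ⟨s, hs, -, hA1c, hA1exp⟩ := CfsgLib.Core.isPGroup_of_minimal_normal A1 inferInstance hA1ne hA1min
    obtain ⟨B, hB⟩ : ∃ B : Subgroup G, B = A1.map D.subtype := ⟨_, rfl⟩
    haveI := hA1c
    haveI hBc : IsMulCommutative B := hB ▸ inferInstance
    have hBD : B ≤ D := hB ▸ map_subtype_le _
    have hBexp : ∀ b ∈ B, b ^ s = 1 := by
      rw [hB]
      rintro _ ⟨b, hb, rfl⟩
      rw [← map_pow, hA1exp b hb, map_one]
    haveI := Fact.mk hs
    obtain ⟨b0, hb0, hb01⟩ := B.bot_or_exists_ne_one.resolve_left fun e => hA1ne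
      ((map_eq_bot_iff_of_injective _ D.subtype_injective).1 (hB ▸ e))
    have hb0o : orderOf b0 = s := orderOf_eq_prime (hBexp b0 hb0) hb01
    have hsD : s ∣ Nat.card D := hb0o ▸ Subgroup.orderOf_dvd_natCard _ (hBD hb0)
    obtain ⟨bs, hbs⟩ := hG.class_of hs (g := b0) hb0o.symm.dvd
    have hbs0 : bs ≠ 0 := fun e => hfull s hs hsD (e ▸ hbs)
    obtain ⟨bq, hbq0, hbqs, q, hq, hqb, hqD⟩ := two_classes 0 D hmeet bs
    haveI := Fact.mk hq
    obtain ⟨x, hxo⟩ := exists_prime_orderOf_dvd_card' (G := D) q hqD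
    have hxo' : orderOf (x : G) = q := by rw [Subgroup.orderOf_coe, hxo]
    have hV2' : IsPGroup 2 V := fun v => ⟨1, Subtype.ext (by rw [pow_one, coe_pow]; exact hVexp v v.2)⟩
    obtain ⟨jV, hjV⟩ := hV2'.exists_card_eq
    have hsV : ¬ s ∣ Nat.card V := fun h => hfull s hs hsD (by
      rw [hjV] at h
      rw [(Nat.prime_dvd_prime_iff_eq hs Nat.prime_two).1 (hs.dvd_of_dvd_pow h)]
      norm_num [cl])
    obtain ⟨jB, hjB⟩ := (show IsPGroup s B from fun b => ⟨1, Subtype.ext (by simpa using hBexp b b.2)⟩).exists_card_eq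
    have hBs : Nat.card B = s := by
      have h1 : jB < 2 := by
        by_contra h1
        obtain ⟨e, he, heo, v, hv, hv1, hev⟩ := exists_fixed_of_rank hs hBc hBexp
          (hjB ▸ Nat.pow_le_pow_right hs.pos (by omega)) le_normalizer_of_normal hsV hVne
        exact hv1 (hsemi e (hBD he) (heo.symm ▸ hs) v hv hev)
      have h2' : jB ≠ 0 := fun e => hb01 (by
        rw [e, pow_zero, card_eq_one] at hjB
        exact mem_bot.1 (hjB ▸ hb0))
      rw [hjB, show jB = 1 by omega, pow_one]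
    haveI : Fact (Nat.card B).Prime := ⟨hBs.symm ▸ hs⟩
    have hxB : ∀ b ∈ B, (x : G) * b * (x : G)⁻¹ ∈ B := by
      rw [hB]
      rintro _ ⟨b, hb, rfl⟩
      exact ⟨x * b * x⁻¹, hA1n.conj_mem b hb x, rfl⟩
    have hfpfB : ∀ b ∈ B, Commute (x : G) b → b = 1 := fun b hb hxb => by
      by_contra hb1
      exact hmix x x.2 b (hBD hb) q s bq bs hxo' (orderOf_eq_prime (hBexp b hb) hb1) hq hs hqb hbs
        hbq0 hbs0 hbqs hxb
    obtain ⟨v, hv, hv1, hxv⟩ := fixed_of_frobenius (V := V) (A := B) (y := (x : G))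
      (le_normalizer_of_normal (mem_top _)) le_normalizer_of_normal hxB (fpf_powers hq hxo' hfpfB)
      (by rw [hBs]; exact hs.coprime_iff_not_dvd.2 hsV)
      ⟨b0, hb0, z, hz, fun h => hz1 (hsemi b0 (hBD hb0) (hb0o.symm ▸ hs) z hz h)⟩
    exact hv1 (hsemi x x.2 (hxo'.symm ▸ hq) v hv hxv)
  -- all minimal normal subgroups are odd
  obtain ⟨V, hVn, hVne, hVR, hVmin⟩ := CfsgLib.Core.exists_minimal_normal_le' R hRne
  haveI := hVn
  obtain ⟨l, c, D, hl, hlc, hVc, hVexp, hDR, hfull, hprod, hsup, hmeet, hsyl⟩ := elem V hVn hVR hVne hVmin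
  haveI := Fact.mk hl
  haveI := hVc
  obtain ⟨v0, hv0, hv01⟩ := V.bot_or_exists_ne_one.resolve_left hVne
  have hvord : ∀ v ∈ V, v ≠ 1 → orderOf v = l := fun v hv hv1 => orderOf_eq_prime (hVexp v hv) hv1
  have hl2 : l ≠ 2 := by
    rintro rfl
    exact hA ⟨V, hVn, hVR, hVne, hVmin, hvord v0 hv0 hv01 ▸ Subgroup.orderOf_dvd_natCard _ hv0⟩
  have hc0 : c ≠ 0 := fun e => hl2 (class_zero hl (e ▸ hlc))
  have hVodd : ¬ 2 ∣ Nat.card V := fun h => hA ⟨V, hVn, hVR, hVne, hVmin, h⟩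
  by_cases hC0 : D ⊓ centralizer (V : Set G) = ⊥
  swap
  · -- two odd normal subgroups
    haveI := normal_inf V D hVn hsup hprod
    obtain ⟨W, hWn, hWne, hWle, hWmin⟩ := CfsgLib.Core.exists_minimal_normal_le' _ hC0
    haveI := hWn
    have hWR : W ≤ R := hWle.trans (inf_le_left.trans hDR)
    obtain ⟨r, hr, hWr, hWc, hWexp⟩ := CfsgLib.Core.isPGroup_of_minimal_normal W
      (Group.isSolvable_of_isSolvable_injective (inclusion_injective hWR)) hWne hWmin
    haveI := Fact.mk hr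
    have hWodd : ¬ 2 ∣ Nat.card W := fun h => hA ⟨W, hWn, hWR, hWne, hWmin, h⟩
    obtain ⟨E, f', -, hc, -⟩ := exists_cover_top hk hF hd hf (M := ⊤) (sup_top_eq _)
    obtain ⟨A, y, hAf, -, -, -⟩ := hc.exists_frame hfix hm hG
    obtain ⟨a0, ha0, ha01⟩ := hAf.exists_ne_one
    obtain ⟨v, hv, hv1, hav⟩ := hAf.fixed le_normalizer_of_normal (le_normalizer_of_normal (mem_top _)) hVodd hVne ha0
    obtain ⟨w, hw, hw1, haw⟩ := hAf.fixed le_normalizer_of_normal (le_normalizer_of_normal (mem_top _)) hWodd hWne ha0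
    have hwo := orderOf_eq_prime (hWexp w hw) hw1
    obtain ⟨b, hb⟩ := hG.class_of hr (g := w) hwo.symm.dvd
    have hrD : r ∣ Nat.card D := hwo ▸ Subgroup.orderOf_dvd_natCard _ (hWle hw).1
    have hb0 : b ≠ 0 := fun e => hWodd (by
      have hr2 := class_zero hr (e ▸ hb)
      rw [← hr2, ← hwo]
      exact Subgroup.orderOf_dvd_natCard _ hw)
    exact hG.false3 hm hc0.symm hb0.symm (fun e => hfull r hr hrD (e ▸ hb)) Nat.prime_two hl hr (by norm_num [cl])
      hlc hb (orderOf_eq_two hAf ha0 ha01) (hvord v hv hv1) hwo hav haw ((mem_centralizer_iff.1 (hWle hw).2) v hv)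
  -- the complement is faithful
  have hfaith : ∀ x ∈ D, (∀ v ∈ V, Commute x v) → x = 1 := fun x hx h =>
    mem_bot.1 (hC0 ▸ ⟨hx, mem_centralizer_iff.2 fun v hv => (h v hv).eq.symm⟩)
  -- cyclic invariant groups
  have hline : ∀ (E : Subgroup G) (f' : E →* Cfsg.Sz F k) (B : Subgroup G) (s : ℕ), IsCover m f' → B ≤ D →
      IsMulCommutative B → B ≠ ⊥ → s.Prime → s ≠ 2 → (∀ b ∈ B, b ^ s = 1) → E ≤ normalizer (B : Set G) →
      ∃ a ∈ B, orderOf a = s ∧ Nat.card B = s ∧ (∀ e ∈ E, ∀ b ∈ B, Commute e b) ∧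
        ∀ v ∈ V, Commute a v → v = 1 := by
    intro E f' B s hc hBD hBc hBne hs hs2 hBexp hEB
    haveI := hBc
    haveI := Fact.mk hs
    obtain ⟨A, y, hAf, hAE, hyE, -⟩ := hc.exists_frame hfix hm hG
    obtain ⟨a0, ha0, ha01⟩ := hAf.exists_ne_one
    obtain ⟨a, ha, ha1⟩ := B.bot_or_exists_ne_one.resolve_left hBne
    have hao : orderOf a = s := orderOf_eq_prime (hBexp a ha) ha1
    have hsD : s ∣ Nat.card D := hao ▸ Subgroup.orderOf_dvd_natCard _ (hBD ha)
    obtain ⟨bs, hbs⟩ := hG.class_of hs (g := a) hao.symm.dvd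
    have hbs0 : bs ≠ 0 := fun e => hs2 (class_zero hs (e ▸ hbs))
    have hbsc : bs ≠ c := fun e => hfull s hs hsD (e ▸ hbs)
    have htriple : ∀ e ∈ A, e ≠ 1 → ∀ b ∈ B, b ≠ 1 → ∀ v ∈ V, v ≠ 1 → Commute e b → Commute e v → ¬ Commute b v :=
      fun e he he1 b hb hb1 v hv hv1 heb hev hbv =>
        hG.false3 hm hbs0.symm hc0.symm hbsc Nat.prime_two hs hl (by norm_num [cl]) hbs hlc
          (orderOf_eq_two hAf he he1) (orderOf_eq_prime (hBexp b hb) hb1) (hvord v hv hv1) heb hev hbv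
    have hcard : Nat.card B = s := by
      rcases hAf.rank hs hs2 hBexp (hAE.trans hEB) (hEB hyE) with h | h
      · exact le_antisymm h (Nat.le_of_dvd Nat.card_pos (hao ▸ Subgroup.orderOf_dvd_natCard _ ha))
      · exfalso
        haveI : IsMulCommutative (B ⊓ centralizer ({a0} : Set G) : Subgroup G) :=
          ⟨⟨fun p q => Subtype.ext (congrArg Subtype.val (hBc.is_comm.comm (⟨_, p.2.1⟩ : B) ⟨_, q.2.1⟩) :)⟩⟩
        have hW : V ⊓ centralizer ({a0} : Set G) ≠ ⊥ := by
          obtain ⟨v, hv, hv1, hav⟩ := hAf.fixed le_normalizer_of_normal (le_normalizer_of_normal (mem_top _)) hVodd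
            hVne ha0
          exact fun e => hv1 (mem_bot.1 (e ▸ ⟨hv, mem_centralizer_singleton_iff.2 hav.symm.eq⟩))
        obtain ⟨b, hb, hbo, v, hv, hv1, hbv⟩ := exists_fixed_of_rank hs (E := B ⊓ centralizer ({a0} : Set G))
          inferInstance (fun b hb => hBexp b hb.1) (h a0 ha0) (V := V ⊓ centralizer ({a0} : Set G))
          (normalizer_inf_centralizer le_normalizer_of_normal fun b hb =>
            (mem_centralizer_singleton_iff.1 hb.2).symm)
          (fun hd' => by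
            have h1 := hd'.trans (card_dvd_of_le inf_le_left)
            obtain ⟨j, hj⟩ := (show IsPGroup l V from fun v => ⟨1, Subtype.ext (by simpa using hVexp v v.2)⟩).exists_card_eq
            rw [hj] at h1
            exact hfull s hs hsD ((Nat.prime_dvd_prime_iff_eq hs hl).1 (hs.dvd_of_dvd_pow h1) ▸ hlc)) hW
        exact htriple a0 ha0 ha01 b hb.1 (fun e => by rw [e, orderOf_one] at hbo; exact hs.ne_one hbo.symm)
          v hv.1 hv1 (mem_centralizer_singleton_iff.1 hb.2).symm (mem_centralizer_singleton_iff.1 hv.2).symm hbv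
    haveI : Fact (Nat.card B).Prime := ⟨hcard.symm ▸ hs⟩
    have hEBc := hc.centralizes_cyclic (isCyclic_of_prime_card (α := B) rfl) hEB
    refine ⟨a, ha, hao, hcard, hEBc, fun v hv hav => ?_⟩
    by_contra hv1
    have haE : ∀ e ∈ E, Commute a e := fun e he => (hEBc e he a ha).symm
    obtain ⟨w, hw, hw1, haw⟩ := hAf.fixed (V := V ⊓ centralizer ({a} : Set G))
      (fun e he => normalizer_inf_centralizer le_normalizer_of_normal haE (hAE he))
      (normalizer_inf_centralizer le_normalizer_of_normal haE hyE)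
      (fun hd' => hVodd (hd'.trans (card_dvd_of_le inf_le_left)))
      (fun e => hv1 (mem_bot.1 (e ▸ ⟨hv, mem_centralizer_singleton_iff.2 hav.symm.eq⟩))) ha0
    exact htriple a0 ha0 ha01 a ha ha1 w hw.1 hw1 (hEBc a0 (hAE ha0) a ha) haw
      (mem_centralizer_singleton_iff.1 hw.2).symm
  obtain ⟨b1, hb1c, hb10, s0, hs0, hs0b, hs0D⟩ := two_classes c D hmeet 0
  have hs02 : s0 ≠ 2 := fun e => hb10 (class_two hm (e ▸ hs0b))
  have h2D : 2 ∣ Nat.card D := meets_zero.1 (hmeet 0 hc0.symm (meets_zero.2 h2))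
  haveI : Group.IsSolvable D := Group.isSolvable_of_isSolvable_injective (inclusion_injective hDR)
  -- a minimal subgroup of the complement, normal in its normaliser
  obtain ⟨N, hN⟩ : ∃ N : Subgroup G, N = normalizer (D : Set G) := ⟨_, rfl⟩
  have hDN : D ≤ N := hN ▸ le_normalizer
  haveI hDn : (D.subgroupOf N).Normal := by subst hN; exact normal_in_normalizer
  have hD'ne : D.subgroupOf N ≠ ⊥ := fun e => by
    rw [← Nat.card_congr (subgroupOfEquivOfLe hDN).toEquiv, e, card_bot] at h2D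
    omega
  obtain ⟨M0, hM0n, hM0ne, hM0le, hM0min⟩ := CfsgLib.Core.exists_minimal_normal_le' (D.subgroupOf N) hD'ne
  haveI := hM0n
  haveI : Group.IsSolvable M0 := by
    haveI : Group.IsSolvable (D.subgroupOf N) := Group.isSolvable_of_isSolvable_injective
      (f := (subgroupOfEquivOfLe hDN).toMonoidHom) (subgroupOfEquivOfLe hDN).injective
    exact Group.isSolvable_of_isSolvable_injective (inclusion_injective hM0le)
  obtain ⟨s, hs, -, hM0c, hM0exp⟩ := CfsgLib.Core.isPGroup_of_minimal_normal M0 inferInstance hM0ne hM0min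
  obtain ⟨B, hB⟩ : ∃ B : Subgroup G, B = M0.map N.subtype := ⟨_, rfl⟩
  haveI := hM0c
  haveI hBc : IsMulCommutative B := hB ▸ inferInstance
  have hBD : B ≤ D := by
    rw [hB]
    rintro _ ⟨b, hb, rfl⟩
    exact hM0le hb
  have hBexp : ∀ b ∈ B, b ^ s = 1 := by
    rw [hB]
    rintro _ ⟨b, hb, rfl⟩
    rw [← map_pow, hM0exp b hb, map_one]
  have hBne : B ≠ ⊥ := fun e => hM0ne ((map_eq_bot_iff_of_injective _ N.subtype_injective).1 (hB ▸ e))
  have hNB : ∀ g ∈ N, ∀ b ∈ B, g * b * g⁻¹ ∈ B := by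
    rw [hB]
    rintro g hg _ ⟨b, hb, rfl⟩
    exact ⟨⟨g, hg⟩ * b * ⟨g, hg⟩⁻¹, hM0n.conj_mem b hb _, rfl⟩
  have hNB' : N ≤ normalizer (B : Set G) := fun g hg => mem_normalizer_iff.2 fun x => ⟨hNB g hg x, fun hx => by
    have := hNB g⁻¹ (inv_mem hg) _ hx
    rwa [inv_inv, show g⁻¹ * (g * x * g⁻¹) * g = x by group] at this⟩
  by_cases hs2 : s = 2
  · -- a two-group moved by an odd element
    subst hs2
    obtain ⟨P, hPD, hPs, hPne, hPsup⟩ := nfrat D hDR hsup hs0
    obtain ⟨E, f', hEM, hc, hker⟩ := exists_cover_top hk hF hd hf hPsup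
    haveI := Fact.mk hs0
    haveI : Nontrivial P := P.nontrivial_iff_ne_bot.2 (hPne hs0D)
    haveI := hPs.center_nontrivial
    -- the central elements of prime order
    obtain ⟨Z, hZ⟩ : ∃ Z : Subgroup G, ∀ x, x ∈ Z ↔ x ∈ P ∧ x ^ s0 = 1 ∧ ∀ w ∈ P, Commute x w := by
      refine ⟨{
        carrier := {x | x ∈ P ∧ x ^ s0 = 1 ∧ ∀ w ∈ P, Commute x w}
        one_mem' := ⟨one_mem _, one_pow s0, fun w _ => Commute.one_left w⟩
        mul_mem' := fun {a b} ha hb => ⟨mul_mem ha.1 hb.1, by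
          rw [(ha.2.2 b hb.1).mul_pow, ha.2.1, hb.2.1, one_mul], fun w hw => (ha.2.2 w hw).mul_left (hb.2.2 w hw)⟩
        inv_mem' := fun {a} ha => ⟨inv_mem ha.1, by rw [inv_pow, ha.2.1, inv_one], fun w hw => (ha.2.2 w hw).inv_left⟩ },
        fun x => Iff.rfl⟩
    have hZc : IsMulCommutative Z :=
      ⟨⟨fun a b => Subtype.ext (((hZ a).1 a.2).2.2 b ((hZ b).1 b.2).1).eq⟩⟩
    have hZne : Z ≠ ⊥ := by
      obtain ⟨z, hz⟩ := exists_prime_orderOf_dvd_card' (G := Subgroup.center P) s0 (by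
        obtain ⟨i, hi⟩ := IsPGroup.iff_card.1 (hPs.to_subgroup (Subgroup.center P))
        rw [hi]
        refine dvd_pow_self s0 fun e => ?_
        rw [e, pow_zero] at hi
        exact (Finite.one_lt_card (α := Subgroup.center P)).ne' hi)
      intro e
      have hmem : ((z : P) : G) ∈ Z := (hZ _).2 ⟨(z : P).2, by
        rw [← orderOf_dvd_iff_pow_eq_one, Subgroup.orderOf_coe, Subgroup.orderOf_coe, hz],
        fun w hw => (congrArg Subtype.val (Subgroup.mem_center_iff.1 z.2 ⟨w, hw⟩)).symm⟩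
      rw [e, mem_bot, ← orderOf_eq_one_iff, Subgroup.orderOf_coe, Subgroup.orderOf_coe, hz] at hmem
      exact hs0.ne_one hmem
    have hEZ : E ≤ normalizer (Z : Set G) := fun e he => by
      have key : ∀ g ∈ normalizer (P : Set G), ∀ x ∈ Z, g * x * g⁻¹ ∈ Z := fun g hg x hx => by
        obtain ⟨hx1, hx2, hx3⟩ := (hZ x).1 hx
        refine (hZ _).2 ⟨((mem_normalizer_iff.1 hg) x).1 hx1, by rw [conj_pow, hx2, mul_one, mul_inv_cancel],
          fun w hw => ?_⟩
        have h := (hx3 (g⁻¹ * w * g) (((mem_normalizer_iff''.1 hg) w).1 hw)).map (MulAut.conj g)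
        simpa [MulAut.conj_apply, mul_assoc] using h
      refine mem_normalizer_iff.2 fun x => ⟨key e (hEM he).2 x, fun hx => ?_⟩
      have := key e⁻¹ (inv_mem (hEM he).2) _ hx
      rwa [inv_inv, show e⁻¹ * (e * x * e⁻¹) * e = x by group] at this
    obtain ⟨a, haZ, hao, -, hEa, hafpf⟩ := hline E f' Z s0 hc (fun x hx => hPD ((hZ x).1 hx).1) hZc hZne hs0 hs02
      (fun x hx => ((hZ x).1 hx).2.1) hEZ
    have haP : a ∈ P := ((hZ a).1 haZ).1
    have hEB : E ≤ normalizer (B : Set G) := fun e he => hNB' (hN ▸ (hEM he).1)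
    have hEBc : ∀ e : E, ∀ b ∈ B, Commute (e : G) b :=
      hfix.cent hk hF (fun g hg => hG.no_eight hm g (dvd_of_eq hg.symm)) hBexp hEB f' hc.surj hc.min
    have hfpfB : ∀ b ∈ B, Commute a b → b = 1 := fun b hb hab => by
      by_contra hb1
      exact hc.false_pair hm hG hs0 hs0b hb10 (orderOf_eq_prime (hBexp b hb) hb1) hao
        (fun e he => (hEBc ⟨e, he⟩ b hb).symm) (fun e he => (hEa e he a haZ).symm) hab.symm
    obtain ⟨b0, hb0, hb01⟩ := B.bot_or_exists_ne_one.resolve_left hBne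
    obtain ⟨v, hv, hv1, hav⟩ := fixed_of_frobenius (V := V) (A := B) (y := a) (le_normalizer_of_normal (mem_top _))
      le_normalizer_of_normal (fun b hb => hNB a (hN ▸ le_normalizer (hPD haP)) b hb) (fpf_powers hs0 hao hfpfB)
      (by
        obtain ⟨j, hj⟩ := (show IsPGroup 2 B from fun b => ⟨1, Subtype.ext (by simpa using hBexp b b.2)⟩).exists_card_eq
        rw [hj]
        exact (Nat.prime_two.coprime_iff_not_dvd.2 hVodd).pow_left j)
      (by
        by_contra h
        push Not at h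
        exact hb01 (hfaith b0 (hBD hb0) (h b0 hb0)))
    exact hv1 (hafpf v hv hav)
  -- an involution inverting a cyclic group
  obtain ⟨P, hPD, hP2, hPne, hPsup⟩ := nfrat D hDR hsup Nat.prime_two
  obtain ⟨E, f', hEM, hc, hker⟩ := exists_cover_top hk hF hd hf hPsup
  obtain ⟨a, haB, hao, -, hEa, hafpf⟩ := hline E f' B s hc hBD hBc hBne hs hs2 hBexp
    (fun e he => hNB' (hN ▸ (hEM he).1))
  have hPc : ∀ e ∈ E, ∀ x ∈ P, Commute e x := IsCover.centralizes_two hfix hm hG _ G E P f' hG hc rfl hP2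
    (fun e he => (hEM he).2)
  obtain ⟨z, hzP, hzo⟩ : ∃ z ∈ P, orderOf z = 2 := by
    obtain ⟨z, hz⟩ := exists_prime_orderOf_dvd_card' (G := P) 2 (by
      obtain ⟨j, hj⟩ := hP2.exists_card_eq
      rw [hj]
      refine dvd_pow_self 2 fun e => hPne h2D (card_eq_one.1 (by rw [hj, e, pow_zero])))
    exact ⟨z, z.2, by rw [Subgroup.orderOf_coe, hz]⟩
  have hzE : ∀ e ∈ E, Commute z e := fun e he => (hPc e he z hzP).symm
  obtain ⟨bs, hbs⟩ := hG.class_of hs (g := a) hao.symm.dvd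
  have hbs0 : bs ≠ 0 := fun e => hs2 (class_zero hs (e ▸ hbs))
  have hfpfB : ∀ b ∈ B, Commute z b → b = 1 := fun b hb hzb => by
    by_contra hb1
    haveI := Fact.mk hs
    exact hc.false_pair hm hG hs hbs hbs0 hzo (orderOf_eq_prime (hBexp b hb) hb1) hzE
      (fun e he => (hEa e he b hb).symm) hzb
  obtain ⟨v, hv, hv1, hzv⟩ := fixed_of_frobenius (V := V) (A := B) (y := z) (le_normalizer_of_normal (mem_top _))
    le_normalizer_of_normal (fun b hb => hNB z (hN ▸ le_normalizer (hPD hzP)) b hb)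
    (fpf_powers Nat.prime_two hzo hfpfB)
    (by
      haveI := Fact.mk hs
      obtain ⟨j, hj⟩ := (show IsPGroup s B from fun b => ⟨1, Subtype.ext (by simpa using hBexp b b.2)⟩).exists_card_eq
      rw [hj]
      refine ((hs.coprime_iff_not_dvd).2 fun h => ?_).pow_left j
      obtain ⟨i, hi⟩ := (show IsPGroup l V from fun v => ⟨1, Subtype.ext (by simpa using hVexp v v.2)⟩).exists_card_eq
      rw [hi] at h
      exact hfull s hs (hao ▸ Subgroup.orderOf_dvd_natCard _ (hBD haB))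
        ((Nat.prime_dvd_prime_iff_eq hs hl).1 (hs.dvd_of_dvd_pow h) ▸ hlc))
    (by
      by_contra h
      push Not at h
      have := hfaith a (hBD haB) (h a haB)
      rw [this, orderOf_one] at hao
      exact hs.ne_one hao.symm)
  haveI : IsMulCommutative (V ⊓ centralizer ({z} : Set G) : Subgroup G) :=
    ⟨⟨fun p q => Subtype.ext (congrArg Subtype.val (hVc.is_comm.comm (⟨_, p.2.1⟩ : V) ⟨_, q.2.1⟩) :)⟩⟩
  refine hc.false_of_centralised hfix hm hG hzo hzE hl hl2 (V := V ⊓ centralizer ({z} : Set G))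
    (fun v hv => hVexp v hv.1) (fun e => hv1 (mem_bot.1 (e ▸ ⟨hv, mem_centralizer_singleton_iff.2 hzv.symm.eq⟩)))
    (normalizer_inf_centralizer le_normalizer_of_normal hzE)
    (fun v hv => (mem_centralizer_singleton_iff.1 hv.2).symm) ?_
  -- the kernel of the cover is trivial
  rintro e he ⟨j, hj⟩ w hw
  rcases eq_or_ne e 1 with rfl | he1
  · exact Commute.one_left w
  exfalso
  have hk2 := hc.ker_two hfix hm hG hzo hzE
  obtain ⟨Q, hQ⟩ : ∃ Q : Subgroup G, Q = f'.ker.map E.subtype := ⟨_, rfl⟩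
  have hEQ : E ≤ normalizer (Q : Set G) := by
    have key : ∀ g : E, ∀ x ∈ Q, (g : G) * x * (g : G)⁻¹ ∈ Q := by
      rw [hQ]
      rintro g _ ⟨x, hx, rfl⟩
      exact ⟨g * x * g⁻¹, (inferInstance : f'.ker.Normal).conj_mem x hx g, rfl⟩
    intro g hg
    refine mem_normalizer_iff.2 fun x => ⟨key ⟨g, hg⟩ x, fun hx => ?_⟩
    have := key (⟨g, hg⟩⁻¹ : E) _ hx
    simpa [mul_assoc] using this
  have hQc := IsCover.centralizes_two hfix hm hG _ G E Q f' hG hc rfl (hQ ▸ hk2.map E.subtype) hEQ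
  obtain ⟨i, hi⟩ := exists_pow_orderOf Nat.prime_two (g := e) (by
    obtain ⟨t, -, ht⟩ := (Nat.dvd_prime_pow Nat.prime_two).1 (orderOf_dvd_of_pow_eq_one hj)
    rw [ht]
    exact dvd_pow_self 2 fun e0 => he1 (orderOf_eq_one_iff.1 (ht.trans (by rw [e0, pow_zero]))))
  have hu : ((e ^ i : E) : G) ∈ Q := hQ ▸ mem_map_of_mem E.subtype (pow_mem (MonoidHom.mem_ker.2 he) i)
  exact hc.false_pair hm hG hs hbs hbs0 (z := ((e ^ i : E) : G)) (by rw [Subgroup.orderOf_coe, hi]) hao
    (fun g hg => (hQc g hg _ hu).symm) (fun g hg => (hEa g hg a haB).symm) (hEa _ (e ^ i).2 a haB)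

end CfsgLib.SzSq
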