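import Cfsg.Agent.Lib.SzSq.Basic
import Cfsg.Agent.Lib.Components.FStar

/-!
Owner: helper19. Solvable groups whose cores have no elementary subgroups of rank two.
-/

set_option autoImplicit false
set_option linter.unusedSectionVars false

namespace CfsgLib.SzSq

open Subgroup

universe u

variable {G : Type u} [Group G] [Finite G]

/-- An element of prime order moving a normalised subgroup of prime order. -/
theorem dvd_pred_of_moves {x t : G} {d c : ℕ} (hd : d.Prime) (hc : c.Prime) (hx : x ^ d = 1) (ht : orderOf t = c)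
    (hn : ∀ k : G, k ∈ zpowers t → x * k * x⁻¹ ∈ zpowers t) (hne : ¬ Commute x t) : d ∣ c - 1 := by
  haveI : Fact d.Prime := ⟨hd⟩
  have hxn : x ∈ normalizer (zpowers t : Set G) := by
    refine mem_normalizer_iff.2 fun k => ⟨hn k, fun hk => ?_⟩
    have hfin : ∀ i : ℕ, ∀ k ∈ zpowers t, x ^ i * k * (x ^ i)⁻¹ ∈ zpowers t := by
      intro i
      induction i with
      | zero => intro k hk; simpa using hk
      | succ i ih =>
        intro k hk
        have := hn _ (ih k hk)
        rwa [show x ^ (i + 1) * k * (x ^ (i + 1))⁻¹ = x * (x ^ i * k * (x ^ i)⁻¹) * x⁻¹ by rw [pow_succ']; group]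
    have hxi : x⁻¹ = x ^ (d - 1) := inv_eq_of_mul_eq_one_right (by
      rw [← pow_succ', Nat.sub_add_cancel hd.one_le, hx])
    have := hfin (d - 1) _ hk
    rwa [← hxi, inv_inv, show x⁻¹ * (x * k * x⁻¹) * x = k by group] at this
  obtain ⟨φ, hφ⟩ : ∃ φ, φ = (zpowers t).normalizerMonoidHom ⟨x, hxn⟩ := ⟨_, rfl⟩
  have hφd : φ ^ d = 1 := by
    rw [hφ, ← map_pow, show (⟨x, hxn⟩ : normalizer (zpowers t : Set G)) ^ d = 1 from Subtype.ext (by
      rw [coe_pow]; exact hx), map_one]
  have hφ1 : φ ≠ 1 := fun e => hne (by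
    have h := congrArg Subtype.val (DFunLike.congr_fun (hφ.symm.trans e) ⟨t, mem_zpowers t⟩)
    rw [normalizerMonoidHom_val, MulAut.one_apply, mul_inv_eq_iff_eq_mul] at h
    exact h)
  have h := orderOf_dvd_natCard φ
  rw [orderOf_eq_prime hφd hφ1, IsCyclic.card_mulAut, Nat.card_zpowers, ht,
    Nat.totient_prime hc] at h
  exact h

/-- An element of large prime order centralises a group of prime power order with one subgroup of prime order. -/
theorem centralizes_of_no_rank {p d : ℕ} (hp : p.Prime) (hd : d.Prime) (h5 : 5 ≤ d) (hlt : p < d)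
    {P : Subgroup G} (hP : IsPGroup p P) (hexp : p = 2 → ∀ g ∈ P, g ^ 4 = 1) (hr : ¬ HasRank p P)
    {x : G} (hx : x ^ d = 1) (hxn : x ∈ normalizer (P : Set G)) : ∀ g ∈ P, Commute x g := by
  haveI := Fact.mk hp
  haveI := Fact.mk hd
  obtain ⟨φ, hφ⟩ : ∃ φ, φ = P.normalizerMonoidHom ⟨x, hxn⟩ := ⟨_, rfl⟩
  have hφd : φ ^ d = 1 := by
    rw [hφ, ← map_pow, show (⟨x, hxn⟩ : normalizer (P : Set G)) ^ d = 1 from Subtype.ext (by
      rw [coe_pow]; exact hx), map_one]
  suffices h1 : φ = 1 by
    intro g hg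
    have h := congrArg Subtype.val (DFunLike.congr_fun (hφ.symm.trans h1) ⟨g, hg⟩)
    rw [normalizerMonoidHom_val, MulAut.one_apply, mul_inv_eq_iff_eq_mul] at h
    exact h
  by_contra hφ1
  have hord := orderOf_eq_prime hφd hφ1
  have huniq : ∀ a b : P, orderOf a = p → orderOf b = p → b ∈ zpowers a := fun a b ha hb => by
    obtain ⟨i, hi⟩ := mem_zpowers_iff.1 (mem_zpowers_of_no_rank hp hP hr a.2 b.2
      (by rw [Subgroup.orderOf_coe, ha]) (by rw [Subgroup.orderOf_coe, hb]))
    exact mem_zpowers_iff.2 ⟨i, Subtype.ext (by rw [coe_zpow]; exact hi)⟩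
  have huniq' : ∀ H K : Subgroup P, Nat.card H = p → Nat.card K = p → H = K := by
    have key : ∀ H K : Subgroup P, Nat.card H = p → Nat.card K = p → H ≤ K := fun H K hH hK a ha => by
      obtain ⟨b, hb⟩ := exists_prime_orderOf_dvd_card' (G := K) p (dvd_of_eq hK.symm)
      by_cases ha1 : a = 1
      · rw [ha1]; exact one_mem _
      have hao : orderOf a = p := by
        have h := Subgroup.orderOf_dvd_natCard H ha
        rw [hH] at h
        exact ((Nat.dvd_prime hp).1 h).resolve_left fun e => ha1 (orderOf_eq_one_iff.1 e)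
      exact zpowers_le.2 b.2 (huniq b a (by rw [Subgroup.orderOf_coe, hb]) hao)
    exact fun H K hH hK => le_antisymm (key H K hH hK) (key K H hK hH)
  obtain ⟨k, hk⟩ := IsPGroup.iff_card.1 hP
  rcases eq_or_ne p 2 with rfl | hp2
  · have h4 : ∀ g : P, g ^ 4 = 1 := fun g => Subtype.ext (by rw [coe_pow]; exact hexp rfl g g.2)
    have hle : Nat.card P ≤ 8 := by
      rcases CfsgLib.Core.UniqueOrderP.isCyclic_or_quaternion_of_unique (p := 2) hP huniq' with hc | ⟨-, n, ⟨e⟩⟩
      · obtain ⟨g, hg⟩ := hc.exists_generator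
        rw [← orderOf_eq_card_of_forall_mem_zpowers hg]
        have := Nat.le_of_dvd (by norm_num) (orderOf_dvd_of_pow_eq_one (h4 g))
        omega
      · haveI : NeZero (2 ^ n) := ⟨(Nat.two_pow_pos n).ne'⟩
        have h := Nat.le_of_dvd (by norm_num)
          (orderOf_dvd_of_pow_eq_one (h4 (e.symm (QuaternionGroup.a 1))))
        rw [e.symm.orderOf_eq, QuaternionGroup.orderOf_a_one] at h
        rw [Nat.card_congr e.toEquiv, Nat.card_eq_fintype_card, QuaternionGroup.card]
        omega
    let A : Subgroup (MulAut P) := zpowers φ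
    have hA : IsPGroup d A := IsPGroup.of_card (n := 1) (by rw [Nat.card_zpowers, hord, pow_one])
    have hfix := hA.card_modEq_card_fixedPoints P
    let F : Subgroup P := φ.toMonoidHom.eqLocus (MonoidHom.id P)
    have hFeq : Nat.card (MulAction.fixedPoints A P) = Nat.card F := by
      refine Nat.card_congr (Equiv.setCongr (Set.ext fun g => ⟨fun h => h ⟨φ, mem_zpowers φ⟩, fun h a => ?_⟩))
      obtain ⟨i, hi⟩ := mem_zpowers_iff.1 a.2
      show (a : MulAut P) g = g
      rw [← hi]
      have hfix1 : φ g = g := h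
      have : φ ∈ MulAction.stabilizer (MulAut P) g := hfix1
      exact zpow_mem this i
    rw [hFeq, hk] at hfix
    have hFt : F ≠ ⊤ := fun e => hφ1 (MulEquiv.ext fun g => (e ▸ mem_top g : g ∈ F))
    have hk3 : k ≤ 3 := by
      by_contra hlt
      have : 2 ^ 4 ≤ 2 ^ k := Nat.pow_le_pow_right (by norm_num) (by omega)
      omega
    have hFk : Nat.card F ∣ 2 ^ k := hk ▸ F.card_subgroup_dvd_card
    have hFlt : Nat.card F < 2 ^ k := by
      rw [← hk]
      exact lt_of_le_of_ne (Subgroup.card_le_card_group F) fun e => hFt (eq_top_of_card_eq F e)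
    have hk0 : k ≠ 0 := fun e => by
      rw [e, pow_zero] at hFlt
      have : 0 < Nat.card F := Nat.card_pos
      omega
    have h2F : 2 ∣ Nat.card F := by
      obtain ⟨z, hz⟩ := exists_prime_orderOf_dvd_card' (G := P) 2 (hk ▸ dvd_pow_self 2 hk0)
      have hzm := huniq z (φ z) hz (by rw [φ.orderOf_eq, hz])
      obtain ⟨i, hi⟩ := mem_zpowers_iff.1 hzm
      have hzF : z ∈ F := by
        show φ z = z
        rw [← zpow_mod_orderOf, hz] at hi
        rcases Int.emod_two_eq i with h | h <;> simp only [Nat.cast_ofNat, h, zpow_zero, zpow_one] at hi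
        · have := hi.symm
          rw [map_eq_one_iff φ φ.injective] at this
          rw [this, map_one]
        · exact hi.symm
      exact hz ▸ Subgroup.orderOf_dvd_natCard F hzF
    obtain ⟨i, -, hi⟩ := (Nat.dvd_prime_pow Nat.prime_two).1 hFk
    rw [hi] at hfix h2F hFlt
    have hdd : d ∣ 2 ^ k - 2 ^ i := (Nat.modEq_iff_dvd' hFlt.le).1 hfix.symm
    have := Nat.le_of_dvd (by omega) hdd
    have hik : i < k := (Nat.pow_lt_pow_iff_right (by norm_num)).1 hFlt
    have hi1 : 1 ≤ i := by
      by_contra h0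
      rw [show i = 0 by omega] at h2F
      omega
    interval_cases k <;> interval_cases i <;> norm_num at hdd this ⊢
    all_goals first
      | omega
      | (rcases (Nat.dvd_prime hd).1 (dvd_refl d) with h | h <;> omega)
      | (have := Nat.le_of_dvd (by norm_num) hdd; interval_cases d <;> simp_all (config := {decide := true}))
  · rcases CfsgLib.Core.UniqueOrderP.isCyclic_or_quaternion_of_unique (p := p) hP huniq' with hc | ⟨e, -⟩
    · haveI := hc
      have h := orderOf_dvd_natCard φ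
      rw [hord, IsCyclic.card_mulAut, hk] at h
      rcases Nat.eq_zero_or_pos k with rfl | hk0
      · rw [pow_zero, Nat.totient_one, Nat.dvd_one] at h
        omega
      rw [Nat.totient_prime_pow hp hk0, hd.dvd_mul] at h
      rcases h with h | h
      · have := (Nat.prime_dvd_prime_iff_eq hd hp).1 (hd.dvd_of_dvd_pow h)
        omega
      · have := Nat.le_of_dvd (by have := hp.two_le; omega) h
        omega
    · exact hp2 e

/-- If all cores have rank one, so has the largest prime. -/
theorem no_rank_of_cores [Group.IsSolvable G] {d : ℕ} (hd : d.Prime) (h5 : 5 ≤ d)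
    (hmax : ∀ l : ℕ, l.Prime → l ∣ Nat.card G → l ≤ d) (h4 : ∀ g : G, (∃ k, g ^ 2 ^ k = 1) → g ^ 4 = 1)
    (h : ∀ l : ℕ, l.Prime → ¬ HasRank l (Cfsg.pCore l G)) : ¬ HasRank d (⊤ : Subgroup G) := by
  haveI := Fact.mk hd
  intro hr
  obtain ⟨E, -, hEc, hEexp, hEcard, hEp⟩ := hr.isPGroup
  have hOE : ∀ l : ℕ, l.Prime → l ≠ d → ∀ g ∈ Cfsg.pCore l G, ∀ e ∈ E, Commute e g := by
    intro l hl hld g hg e he
    haveI := Fact.mk hl
    by_cases hdvd : l ∣ Nat.card G
    · refine centralizes_of_no_rank hl hd h5 (lt_of_le_of_ne (hmax l hl hdvd) hld)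
        (CfsgLib.Core.isPGroup_pCore l G) (fun e2 g hg => ?_) (h l hl) (hEexp e he)
        (Subgroup.le_normalizer_of_normal (mem_top e)) g hg
      subst e2
      obtain ⟨k, hk⟩ := CfsgLib.Core.isPGroup_pCore 2 G ⟨g, hg⟩
      exact h4 g ⟨k, congrArg Subtype.val hk⟩
    · rw [CfsgLib.Core.pCore_eq_bot_of_not_dvd hl hdvd, Subgroup.mem_bot] at hg
      rw [hg]; exact Commute.one_right e
  obtain ⟨Z, hZ⟩ : ∃ Z : Subgroup G,
      Z = ((Nat.card G).primeFactors.erase d).sup (fun l => Cfsg.pCore l G) := ⟨_, rfl⟩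
  haveI hZn : Group.IsNilpotent Z := by
    rw [hZ]
    exact CfsgLib.Core.isNilpotent_finset_sup_pCore _ fun l hl =>
      Nat.prime_of_mem_primeFactors (Finset.mem_of_mem_erase hl)
  haveI hZnormal : Z.Normal := by
    rw [hZ]
    exact Finset.sup_induction (p := fun H : Subgroup G => H.Normal) inferInstance
      (fun A hA B hB => by haveI := hA; haveI := hB; infer_instance) fun l _ => inferInstance
  obtain ⟨C, hC⟩ : ∃ C : Subgroup G, C = centralizer (Z : Set G) := ⟨_, rfl⟩
  haveI : C.Normal := by rw [hC]; infer_instance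
  have hEC : E ≤ C := fun e he => by
    rw [hC]
    have hle : Z ≤ centralizer ({e} : Set G) := by
      rw [hZ]
      refine Finset.sup_le fun l hl g hg => mem_centralizer_singleton_iff.2 ?_
      exact (hOE l (Nat.prime_of_mem_primeFactors (Finset.mem_of_mem_erase hl)) (Finset.ne_of_mem_erase hl)
        g hg e he).symm
    exact mem_centralizer_iff.2 fun g hg => mem_centralizer_singleton_iff.1 (hle hg)
  have hDZ : Cfsg.pCore d G ≤ C := fun g hg => by
    rw [hC]
    have hle : Z ≤ centralizer ({g} : Set G) := by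
      rw [hZ]
      refine Finset.sup_le fun l hl z hz => mem_centralizer_singleton_iff.2 ?_
      exact CfsgLib.Core.commute_pCore_pCore (Nat.prime_of_mem_primeFactors (Finset.mem_of_mem_erase hl)) hd
        (Finset.ne_of_mem_erase hl) z hz g hg
    exact mem_centralizer_iff.2 fun z hz => mem_centralizer_singleton_iff.1 (hle hz)
  have hF : Cfsg.fittingSubgroup G ≤ Z ⊔ Cfsg.pCore d G := by
    rw [CfsgLib.Core.fittingSubgroup_eq_finset_sup, hZ]
    refine Finset.sup_le fun l hl => ?_
    rcases eq_or_ne l d with rfl | hne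
    · exact le_sup_right
    · exact le_sup_of_le_left (Finset.le_sup (f := fun l => Cfsg.pCore l G) (Finset.mem_erase.2 ⟨hne, hl⟩))
  -- the image of `C` in the automorphisms of the cyclic core is abelian
  obtain ⟨D, hD⟩ : ∃ D : Subgroup G, D = Cfsg.pCore d G := ⟨_, rfl⟩
  haveI : D.Normal := by rw [hD]; infer_instance
  have hDp : IsPGroup d D := by rw [hD]; exact CfsgLib.Core.isPGroup_pCore d G
  have huniqD : ∀ H K : Subgroup D, Nat.card H = d → Nat.card K = d → H = K := by
    have key : ∀ H K : Subgroup D, Nat.card H = d → Nat.card K = d → H ≤ K := fun H K hH hK a ha => by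
      obtain ⟨b, hb⟩ := exists_prime_orderOf_dvd_card' (G := K) d (dvd_of_eq hK.symm)
      by_cases ha1 : a = 1
      · rw [ha1]; exact one_mem _
      have hao : orderOf a = d := by
        have h := Subgroup.orderOf_dvd_natCard H ha
        rw [hH] at h
        exact ((Nat.dvd_prime hd).1 h).resolve_left fun e => ha1 (orderOf_eq_one_iff.1 e)
      obtain ⟨i, hi⟩ := mem_zpowers_iff.1 (mem_zpowers_of_no_rank hd hDp (by rw [hD]; exact h d hd)
        (b : D).2 a.2 (by rw [Subgroup.orderOf_coe, Subgroup.orderOf_coe, hb]) (by rw [Subgroup.orderOf_coe, hao]))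
      exact zpowers_le.2 b.2 (mem_zpowers_iff.2 ⟨i, Subtype.ext (by rw [coe_zpow]; exact hi)⟩)
    exact fun H K hH hK => le_antisymm (key H K hH hK) (key K H hK hH)
  haveI : IsCyclic D := by
    rcases CfsgLib.Core.UniqueOrderP.isCyclic_or_quaternion_of_unique (p := d) hDp huniqD with hc | ⟨e, -⟩
    · exact hc
    · omega
  obtain ⟨ψ, hψ⟩ : ∃ ψ : G →* MulAut D, ψ = MulAut.conjNormal := ⟨_, rfl⟩
  have hab : ∀ a b : MulAut D, a * b = b * a := fun a b => (IsCyclic.mulAutMulEquiv D).injective (by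
    rw [map_mul, map_mul, mul_comm])
  refine absurd ?_ (h d hd)
  refine ⟨E, fun x hx => ?_, hEc, hEexp, hEcard⟩
  haveI : Fact d.Prime := ⟨hd⟩
  obtain ⟨P, hP⟩ : ∃ P : Subgroup G, P = zpowers x ⊔ D := ⟨_, rfl⟩
  have hxd : IsPGroup d (zpowers x) := hEp.to_le (zpowers_le.2 hx)
  have hPp : IsPGroup d P := by rw [hP]; exact hxd.to_sup_of_normal_right hDp
  haveI : Group.IsNilpotent P := hPp.isNilpotent
  obtain ⟨Z', hZ'⟩ : ∃ Z' : Subgroup G, Z' = Z ⊓ C := ⟨_, rfl⟩
  haveI : Group.IsNilpotent Z' := by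
    rw [hZ']; exact CfsgLib.Core.isNilpotent_of_le (inf_le_left : Z ⊓ C ≤ Z)
  have hPC : P ≤ C := by rw [hP]; exact sup_le (zpowers_le.2 (hEC hx)) (hD ▸ hDZ)
  have hcomm : ∀ a ∈ P, ∀ b ∈ Z', a * b = b * a := fun a ha b hb => by
    have h1 := hPC ha
    rw [hC, mem_centralizer_iff] at h1
    rw [hZ'] at hb
    exact (h1 b hb.1).symm
  haveI hNn : Group.IsNilpotent (P ⊔ Z' : Subgroup G) := CfsgLib.Core.isNilpotent_sup_of_commute _ _ hcomm
  have hCF : ∀ f ∈ C, f ∈ centralizer (D : Set G) → f ∈ P ⊔ Z' := fun f hf hfD => by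
    have hff : f ∈ Cfsg.fittingSubgroup G := by
      refine CfsgLib.Components.centralizer_fitting_le_of_isSolvable (mem_centralizer_iff.2 fun g hg => ?_)
      have hle : Z ⊔ Cfsg.pCore d G ≤ centralizer ({f} : Set G) := by
        refine sup_le (fun z hz => ?_) fun z hz => ?_
        · rw [hC, mem_centralizer_iff] at hf
          exact mem_centralizer_singleton_iff.2 (hf z hz)
        · exact mem_centralizer_singleton_iff.2 (mem_centralizer_iff.1 hfD z (hD ▸ hz))
      exact mem_centralizer_singleton_iff.1 (hle (hF hg))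
    have h2 := hF hff
    rw [← hD, CfsgLib.Core.mem_sup_iff_mul (Subgroup.le_normalizer_of_normal)] at h2
    obtain ⟨z, hz, o, ho, rfl⟩ := h2
    have hzC : z ∈ C := by
      have : z = (z * o) * o⁻¹ := by group
      rw [this]
      exact mul_mem hf (inv_mem (hD ▸ hDZ <| by exact ho))
    exact mul_mem (mem_sup_right (hZ' ▸ ⟨hz, hzC⟩)) (mem_sup_left (hP ▸ mem_sup_right ho))
  have hN : ((P ⊔ Z').subgroupOf C).Normal := by
    refine ⟨fun a ha g => ?_⟩
    rw [mem_subgroupOf] at ha ⊢
    have hag : ψ ((g : G) * a * (g : G)⁻¹ * (a : G)⁻¹) = 1 := by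
      rw [map_mul, map_mul, map_mul, map_inv, map_inv, hab (ψ (g : G)) (ψ a), mul_inv_cancel_right,
        mul_inv_cancel]
    have hcD : (g : G) * a * (g : G)⁻¹ * (a : G)⁻¹ ∈ centralizer (D : Set G) := mem_centralizer_iff.2 fun z hz => by
      have h := congrArg Subtype.val (DFunLike.congr_fun hag ⟨z, hz⟩)
      rw [hψ, MulAut.conjNormal_apply, MulAut.one_apply, mul_inv_eq_iff_eq_mul] at h
      exact h.symm
    have := mul_mem (hCF _ (mul_mem (mul_mem (mul_mem g.2 a.2) (inv_mem g.2)) (inv_mem a.2)) hcD) ha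
    rwa [inv_mul_cancel_right] at this
  have hle : P ⊔ Z' ≤ C := sup_le hPC (hZ' ▸ inf_le_right)
  have hsub : (P ⊔ Z').IsSubnormal := Subgroup.IsSubnormal.trans hle
    (Subgroup.Normal.isSubnormal hN) (Subgroup.Normal.isSubnormal inferInstance)
  have hxF : x ∈ Cfsg.fittingSubgroup G := CfsgLib.Components.subnormal_nilpotent_le_fitting hsub hNn
    (mem_sup_left (hP ▸ mem_sup_left (mem_zpowers x)))
  have hle' : zpowers x ≤ Cfsg.pCore d G := by
    haveI := CfsgLib.Core.isNilpotent_fittingSubgroup G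
    obtain ⟨S, hS⟩ := (hxd.of_equiv (subgroupOfEquivOfLe (zpowers_le.2 hxF)).symm).exists_le_sylow
    haveI : (S : Subgroup (Cfsg.fittingSubgroup G)).Normal := inferInstance
    haveI : (S : Subgroup (Cfsg.fittingSubgroup G)).Characteristic := S.characteristic_of_normal inferInstance
    intro g hg
    exact CfsgLib.Core.le_pCore (S.isPGroup'.map (Cfsg.fittingSubgroup G).subtype)
      ⟨⟨g, zpowers_le.2 hxF hg⟩, hS (by rw [mem_subgroupOf]; exact hg), rfl⟩
  exact hle' (mem_zpowers x)

end CfsgLib.SzSq
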