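import Cfsg.Agent.Lib.SzSq.Cases
import Cfsg.Agent.Lib.Core.Nilpotent
import Cfsg.Agent.Lib.PGroups.Basic
import Cfsg.Agent.Lib.Core.MinNormal
import Cfsg.Agent.Lib.Core.Hall

/-!
Owner: helper19. A solvable group has no four primes with complete prime graph and no element order divisible by
three of them.
-/

set_option autoImplicit false
set_option linter.unusedSectionVars false

namespace CfsgLib.SzSq

open Subgroup
open scoped commutatorElement

universe u v

variable {G : Type u} [Group G] [Finite G]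

theorem HasRank.map {H : Type v} [Group H] [Finite H] {p : ℕ} {K : Subgroup G} (h : HasRank p K) (f : G →* H)
    (hinj : ∀ g ∈ K, f g = 1 → g = 1) : HasRank p (K.map f) := by
  obtain ⟨E, hE, hc, hexp, hcard⟩ := h
  refine ⟨E.map f, map_mono hE, ⟨⟨?_⟩⟩, ?_, ?_⟩
  · rintro ⟨_, x, hx, rfl⟩ ⟨_, y, hy, rfl⟩
    exact Subtype.ext (show f x * f y = f y * f x by
      rw [← map_mul, ← map_mul, show x * y = y * x from congrArg Subtype.val (hc.is_comm.comm (⟨x, hx⟩ : E) ⟨y, hy⟩)])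
  · rintro _ ⟨x, hx, rfl⟩
    rw [← map_pow, hexp x hx, map_one]
  · refine hcard.trans (le_of_eq ?_)
    have hb : f.ker.subgroupOf E = ⊥ := (eq_bot_iff_forall _).2 fun x hx => Subtype.ext (hinj x (hE x.2) hx)
    rw [← relIndex_ker, relIndex, hb, index_bot]

theorem HasRank.top {p : ℕ} {K : Subgroup G} (h : HasRank p K) : HasRank p (⊤ : Subgroup K) := by
  obtain ⟨E, hE, hc, hexp, hcard⟩ := h
  refine ⟨E.subgroupOf K, le_top, ⟨⟨?_⟩⟩, fun e he => Subtype.ext ?_, ?_⟩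
  · rintro ⟨x, hx⟩ ⟨y, hy⟩
    exact Subtype.ext (Subtype.ext (show (x : G) * y = y * x from
      congrArg Subtype.val (hc.is_comm.comm (⟨x, hx⟩ : E) ⟨y, hy⟩)))
  · rw [Subgroup.coe_pow]
    exact hexp e he
  · rwa [Nat.card_congr (subgroupOfEquivOfLe hE).toEquiv]

theorem HasRank.ne_bot {p : ℕ} (hp : p.Prime) {K : Subgroup G} (h : HasRank p K) : K ≠ ⊥ := fun e => by
  obtain ⟨E, hE, -, -, hcard⟩ := h
  rw [e, le_bot_iff] at hE
  rw [hE, card_bot] at hcard
  nlinarith [hp.two_le]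

/-- A normal elementary abelian two-subgroup of rank two, unless there is a central involution. -/
theorem exists_abelian_rank (hz : ∀ z : G, orderOf z = 2 → (∀ k : G, Commute z k) → False)
    (hr : HasRank 2 (Cfsg.pCore 2 G)) :
    ∃ N : Subgroup G, N.Normal ∧ IsPGroup 2 N ∧ HasRank 2 N ∧ (IsMulCommutative N ∨ (2 : ℕ) ≠ 2) := by
  haveI : Fact (Nat.Prime 2) := ⟨Nat.prime_two⟩
  obtain ⟨O, hO⟩ : ∃ O : Subgroup G, O = Cfsg.pCore 2 G := ⟨_, rfl⟩
  haveI : O.Normal := hO ▸ inferInstance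
  have hOp : IsPGroup 2 O := hO ▸ CfsgLib.Core.isPGroup_pCore 2 G
  let N : Subgroup G :=
    { carrier := {x | x ∈ O ∧ (∀ y ∈ O, Commute x y) ∧ x * x = 1}
      mul_mem' := fun {x y} hx hy => ⟨mul_mem hx.1 hy.1, fun w hw => (hx.2.1 w hw).mul_left (hy.2.1 w hw), by
        calc x * y * (x * y) = x * (y * x) * y := by group
          _ = x * (x * y) * y := by rw [(hx.2.1 y hy.1).eq]
          _ = (x * x) * (y * y) := by group
          _ = 1 := by rw [hx.2.2, hy.2.2, one_mul]⟩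
      one_mem' := ⟨one_mem O, fun y _ => Commute.one_left y, one_mul 1⟩
      inv_mem' := fun {x} hx => ⟨inv_mem hx.1, fun y hy => (hx.2.1 y hy).inv_left, by
        rw [← mul_inv_rev, hx.2.2, inv_one]⟩ }
  have hNn : N.Normal := ⟨fun x hx g => ⟨(inferInstance : O.Normal).conj_mem x hx.1 g, fun y hy => by
      have h := hx.2.1 _ ((inferInstance : O.Normal).conj_mem' y hy g)
      show g * x * g⁻¹ * y = y * (g * x * g⁻¹)
      calc g * x * g⁻¹ * y = g * (x * (g⁻¹ * y * g)) * g⁻¹ := by group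
        _ = g * ((g⁻¹ * y * g) * x) * g⁻¹ := by rw [h.eq]
        _ = _ := by group, by
      calc g * x * g⁻¹ * (g * x * g⁻¹) = g * (x * x) * g⁻¹ := by group
        _ = 1 := by rw [hx.2.2, mul_one, mul_inv_cancel]⟩⟩
  have hNp : IsPGroup 2 N := hOp.to_le fun x hx => hx.1
  have hNc : IsMulCommutative N := ⟨⟨fun x y => Subtype.ext (x.2.2.1 y y.2.1).eq⟩⟩
  refine ⟨N, hNn, hNp, ⟨N, le_rfl, hNc, fun e he => by rw [pow_two]; exact he.2.2, ?_⟩, Or.inl hNc⟩
  haveI : Nontrivial O := (Subgroup.nontrivial_iff_ne_bot O).2 (hO ▸ hr.ne_bot Nat.prime_two)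
  haveI := hOp.center_nontrivial
  obtain ⟨n, hn⟩ := IsPGroup.iff_card.1 (hOp.to_subgroup (center O))
  obtain ⟨z, hz'⟩ := exists_prime_orderOf_dvd_card' (G := center O) 2 (by
    rw [hn]
    refine dvd_pow_self 2 fun e => ?_
    rw [e, pow_zero] at hn
    exact (Finite.one_lt_card (α := center O)).ne' hn)
  have hzo : orderOf ((z : O) : G) = 2 := by rw [Subgroup.orderOf_coe, Subgroup.orderOf_coe, hz']
  have hzN : ((z : O) : G) ∈ N := ⟨(z : O).2, fun y hy =>
    (congrArg Subtype.val (mem_center_iff.1 z.2 ⟨y, hy⟩)).symm, by rw [← pow_two, ← hzo, pow_orderOf_eq_one]⟩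
  obtain ⟨k, hk⟩ := IsPGroup.iff_card.1 hNp
  rw [hk]
  refine Nat.pow_le_pow_right (by norm_num) ?_
  by_contra hlt
  have hle : zpowers ((z : O) : G) ≤ N := zpowers_le.2 hzN
  have heq := eq_of_le_of_card_ge hle (by
    rw [hk, Nat.card_zpowers, hzo]
    exact (Nat.pow_le_pow_right (by norm_num) (show k ≤ 1 by omega)).trans (pow_one 2).le)
  refine hz _ hzo fun g => ?_
  have h1 := hNn.conj_mem _ hzN g
  rw [← heq, mem_zpowers_iff] at h1
  obtain ⟨i, hi⟩ := h1
  rw [← zpow_mod_orderOf, hzo] at hi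
  rcases Int.emod_two_eq i with h | h <;> simp only [Nat.cast_ofNat, h, zpow_zero, zpow_one] at hi
  · have he : ((z : O) : G) = 1 := conj_eq_one_iff.1 hi.symm
    rw [he, orderOf_one] at hzo
    exact absurd hzo (by norm_num)
  · exact ((mul_inv_eq_iff_eq_mul.1 hi.symm)).symm

/-- The theorem when the group has no further primes. -/
theorem solvable_four_aux [Group.IsSolvable G] (tf : TripleFree G) (s : Finset ℕ) (hs4 : s.card = 4)
    (hsp : ∀ p ∈ s, p.Prime) (hexc : ∀ p ∈ s, p = 2 ∨ 5 ≤ p)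
    (h4 : ∀ g : G, (∃ k, g ^ 2 ^ k = 1) → g ^ 4 = 1) (hG : ∀ l : ℕ, l.Prime → l ∣ Nat.card G → l ∈ s)
    (hadj : ∀ p ∈ s, ∀ q ∈ s, p ≠ q → ∃ g : G, p * q ∣ orderOf g) : False := by
  classical
  have hrank : ∀ p ∈ s, HasRank p (⊤ : Subgroup G) := by
    intro p hp
    have hpp := hsp p hp
    haveI := Fact.mk hpp
    obtain ⟨q0, r0, t0, hqr, hqt, hrt, he⟩ := Finset.card_eq_three.1
      (show (s.erase p).card = 3 by rw [Finset.card_erase_of_mem hp, hs4])
    have hmem : ∀ x ∈ ({q0, r0, t0} : Finset ℕ), x ∈ s ∧ x ≠ p := fun x hx => by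
      rw [← he, Finset.mem_erase] at hx
      exact hx.symm
    obtain ⟨hq0, hq0p⟩ := hmem q0 (by simp)
    obtain ⟨hr0, hr0p⟩ := hmem r0 (by simp)
    obtain ⟨ht0, ht0p⟩ := hmem t0 (by simp)
    obtain ⟨P⟩ := (Sylow.nonempty : Nonempty (Sylow p G))
    obtain ⟨g0, hg0⟩ := hadj p hp q0 hq0 hq0p.symm
    have hpG : p ∣ Nat.card G := ((dvd_mul_right p q0).trans hg0).trans (orderOf_dvd_natCard g0)
    haveI : Nontrivial (P : Subgroup G) :=
      (Subgroup.nontrivial_iff_ne_bot _).2 (P.ne_bot_of_dvd_card hpG)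
    haveI := P.isPGroup'.center_nontrivial
    obtain ⟨z0, hz0⟩ := exists_prime_orderOf_dvd_card' (G := center (P : Subgroup G)) p (by
      obtain ⟨n, hn⟩ := IsPGroup.iff_card.1 (P.isPGroup'.to_subgroup (center (P : Subgroup G)))
      rw [hn]
      refine dvd_pow_self p fun e => ?_
      rw [e, pow_zero] at hn
      exact (Finite.one_lt_card (α := center (P : Subgroup G))).ne' hn)
    obtain ⟨z, hz⟩ : ∃ z : G, z = ((z0 : (P : Subgroup G)) : G) := ⟨_, rfl⟩
    have hzo : orderOf z = p := by rw [hz, Subgroup.orderOf_coe, Subgroup.orderOf_coe, hz0]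
    by_cases hall : ∀ q ∈ s, q ≠ p → q ∣ Nat.card (centralizer ({z} : Set G))
    · exfalso
      obtain ⟨q, r, hq, hr, hqp, hrp, hqr', x, hx⟩ : ∃ q r, q ∈ s ∧ r ∈ s ∧ q ≠ p ∧ r ≠ p ∧ q ≠ r ∧
          ∃ x : centralizer ({z} : Set G), orderOf x = q * r := by
        rcases CfsgLib.Recog.ThreePrimes.solvable_three_primes _ (centralizer ({z} : Set G)) rfl q0 r0 t0
          (hsp _ hq0) (hsp _ hr0) (hsp _ ht0) hqr hqt hrt (hall _ hq0 hq0p) (hall _ hr0 hr0p) (hall _ ht0 ht0p)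
          with h | h | h
        exacts [⟨q0, r0, hq0, hr0, hq0p, hr0p, hqr, h⟩, ⟨q0, t0, hq0, ht0, hq0p, ht0p, hqt, h⟩,
          ⟨r0, t0, hr0, ht0, hr0p, ht0p, hrt, h⟩]
      have hxz : Commute (x : G) z := mem_centralizer_singleton_iff.1 x.2
      rw [← Subgroup.orderOf_coe] at hx
      exact tf.false3 hpp (hsp q hq) (hsp r hr) hqp.symm hrp.symm hqr' (dvd_of_eq hzo.symm)
        (hx ▸ dvd_mul_right q r) (hx ▸ dvd_mul_left r q) hxz.symm hxz.symm (Commute.refl _)
    · push Not at hall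
      obtain ⟨q, hq, hqp, hqC⟩ := hall
      obtain ⟨g, hg⟩ := hadj p hp q hq hqp.symm
      obtain ⟨i, hi⟩ := exists_pow_orderOf hpp ((dvd_mul_right p q).trans hg)
      obtain ⟨S, hS⟩ := (IsPGroup.of_card (p := p) (n := 1)
        (by rw [Nat.card_zpowers, hi, pow_one]) : IsPGroup p (zpowers (g ^ i))).exists_le_sylow
      obtain ⟨k, hk⟩ := MulAction.exists_smul_eq G S P
      have hxP : k * g ^ i * k⁻¹ ∈ (P : Subgroup G) := by
        rw [← hk, Sylow.coe_subgroup_smul, Subgroup.mem_pointwise_smul_iff_inv_smul_mem]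
        show (MulAut.conj k)⁻¹ (k * g ^ i * k⁻¹) ∈ _
        rw [MulAut.conj_inv_apply, show k⁻¹ * (k * g ^ i * k⁻¹) * k = g ^ i by group]
        exact hS (mem_zpowers (g ^ i))
      have hxo : orderOf (k * g ^ i * k⁻¹) = p := by rw [← MulAut.conj_apply, MulEquiv.orderOf_eq, hi]
      have hzP : z ∈ (P : Subgroup G) := hz ▸ (z0 : (P : Subgroup G)).2
      refine hasRank_of_pair hpp (mem_top z) (mem_top _) hzo hxo ?_ fun hmem => hqC ?_
      · rw [hz]
        exact (congrArg Subtype.val (mem_center_iff.1 z0.2 ⟨_, hxP⟩)).symm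
      · obtain ⟨j, hj⟩ := mem_zpowers_iff.1 (show z ∈ zpowers (k * g ^ i * k⁻¹) by
          rw [eq_of_le_of_card_ge (zpowers_le.2 hmem) (by rw [Nat.card_zpowers, Nat.card_zpowers, hxo, hzo])]
          exact mem_zpowers z)
        have hc : Commute (k * g * k⁻¹) z := by
          rw [← hj]
          refine Commute.zpow_right ?_ j
          rw [← conj_pow]
          exact (Commute.refl _).pow_right i
        refine Dvd.dvd.trans ?_ (orderOf_dvd_natCard (⟨_, mem_centralizer_singleton_iff.2 hc⟩ :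
          centralizer ({z} : Set G)))
        rw [Subgroup.orderOf_mk, ← MulAut.conj_apply, MulEquiv.orderOf_eq]
        exact (dvd_mul_left q p).trans hg
  -- the primes of the Fitting subgroup
  haveI : Nontrivial G := by
    obtain ⟨p, hp⟩ := Finset.card_pos.1 (by rw [hs4]; norm_num : 0 < s.card)
    obtain ⟨E, -, -, -, hE⟩ := hrank p hp
    by_contra hG'
    rw [not_nontrivial_iff_subsingleton] at hG'
    haveI := hG'
    rw [Nat.card_unique] at hE
    nlinarith [(hsp p hp).two_le]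
  obtain ⟨F, hF⟩ : ∃ F : Subgroup G, F = Cfsg.fittingSubgroup G := ⟨_, rfl⟩
  haveI hFn : Group.IsNilpotent F := hF ▸ CfsgLib.Core.isNilpotent_fittingSubgroup G
  haveI : F.Normal := hF ▸ inferInstance
  obtain ⟨S0, hS0⟩ : ∃ S0 : Finset ℕ, S0 = s.filter fun l => Cfsg.pCore l G ≠ ⊥ := ⟨_, rfl⟩
  obtain ⟨T, hT⟩ : ∃ T : Finset ℕ, T = s \ S0 := ⟨_, rfl⟩
  have hS0s : S0 ⊆ s := hS0 ▸ Finset.filter_subset _ _
  have hFS : ∀ l : ℕ, l.Prime → l ∣ Nat.card F → l ∈ S0 := by
    intro l hl hd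
    haveI := Fact.mk hl
    obtain ⟨x, hx⟩ := exists_prime_orderOf_dvd_card' (G := F) l hd
    have hsub : ((zpowers x).map F.subtype).IsSubnormal := Subgroup.IsSubnormal.trans'
      (CfsgLib.Core.isSubnormal_of_isNilpotent _) (Subgroup.Normal.isSubnormal inferInstance)
    have hle := CfsgLib.Components.subnormal_pGroup_le_pCore hsub
      ((IsPGroup.of_card (p := l) (n := 1) (by rw [Nat.card_zpowers, hx, pow_one])).map F.subtype)
    rw [hS0, Finset.mem_filter]
    refine ⟨hG l hl (hd.trans F.card_subgroup_dvd_card), fun e => ?_⟩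
    have h1 := hle ⟨x, mem_zpowers x, rfl⟩
    rw [e, Subgroup.mem_bot] at h1
    rw [show x = 1 from Subtype.ext h1, orderOf_one] at hx
    exact hl.ne_one hx.symm
  have hcore : ∀ l ∈ S0, ∃ x ∈ Cfsg.pCore l G, x ≠ 1 ∧ l ∣ orderOf x := fun l hl => by
    rw [hS0, Finset.mem_filter] at hl
    obtain ⟨x, hx, hx1⟩ := (Cfsg.pCore l G).bot_or_exists_ne_one.resolve_left hl.2
    exact ⟨x, hx, hx1, orderOf_of_isPGroup (hsp l hl.1) (CfsgLib.Core.isPGroup_pCore l G) hx hx1⟩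
  have hS02 : S0.card ≤ 2 := by
    by_contra hlt
    obtain ⟨a, ha, b, hb, c, hc, hab, hac, hbc⟩ := Finset.two_lt_card.1 (not_le.1 hlt)
    obtain ⟨x, hx, -, hxo⟩ := hcore a ha
    obtain ⟨y, hy, -, hyo⟩ := hcore b hb
    obtain ⟨z, hz, -, hzo⟩ := hcore c hc
    have hpa := hsp a (hS0s ha)
    have hpb := hsp b (hS0s hb)
    exact tf.false3 hpa hpb (hsp c (hS0s hc)) hab hac hbc hxo hyo hzo
      (CfsgLib.Core.commute_pCore_pCore hpa hpb hab x hx y hy)
      (CfsgLib.Core.commute_pCore_pCore hpa (hsp c (hS0s hc)) hac x hx z hz)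
      (CfsgLib.Core.commute_pCore_pCore hpb (hsp c (hS0s hc)) hbc y hy z hz)
  obtain ⟨a, haS⟩ : S0.Nonempty := by
    obtain ⟨p, hp, hne⟩ := CfsgLib.Core.exists_pCore_ne_bot (G := G)
    refine ⟨p, ?_⟩
    rw [hS0, Finset.mem_filter]
    refine ⟨hG p hp ?_, hne⟩
    by_contra hd
    exact hne (CfsgLib.Core.pCore_eq_bot_of_not_dvd hp hd)
  have hTs : T ⊆ s := hT ▸ Finset.sdiff_subset
  have hTcard : T.card = 4 - S0.card := by rw [hT, Finset.card_sdiff_of_subset hS0s, hs4]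
  -- the Frattini quotient and the complement
  obtain ⟨Φ, hΦ⟩ : ∃ Φ : Subgroup G, Φ = (frattini F).map F.subtype := ⟨_, rfl⟩
  haveI : Φ.Normal := hΦ ▸ inferInstance
  have hΦF : Φ ≤ F := hΦ ▸ map_subtype_le _
  obtain ⟨π, hπ⟩ : ∃ π : G →* G ⧸ Φ, π = QuotientGroup.mk' Φ := ⟨_, rfl⟩
  have hπk : π.ker = Φ := by rw [hπ, QuotientGroup.ker_mk']
  have hπs : Function.Surjective π := by rw [hπ]; exact QuotientGroup.mk'_surjective _
  obtain ⟨V, hV⟩ : ∃ V : Subgroup (G ⧸ Φ), V = F.map π := ⟨_, rfl⟩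
  haveI : V.Normal := hV ▸ Subgroup.Normal.map inferInstance π hπs
  have hVc : IsMulCommutative V := by
    refine ⟨⟨?_⟩⟩
    rintro ⟨x, hx⟩ ⟨y, hy⟩
    rw [hV] at hx hy
    obtain ⟨f, hf, rfl⟩ := hx
    obtain ⟨g, hg, rfl⟩ := hy
    refine Subtype.ext (show π f * π g = π g * π f from ?_)
    rw [← map_mul, ← map_mul, ← mul_inv_eq_one, ← map_inv, ← map_mul, ← MonoidHom.mem_ker, hπk, hΦ]
    exact ⟨⁅(⟨f, hf⟩ : F), ⟨g, hg⟩⁆, CfsgLib.PGroups.commutator_le_frattini
      (commutator_mem_commutator (mem_top _) (mem_top _)), by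
        show (f * g * f⁻¹ * g⁻¹ : G) = f * g * (g * f)⁻¹
        group⟩
  have hVcard : Nat.card V = (frattini F).index := by
    rw [hV, ← relIndex_ker, hπk, hΦ, relIndex, subgroupOf, comap_map_eq_self_of_injective F.subtype_injective]
  obtain ⟨K, hK⟩ := CfsgLib.Core.exists_piHall (G := G) {l : ℕ | l ∈ T}
  have hKF : K ⊓ F = ⊥ := by
    refine Subgroup.inf_eq_bot_of_coprime ?_
    refine Nat.coprime_of_dvd fun l hl hlK hlF => ?_
    have h1 : l ∈ T := hK.1 l hl hlK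
    rw [hT, Finset.mem_sdiff] at h1
    exact h1.2 (hFS l hl hlF)
  have hinj : ∀ g ∈ K, π g = 1 → g = 1 := fun g hg e => by
    have h1 : g ∈ K ⊓ F := ⟨hg, hΦF (hπk ▸ MonoidHom.mem_ker.2 e)⟩
    rwa [hKF, Subgroup.mem_bot] at h1
  have hKr : ∀ l ∈ T, HasRank l K := fun l hl => by
    haveI := Fact.mk (hsp l (hTs hl))
    obtain ⟨E, -, hEc, hEexp, hEcard, hEp⟩ := (hrank l (hTs hl)).isPGroup
    obtain ⟨g, hg⟩ := CfsgLib.Core.exists_conj_le_piHall hK (K := E) fun q hq hd => by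
      obtain ⟨n, hn⟩ := IsPGroup.iff_card.1 hEp
      have := (Nat.prime_dvd_prime_iff_eq hq (hsp l (hTs hl))).1 (hq.dvd_of_dvd_pow (hn ▸ hd))
      subst this
      exact hl
    have hE : HasRank l (E.map (MulAut.conj g).toMonoidHom) :=
      HasRank.map (show HasRank l E from ⟨E, le_rfl, hEc, hEexp, hEcard⟩) _
        fun x _ hx => (MulAut.conj g).injective (hx.trans (map_one _).symm)
    exact hE.mono hg
  have hfaith : ∀ k ∈ K, (∀ f ∈ F, Commute (π k) (π f)) → k = 1 := fun k hk hc => by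
    have hkey : zpowers k ≤ centralizer (F : Set G) := by
      refine CfsgLib.Core.centralizes_of_centralizes_frattini_quotient ?_ ?_ fun x hx f hf => ?_
      · exact zpowers_le.2 (Subgroup.le_normalizer_of_normal (mem_top k))
      · refine Nat.coprime_of_dvd fun l hl hlK hlF => ?_
        have h1 : l ∈ T := hK.1 l hl (hlK.trans (card_dvd_of_le (zpowers_le.2 hk)))
        rw [hT, Finset.mem_sdiff] at h1
        exact h1.2 (hFS l hl (hlF.trans (frattini F).card_subgroup_dvd_card))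
      · obtain ⟨i, rfl⟩ := mem_zpowers_iff.1 hx
        rw [← hΦ, ← hπk, MonoidHom.mem_ker, map_mul, map_mul, map_mul, map_inv, map_inv, map_zpow,
          ((hc f hf).zpow_left i).eq, mul_inv_cancel_right, mul_inv_cancel]
    have h1 : k ∈ K ⊓ F := ⟨hk, hF ▸ CfsgLib.Components.centralizer_fitting_le_of_isSolvable
      (hF ▸ hkey (mem_zpowers k))⟩
    rwa [hKF, Subgroup.mem_bot] at h1
  -- a core of rank two
  obtain ⟨d, hd, hdmax⟩ := T.exists_max_image id (Finset.card_pos.1 (by omega))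
  have hd5 : 5 ≤ d := by
    obtain ⟨x, hx, y, hy, hxy⟩ := Finset.one_lt_card.1 (by omega : 1 < T.card)
    by_cases h2 : x = 2
    · rcases hexc y (hTs hy) with e | e
      · exact absurd (h2.trans e.symm) hxy
      · exact e.trans (hdmax y hy)
    · rcases hexc x (hTs hx) with e | e
      · exact absurd e h2
      · exact e.trans (hdmax x hx)
  obtain ⟨l, hl, hlr⟩ : ∃ l : ℕ, l.Prime ∧ HasRank l (Cfsg.pCore l K) := by
    by_contra hcon
    push Not at hcon
    refine no_rank_of_cores (hsp d (hTs hd)) hd5 (fun q hq hdq => hdmax q (hK.1 q hq hdq))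
      (fun g ⟨k, hk⟩ => Subtype.ext (h4 g ⟨k, congrArg Subtype.val hk⟩)) hcon (hKr d hd).top
  have hlT : l ∈ T := by
    refine hK.1 l hl ?_
    by_contra hd'
    exact hlr.ne_bot hl (CfsgLib.Core.pCore_eq_bot_of_not_dvd hl hd')
  have hTdvd : ∀ x ∈ T, x ∈ s ∧ x ∉ S0 := fun x hx => Finset.mem_sdiff.1 (hT ▸ hx)
  have hmkN : ¬ (l = 2 ∧ ∃ z : K, orderOf z = 2 ∧ ∀ k : K, Commute z k) →
      ∃ N : Subgroup (G ⧸ Φ), IsPGroup l N ∧ HasRank l N ∧ (IsMulCommutative N ∨ l ≠ 2) ∧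
        N ≤ K.map π ∧ K.map π ≤ normalizer (N : Set (G ⧸ Φ)) := by
    intro hz
    obtain ⟨N1, hN1n, hN1p, hN1r, hN1c⟩ : ∃ N1 : Subgroup K, N1.Normal ∧ IsPGroup l N1 ∧ HasRank l N1 ∧
        (IsMulCommutative N1 ∨ l ≠ 2) := by
      by_cases hl2 : l = 2
      · subst hl2
        exact exists_abelian_rank (fun z hzo hzc => hz ⟨rfl, z, hzo, hzc⟩) hlr
      · exact ⟨_, inferInstance, CfsgLib.Core.isPGroup_pCore l K, hlr, Or.inr hl2⟩
    haveI := hN1n
    obtain ⟨N0, hN0⟩ : ∃ N0 : Subgroup G, N0 = N1.map K.subtype := ⟨_, rfl⟩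
    have hN0K : N0 ≤ K := hN0 ▸ map_subtype_le _
    refine ⟨N0.map π, (hN0 ▸ hN1p.map _ : IsPGroup l N0).map π,
      (hN0 ▸ hN1r.map K.subtype fun g _ e => Subtype.ext e : HasRank l N0).map π fun g hg => hinj g (hN0K hg),
      hN1c.imp_left fun hc => ?_, map_mono hN0K, ?_⟩
    · rw [hN0]
      refine ⟨⟨?_⟩⟩
      rintro ⟨_, _, ⟨x, hx, rfl⟩, rfl⟩ ⟨_, _, ⟨y, hy, rfl⟩, rfl⟩
      refine Subtype.ext (show π (K.subtype x) * π (K.subtype y) = π (K.subtype y) * π (K.subtype x) from ?_)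
      rw [← map_mul, ← map_mul, ← map_mul, ← map_mul,
        show x * y = y * x from congrArg Subtype.val (hc.is_comm.comm (⟨x, hx⟩ : N1) ⟨y, hy⟩)]
    · refine (Subgroup.map_mono ?_).trans (Subgroup.le_normalizer_map π)
      rw [hN0]
      have := Subgroup.le_normalizer_map (H := N1) K.subtype
      rwa [Subgroup.normalizer_eq_top, ← MonoidHom.range_eq_map, range_subtype] at this
  have hla : a ≠ l := fun e => (hTdvd l hlT).2 (e ▸ haS)
  have hpa := hsp a (hS0s haS)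
  by_cases hb : ∃ b ∈ S0, b ≠ a
  · -- two modules
    obtain ⟨b, hbS, hba⟩ := hb
    have hS2 : S0 = {a, b} := (Finset.eq_of_subset_of_card_le
      (Finset.insert_subset haS (Finset.singleton_subset_iff.2 hbS))
      (by rw [Finset.card_pair hba.symm]; exact hS02)).symm
    obtain ⟨d', hd'⟩ := Finset.card_eq_one.1 (show (T.erase l).card = 1 by
      rw [Finset.card_erase_of_mem hlT, hTcard, hS2, Finset.card_pair hba.symm])
    have hd'T : d' ∈ T ∧ d' ≠ l := by
      have := hd' ▸ Finset.mem_singleton_self d'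
      rw [Finset.mem_erase] at this
      exact this.symm
    have hlb : b ≠ l := fun e => (hTdvd l hlT).2 (e ▸ hbS)
    have had : a ≠ d' := fun e => (hTdvd d' hd'T.1).2 (e ▸ haS)
    have hbd : b ≠ d' := fun e => (hTdvd d' hd'T.1).2 (e ▸ hbS)
    have hpb := hsp b (hS0s hbS)
    obtain ⟨A, hA⟩ : ∃ A : Subgroup (G ⧸ Φ), A = (Cfsg.pCore a G).map π := ⟨_, rfl⟩
    obtain ⟨B, hB⟩ : ∃ B : Subgroup (G ⧸ Φ), B = (Cfsg.pCore b G).map π := ⟨_, rfl⟩
    haveI : A.Normal := hA ▸ Subgroup.Normal.map inferInstance π hπs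
    haveI : B.Normal := hB ▸ Subgroup.Normal.map inferInstance π hπs
    have hcF : ∀ q ∈ S0, Cfsg.pCore q G ≤ F := fun q hq => by
      haveI := Fact.mk (hsp q (hS0s hq))
      exact hF ▸ CfsgLib.Core.pCore_le_fittingSubgroup q
    have hAV : A ≤ V := hA ▸ hV ▸ map_mono (hcF a haS)
    have hBV : B ≤ V := hB ▸ hV ▸ map_mono (hcF b hbS)
    have hAc : IsMulCommutative A := ⟨⟨fun x y => Subtype.ext (show (x : G ⧸ Φ) * y = y * x from
      congrArg Subtype.val (hVc.is_comm.comm (⟨x, hAV x.2⟩ : V) ⟨y, hAV y.2⟩))⟩⟩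
    have hBc : IsMulCommutative B := ⟨⟨fun x y => Subtype.ext (show (x : G ⧸ Φ) * y = y * x from
      congrArg Subtype.val (hVc.is_comm.comm (⟨x, hBV x.2⟩ : V) ⟨y, hBV y.2⟩))⟩⟩
    have hAp : IsPGroup a A := hA ▸ (CfsgLib.Core.isPGroup_pCore a G).map π
    have hBp : IsPGroup b B := hB ▸ (CfsgLib.Core.isPGroup_pCore b G).map π
    have hne : ∀ (p q : ℕ) (Q : Subgroup (G ⧸ Φ)), p ∈ S0 → q ∈ S0 → p ≠ q → IsPGroup q Q → V ≤ Q → False := by
      intro p q Q hp hq hpq hQ hle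
      haveI := Fact.mk (hsp q (hS0s hq))
      obtain ⟨n, hn⟩ := IsPGroup.iff_card.1 hQ
      obtain ⟨x, hx, -, hxo⟩ := hcore p hp
      have hpF : p ∣ Nat.card F := hxo.trans (Subgroup.orderOf_dvd_natCard F (hcF p hp hx))
      have h2 : p ∣ Nat.card V := hVcard ▸ CfsgLib.Core.prime_dvd_index_frattini (hsp p (hS0s hp)) hpF
      exact hpq ((Nat.prime_dvd_prime_iff_eq (hsp p (hS0s hp)) (hsp q (hS0s hq))).1
        ((hsp p (hS0s hp)).dvd_of_dvd_pow (hn ▸ h2.trans (card_dvd_of_le hle))))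
    have hVAB : V ≤ A ⊔ B := by
      rw [hV, hA, hB, ← Subgroup.map_sup]
      refine map_mono ?_
      rw [hF, CfsgLib.Core.fittingSubgroup_eq_finset_sup]
      refine Finset.sup_le fun q hq => ?_
      by_cases hqS : q ∈ S0
      · rw [hS2, Finset.mem_insert, Finset.mem_singleton] at hqS
        rcases hqS with rfl | rfl
        exacts [le_sup_left, le_sup_right]
      · have : Cfsg.pCore q G = ⊥ := by
          by_contra hne'
          refine hqS ?_
          rw [hS0, Finset.mem_filter]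
          exact ⟨hG q (Nat.prime_of_mem_primeFactors hq) (Nat.dvd_of_mem_primeFactors hq), hne'⟩
        rw [this]
        exact bot_le
    have hA1 : A ≠ ⊥ := fun e => hne a b B haS hbS hba.symm hBp (by rw [e, bot_sup_eq] at hVAB; exact hVAB)
    have hB1 : B ≠ ⊥ := fun e => hne b a A hbS haS hba hAp (by rw [e, sup_bot_eq] at hVAB; exact hVAB)
    have hcomm : ∀ x ∈ A, ∀ y ∈ B, Commute x y := fun x hx y hy =>
      congrArg Subtype.val (hVc.is_comm.comm (⟨x, hAV hx⟩ : V) ⟨y, hBV hy⟩)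
    have hKA : K.map π ≤ normalizer (A : Set (G ⧸ Φ)) := fun g _ => Subgroup.le_normalizer_of_normal (mem_top g)
    have hKB : K.map π ≤ normalizer (B : Set (G ⧸ Φ)) := fun g _ => Subgroup.le_normalizer_of_normal (mem_top g)
    by_cases hz : l = 2 ∧ ∃ z : K, orderOf z = 2 ∧ ∀ k : K, Commute z k
    · obtain ⟨hl2, z, hzo, hzc⟩ := hz
      refine false_of_central_involution (tf.quotient Φ) (A := A) (B := B) (K := K.map π) (z := π (z : G))
        hpa hpb (hsp d' (hTs hd'T.1)) hba.symm (hl2 ▸ hla) (hl2 ▸ hlb) (hl2 ▸ hd'T.2) had hbd hAc hBc hAp hBp hA1 hB1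
        hcomm hKA hKB ((hKr d' hd'T.1).map π hinj) (hl2 ▸ (hKr l hlT).map π hinj) ?_ ⟨z, z.2, rfl⟩ ?_ ?_
      · rintro _ ⟨k, hk, rfl⟩ h1 h2
        have hle : V ≤ centralizer ({π k} : Set (G ⧸ Φ)) := hVAB.trans (sup_le
          (fun v hv => mem_centralizer_singleton_iff.2 (h1 v hv).symm.eq)
          (fun v hv => mem_centralizer_singleton_iff.2 (h2 v hv).symm.eq))
        rw [hfaith k hk fun f hf => (show Commute (π f) (π k) from
          mem_centralizer_singleton_iff.1 (hle (hV ▸ ⟨f, hf, rfl⟩))).symm, map_one]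
      · refine orderOf_eq_prime (by rw [← map_pow, ← Subgroup.coe_pow, ← hzo, pow_orderOf_eq_one,
          Subgroup.coe_one, map_one]) fun e => ?_
        rw [show z = 1 from Subtype.ext (hinj z z.2 e), orderOf_one] at hzo
        exact absurd hzo (by norm_num)
      · rintro _ ⟨k, hk, rfl⟩
        exact (show Commute (z : G) k from congrArg Subtype.val (hzc ⟨k, hk⟩).eq).map π
    obtain ⟨N, hNp, hNr, hNc, hNK, hNn⟩ := hmkN hz
    exact false_of_two_modules (tf.quotient Φ) hpa hpb hl (hsp d' (hTs hd'T.1)) hba.symm hla had hlb hbd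
      hd'T.2.symm hAc hBc hAp hBp hA1 hB1 hcomm hKA hKB hNK hNn hNp hNr ((hKr d' hd'T.1).map π hinj) hNc
  · -- one module
    push Not at hb
    have hS1 : S0 = {a} := Finset.eq_singleton_iff_unique_mem.2 ⟨haS, hb⟩
    obtain ⟨c, d', hcd, hcd'⟩ := Finset.card_eq_two.1 (show (T.erase l).card = 2 by
      rw [Finset.card_erase_of_mem hlT, hTcard, hS1, Finset.card_singleton])
    have hmem : ∀ x ∈ ({c, d'} : Finset ℕ), x ∈ T ∧ x ≠ l := fun x hx => by
      rw [← hcd', Finset.mem_erase] at hx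
      exact hx.symm
    obtain ⟨hcT, hcl⟩ := hmem c (by simp)
    obtain ⟨hdT, hdl⟩ := hmem d' (by simp)
    have hVp : IsPGroup a V := by
      haveI := Fact.mk hpa
      rw [hV]
      refine (IsPGroup.of_card (n := (Nat.card F).primeFactorsList.length)
        (Nat.eq_prime_pow_of_unique_prime_dvd Nat.card_pos.ne' fun {q} hq hd'' => ?_)).map π
      have := hFS q hq hd''
      rwa [hS1, Finset.mem_singleton] at this
    obtain ⟨L0, hL0⟩ := CfsgLib.Core.exists_piHall (G := K) {x : ℕ | x = c ∨ x = d'}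
    obtain ⟨L, hL⟩ : ∃ L : Subgroup (G ⧸ Φ), L = (L0.map K.subtype).map π := ⟨_, rfl⟩
    have hLK : L0.map K.subtype ≤ K := map_subtype_le _
    have hLr : ∀ x, x = c ∨ x = d' → x ∈ T → HasRank x L := by
      intro x hx hxT
      haveI := Fact.mk (hsp x (hTs hxT))
      obtain ⟨E, -, hEc, hEexp, hEcard, hEp⟩ := (hKr x hxT).top.isPGroup
      obtain ⟨g, hg⟩ := CfsgLib.Core.exists_conj_le_piHall hL0 (K := E) fun q hq hd => by
        obtain ⟨n, hn⟩ := IsPGroup.iff_card.1 hEp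
        have := (Nat.prime_dvd_prime_iff_eq hq (hsp x (hTs hxT))).1 (hq.dvd_of_dvd_pow (hn ▸ hd))
        subst this
        exact hx
      have h0 : HasRank x L0 := (HasRank.map (show HasRank x E from ⟨E, le_rfl, hEc, hEexp, hEcard⟩)
        (MulAut.conj g).toMonoidHom fun y _ hy => (MulAut.conj g).injective (hy.trans (map_one _).symm)).mono hg
      exact hL ▸ (h0.map K.subtype fun y _ hy => Subtype.ext hy).map π fun y hy => hinj y (hLK hy)
    have hLcard : Nat.card L ∣ Nat.card L0 := hL ▸ (card_map_dvd _ _).trans (card_map_dvd _ _)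
    by_cases hz : l = 2 ∧ ∃ z : K, orderOf z = 2 ∧ ∀ k : K, Commute z k
    · obtain ⟨hl2, z, hzo, hzc⟩ := hz
      have hr0 : ∀ x, x = c ∨ x = d' → x ∈ T → HasRank x L0 := fun x hx hxT => by
        haveI := Fact.mk (hsp x (hTs hxT))
        obtain ⟨E, -, hEc, hEexp, hEcard, hEp⟩ := (hKr x hxT).top.isPGroup
        obtain ⟨g, hg⟩ := CfsgLib.Core.exists_conj_le_piHall hL0 (K := E) fun q hq hd => by
          obtain ⟨n, hn⟩ := IsPGroup.iff_card.1 hEp
          have := (Nat.prime_dvd_prime_iff_eq hq (hsp x (hTs hxT))).1 (hq.dvd_of_dvd_pow (hn ▸ hd))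
          subst this
          exact hx
        exact (HasRank.map (show HasRank x E from ⟨E, le_rfl, hEc, hEexp, hEcard⟩)
          (MulAut.conj g).toMonoidHom fun y _ hy => (MulAut.conj g).injective (hy.trans (map_one _).symm)).mono hg
      obtain ⟨w, -, x, -, hwo, hxo, hwx⟩ := exists_commute_of_ranks (L := L0) inferInstance (hsp c (hTs hcT))
        (hsp d' (hTs hdT)) hcd (hr0 c (Or.inl rfl) hcT) (hr0 d' (Or.inr rfl) hdT) hL0.1
      exact (tf.subgroup K).false3 Nat.prime_two (hsp c (hTs hcT)) (hsp d' (hTs hdT)) (hl2 ▸ hcl.symm)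
        (hl2 ▸ hdl.symm) hcd (dvd_of_eq hzo.symm) (dvd_of_eq hwo.symm) (dvd_of_eq hxo.symm) (hzc w) (hzc x) hwx
    obtain ⟨N, hNp, hNr, hNc, hNK, hNn⟩ := hmkN hz
    haveI : Group.IsSolvable L0 := inferInstance
    refine (OneModule.false (V := V) (N := N) (L := L) (a := a) (b := l) (c := c) (d := d')
      ⟨tf.quotient Φ, hpa, hl, hsp c (hTs hcT), hsp d' (hTs hdT), hla, ?_, ?_, hcl.symm, hdl.symm, hcd,
        hVc, hVp, ?_, hNp, ?_, ?_, ?_, ?_, hNr, hLr c (Or.inl rfl) hcT, hLr d' (Or.inr rfl) hdT, ?_, ?_, ?_⟩)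
    · exact fun e => (hTdvd c hcT).2 (e ▸ haS)
    · exact fun e => (hTdvd d' hdT).2 (e ▸ haS)
    · intro e
      obtain ⟨x, hx, -, hxo⟩ := hcore a haS
      haveI := Fact.mk hpa
      have hpF : a ∣ Nat.card F := hxo.trans (Subgroup.orderOf_dvd_natCard F
        (hF ▸ CfsgLib.Core.pCore_le_fittingSubgroup a hx))
      have h2 : a ∣ Nat.card V := hVcard ▸ CfsgLib.Core.prime_dvd_index_frattini hpa hpF
      rw [e, card_bot, Nat.dvd_one] at h2
      exact hpa.ne_one h2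
    · exact fun g _ => Subgroup.le_normalizer_of_normal (mem_top g)
    · exact fun g _ => Subgroup.le_normalizer_of_normal (mem_top g)
    · exact (hL ▸ map_mono hLK : L ≤ K.map π).trans hNn
    · intro n hn hc
      obtain ⟨k, hk, rfl⟩ := hNK hn
      rw [hfaith k hk fun f hf => hc _ (hV ▸ ⟨f, hf, rfl⟩), map_one]
    · subst hL
      exact Group.isSolvable_of_surjective (f := π.subgroupMap (L0.map K.subtype))
        (MonoidHom.subgroupMap_surjective _ _)
    · exact fun q hq hd => hL0.1 q hq (hd.trans hLcard)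
    · exact hNc

/-- A solvable group with four primes, any two adjacent, has an element order divisible by three primes. -/
theorem solvable_four [Group.IsSolvable G] (s : Finset ℕ) (hs4 : s.card = 4)
    (hsp : ∀ p ∈ s, p.Prime)
    (tf : ∀ g : G, ∀ p ∈ s, ∀ q ∈ s, ∀ r ∈ s, p ≠ q → p ≠ r → q ≠ r → ¬ p * q * r ∣ orderOf g)
    (hexc : ∀ p ∈ s, p = 2 ∨ 5 ≤ p)
    (h4 : ∀ g : G, (∃ k, g ^ 2 ^ k = 1) → g ^ 4 = 1)
    (hadj : ∀ p ∈ s, ∀ q ∈ s, p ≠ q → ∃ g : G, p * q ∣ orderOf g) : False := by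
  obtain ⟨H, hH⟩ := CfsgLib.Core.exists_piHall (G := G) {l : ℕ | l ∈ s}
  have htfH : TripleFree H := fun g p q r hp hq hr hpq hpr hqr hd => by
    have hmem : ∀ l : ℕ, l.Prime → l ∣ p * q * r → l ∈ s := fun l hl hl' =>
      hH.1 l hl (hl'.trans (hd.trans (orderOf_dvd_natCard g)))
    refine tf g p (hmem p hp ((dvd_mul_right p q).mul_right r)) q (hmem q hq ((dvd_mul_left q p).mul_right r)) r
      (hmem r hr (dvd_mul_left r _)) hpq hpr hqr ?_
    rw [Subgroup.orderOf_coe]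
    exact hd
  refine solvable_four_aux htfH s hs4 hsp hexc
    (fun g ⟨k, hk⟩ => Subtype.ext (h4 g ⟨k, congrArg Subtype.val hk⟩)) hH.1 fun p hp q hq hne => ?_
  obtain ⟨g, hg⟩ := hadj p hp q hq hne
  have ho : orderOf (g ^ (orderOf g / (p * q))) = p * q := by
    have hpos : 0 < p * q := Nat.mul_pos (hsp p hp).pos (hsp q hq).pos
    rw [orderOf_pow' _ (Nat.div_pos (Nat.le_of_dvd (orderOf_pos g) hg) hpos).ne',
      Nat.gcd_eq_right (Nat.div_dvd_of_dvd hg), Nat.div_div_self hg (orderOf_pos g).ne']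
  obtain ⟨k, hk⟩ := CfsgLib.Core.exists_conj_le_piHall hH (K := zpowers (g ^ (orderOf g / (p * q))))
    fun r hr hd => by
      rw [Nat.card_zpowers, ho] at hd
      rcases hr.dvd_mul.1 hd with h | h
      · rw [(Nat.prime_dvd_prime_iff_eq hr (hsp p hp)).1 h]; exact hp
      · rw [(Nat.prime_dvd_prime_iff_eq hr (hsp q hq)).1 h]; exact hq
  refine ⟨⟨_, hk (Subgroup.smul_mem_pointwise_smul _ (MulAut.conj k) _ (mem_zpowers _))⟩, dvd_of_eq ?_⟩
  rw [Subgroup.orderOf_mk, MulAut.smul_def, MulEquiv.orderOf_eq, ho]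

end CfsgLib.SzSq
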