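import Cfsg.Agent.Lib.SzSq.Sub
import Cfsg.Agent.Lib.Components.FStar

/-!
Owner: helper19. The components of a group with trivial solvable radical and element orders in two classes.
-/

set_option autoImplicit false
set_option linter.unusedSectionVars false

namespace CfsgLib.SzSq

open Subgroup CfsgLib.Lie.Suzuki CfsgLib.Components
open scoped Pointwise

universe u

variable {G : Type u} [Group G] [Finite G] {m : ℕ}

/-- A component is a Suzuki group over a subfield. -/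
theorem component_sz (h3p : ThreePrimeUse.ThreePrimeSimple.{u}) (hm : 1 ≤ m) (hR : solRadical G = ⊥)
    (hG : Good m G) {K : Subgroup G} (hK : Cfsg.IsComponent K) :
    ∃ (F : Type) (_ : Field F) (_ : Fintype F) (k : ℕ), 1 ≤ k ∧ Fintype.card F = 2 ^ (2 * k + 1) ∧
      2 * k + 1 ∣ 2 * m + 1 ∧ Nonempty (K ≃* Cfsg.Sz F k) := by
  haveI : Nontrivial K := IsQuasisimple.nontrivial hK.2
  have hZ : Subgroup.center K = ⊥ := by
    refine Subgroup.map_injective K.subtype_injective ?_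
    rw [Subgroup.map_bot, ← le_bot_iff, ← hR]
    refine subnormal_solvable_le_solRadical
      ((inferInstance : (Subgroup.center K).Normal).isSubnormal.trans' hK.1) ?_
    haveI : Group.IsSolvable (Subgroup.center K) := Group.isSolvable_of_comm fun a b =>
      Subtype.ext (Subgroup.mem_center_iff.mp b.2 a)
    exact Group.isSolvable_of_surjective
      (f := ((Subgroup.center K).equivMapOfInjective _ K.subtype_injective).toMonoidHom) (MulEquiv.surjective _)
  have hsimp : IsSimpleGroup K := ⟨fun N hN => by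
    rcases IsQuasisimple.normal_le_center_or_eq_top hK.2 hN with h | h
    · exact Or.inl (le_bot_iff.mp (hZ ▸ h))
    · exact Or.inr h⟩
  obtain ⟨F, iF, iFF, k, hk, hF, ⟨e⟩⟩ := h3p K hsimp (IsQuasisimple.not_isMulCommutative hK.2)
    fun h => hG.not_three hm (h.trans K.card_subgroup_dvd_card)
  haveI : CharP F 2 := charTwo_of_card hF
  obtain ⟨e', -⟩ : ∃ e' : K ≃* Cfsg.Sz F k, e' = e.trans (equivLie hk hF).symm := ⟨_, rfl⟩
  refine ⟨F, iF, iFF, k, hk, hF, dvd_of_classes hm hk fun p hp hpd => hG.class_of_card hp ?_, ⟨e'⟩⟩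
  refine Dvd.dvd.trans ?_ K.card_subgroup_dvd_card
  rw [Nat.card_congr e'.toEquiv, Cfsg.Agent.S0324.result hk hF]
  exact dvd_mul_of_dvd_left (dvd_mul_of_dvd_right hpd _) _

/-- Nothing centralises the layer. -/
theorem centralizer_layer (hR : solRadical G = ⊥) : centralizer (Cfsg.layer G : Set G) = ⊥ := by
  have hF : Cfsg.fittingSubgroup G = ⊥ := le_bot_iff.mp (fitting_le_solRadical.trans hR.le)
  have hstar : Cfsg.generalizedFittingSubgroup G = Cfsg.layer G := by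
    rw [Cfsg.generalizedFittingSubgroup, hF, sup_bot_eq]
  have hle := centralizer_gFitting_le (G := G)
  rw [hstar] at hle
  rw [← le_bot_iff, ← hR]
  haveI := layer_normal (G := G)
  refine le_solRadical inferInstance (Group.isSolvable_of_comm fun a b => Subtype.ext ?_)
  exact (mem_centralizer_iff.1 a.2 b (hle b.2)).symm

theorem exists_component (hR : solRadical G = ⊥) [Nontrivial G] : ∃ K : Subgroup G, Cfsg.IsComponent K := by
  by_contra h
  push Not at h
  have h1 := centralizer_layer hR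
  rw [layer_eq_bot_iff.2 h, coe_bot] at h1
  refine absurd (h1.le : centralizer ({1} : Set G) ≤ ⊥) fun h2 => ?_
  obtain ⟨x, hx⟩ := exists_ne (1 : G)
  exact hx (Subgroup.mem_bot.1 (h2 (mem_centralizer_iff.2 fun y hy => by
    rw [Set.mem_singleton_iff] at hy
    rw [hy, mul_one, one_mul])))

theorem commute_of_ne {K L : Subgroup G} (hK : Cfsg.IsComponent K) (hL : Cfsg.IsComponent L) (hne : K ≠ L) {x y : G}
    (hx : x ∈ K) (hy : y ∈ L) : Commute x y := by
  have h := commutator_mem_commutator hx hy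
  rwa [components_commute hK hL hne, mem_bot, commutatorElement_eq_one_iff_commute] at h

/-- There are at most two components. -/
theorem components_le_two (h3p : ThreePrimeUse.ThreePrimeSimple.{u}) (hm : 1 ≤ m) (hR : solRadical G = ⊥)
    (hG : Good m G) {K L M : Subgroup G} (hK : Cfsg.IsComponent K) (hL : Cfsg.IsComponent L)
    (hM : Cfsg.IsComponent M) (hKL : K ≠ L) (hKM : K ≠ M) : L = M := by
  by_contra hLM
  obtain ⟨F1, _, _, k1, hk1, hF1, hd1, ⟨e1⟩⟩ := component_sz h3p hm hR hG hK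
  obtain ⟨F2, _, _, k2, hk2, hF2, hd2, ⟨e2⟩⟩ := component_sz h3p hm hR hG hL
  obtain ⟨F3, _, _, k3, hk3, hF3, hd3, ⟨e3⟩⟩ := component_sz h3p hm hR hG hM
  obtain ⟨⟨t1, ht1⟩, -, -⟩ := exists_sz_prime hF1 hm hk1 hd1
  obtain ⟨-, ⟨t2, p2, hp2, ht2, hc2⟩, -⟩ := exists_sz_prime hF2 hm hk2 hd2
  obtain ⟨-, -, ⟨t3, p3, j3, hp3, ht3, hc3, hj0, hj1⟩⟩ := exists_sz_prime hF3 hm hk3 hd3
  refine hG.false3 hm (i := 0) (j := 1) (k := j3) (by decide) hj0.symm hj1.symm Nat.prime_two hp2 hp3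
    (by norm_num [cl]) hc2 hc3 (x := ((e1.symm t1 : K) : G)) (y := ((e2.symm t2 : L) : G))
    (z := ((e3.symm t3 : M) : G)) ?_ ?_ ?_ ?_ ?_ ?_
  · rw [orderOf_coe, MulEquiv.orderOf_eq, ht1]
  · rw [orderOf_coe, MulEquiv.orderOf_eq, ht2]
  · rw [orderOf_coe, MulEquiv.orderOf_eq, ht3]
  · exact commute_of_ne hK hL hKL (SetLike.coe_mem _) (SetLike.coe_mem _)
  · exact commute_of_ne hK hM hKM (SetLike.coe_mem _) (SetLike.coe_mem _)
  · exact commute_of_ne hL hM hLM (SetLike.coe_mem _) (SetLike.coe_mem _)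

theorem component_inf {K L : Subgroup G} (hR : solRadical G = ⊥) (hK : Cfsg.IsComponent K) (hL : Cfsg.IsComponent L)
    (hne : K ≠ L) {x : G} (hx : x ∈ K) (hx' : x ∈ L) : x = 1 := by
  have hle : K ⊓ L ≤ solRadical G := subnormal_solvable_le_solRadical (hK.1.inf hL.1) (by
    exact Group.isSolvable_of_comm fun a b => Subtype.ext (commute_of_ne hK hL hne a.2.1 b.2.2).eq)
  exact mem_bot.1 (hR ▸ hle ⟨hx, hx'⟩)

/-- No involution interchanges two components. -/
theorem swap_false (h3p : ThreePrimeUse.ThreePrimeSimple.{u}) (hm : 1 ≤ m) (hR : solRadical G = ⊥) (hG : Good m G)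
    {K L : Subgroup G} (hK : Cfsg.IsComponent K) (hL : Cfsg.IsComponent L) (hne : K ≠ L) {g : G} (hg : g * g = 1)
    (hgK : ∀ x ∈ K, g * x * g⁻¹ ∈ L) : False := by
  obtain ⟨F1, _, _, k1, hk1, hF1, hd1, ⟨e1⟩⟩ := component_sz h3p hm hR hG hK
  obtain ⟨-, y0, -, -, hy0, -⟩ := ThreeOrders.exists_frobenius_four hk1 hF1
  obtain ⟨y, hyK, hy⟩ : ∃ y ∈ K, orderOf y = 4 :=
    ⟨((e1.symm y0 : K) : G), SetLike.coe_mem _, by rw [orderOf_coe, MulEquiv.orderOf_eq, hy0]⟩
  obtain ⟨y', hy'⟩ : ∃ y', y' = g * y * g⁻¹ := ⟨_, rfl⟩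
  have hc : Commute y' y := (commute_of_ne hK hL hne hyK (hy' ▸ hgK y hyK)).symm
  have hsq : (g * y) ^ 2 = y' * y := by
    rw [hy', pow_two, inv_eq_of_mul_eq_one_right hg]
    group
  have hy'o : y' ^ 4 = 1 := by rw [hy', conj_pow, ← hy, pow_orderOf_eq_one, mul_one, mul_inv_cancel]
  have h8 : (g * y) ^ 8 = 1 := by
    rw [show (8 : ℕ) = 2 * 4 from rfl, pow_mul, hsq, hc.mul_pow, hy'o, ← hy, pow_orderOf_eq_one, one_mul]
  have h4 : ¬ (g * y) ^ 4 = 1 := by
    rw [show (4 : ℕ) = 2 * 2 from rfl, pow_mul, hsq, hc.mul_pow]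
    intro e
    have hy2 : y ^ 2 = 1 := component_inf hR hK hL hne (pow_mem hyK 2) (by
      rw [eq_inv_of_mul_eq_one_right e]
      exact inv_mem (pow_mem (hy' ▸ hgK y hyK) 2))
    have h := orderOf_dvd_of_pow_eq_one hy2
    rw [hy] at h
    norm_num at h
  haveI : Fact (Nat.Prime 2) := ⟨Nat.prime_two⟩
  exact hG.no_eight hm (g * y) (orderOf_eq_prime_pow (p := 2) (n := 2) h4 h8).symm.dvd

/-- Every element normalises every component. -/
theorem component_fixed (h3p : ThreePrimeUse.ThreePrimeSimple.{u}) (hm : 1 ≤ m) (hR : solRadical G = ⊥)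
    (hG : Good m G) {K : Subgroup G} (hK : Cfsg.IsComponent K) (g : G) : MulAut.conj g • K = K := by
  by_contra hne'
  obtain ⟨L, hL'⟩ : ∃ L, L = MulAut.conj g • K := ⟨_, rfl⟩
  have hL : Cfsg.IsComponent L := hL' ▸ isComponent_conj hK g
  have hne : K ≠ L := fun e => hne' (e.trans hL').symm
  have two : ∀ M : Subgroup G, Cfsg.IsComponent M → M = K ∨ M = L := fun M hM => by
    by_contra h
    push Not at h
    exact h.2 (components_le_two h3p hm hR hG hK hL hM hne h.1.symm).symm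
  have hgL : MulAut.conj g • L = K := by
    rcases two _ (isComponent_conj hL g) with h | h
    · exact h
    · refine absurd (hL'.symm.trans h.symm) fun e => hne ?_
      exact smul_left_cancel (MulAut.conj g) e
  have hodd : ∀ b : ℕ, MulAut.conj (g ^ (2 * b + 1)) • K = L := by
    intro b
    induction b with
    | zero => rw [Nat.mul_zero, Nat.zero_add, pow_one, ← hL']
    | succ b ih =>
      rw [show 2 * (b + 1) + 1 = (2 * b + 1) + 1 + 1 by ring, pow_succ', map_mul, mul_smul, pow_succ', map_mul,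
        mul_smul, ih, hgL, ← hL']
  obtain ⟨k, c, hc, hkc⟩ := Nat.exists_eq_two_pow_mul_odd (orderOf_pos g).ne'
  obtain ⟨a, ha⟩ := hc
  subst ha
  obtain ⟨s, hs⟩ : ∃ s, s = g ^ (2 * a + 1) := ⟨_, rfl⟩
  have hsK : ∀ x ∈ K, s * x * s⁻¹ ∈ L := fun x hx => by
    rw [← hodd a, ← hs, mem_pointwise_smul_iff_inv_smul_mem]
    simpa [MulAut.smul_def, mul_assoc] using hx
  have hsL : ∀ x ∈ L, s * x * s⁻¹ ∈ K := fun x hx => by
    have hsL' : MulAut.conj s • L = K := by
      rcases two _ (isComponent_conj hL s) with h | h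
      · exact h
      · exact absurd (smul_left_cancel (MulAut.conj s) ((hs ▸ hodd a).trans h.symm)) hne
    rw [← hsL', mem_pointwise_smul_iff_inv_smul_mem]
    simpa [MulAut.smul_def, mul_assoc] using hx
  have hs2 : s ^ 2 ^ k = 1 := by rw [hs, ← pow_mul, mul_comm, ← hkc, pow_orderOf_eq_one]
  have hs4 : s ^ 4 = 1 := by
    obtain ⟨j, -, hj⟩ := (Nat.dvd_prime_pow Nat.prime_two).1 (orderOf_dvd_of_pow_eq_one hs2)
    exact hG.pow_four hm hj
  obtain ⟨h, hh⟩ : ∃ h, h = s * s := ⟨_, rfl⟩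
  have hhK : ∀ x ∈ K, h * x * h⁻¹ ∈ K := fun x hx => by
    have := hsL _ (hsK x hx)
    rwa [hh, show s * s * x * (s * s)⁻¹ = s * (s * x * s⁻¹) * s⁻¹ by group]
  have hh2 : h ^ 2 = 1 := by rw [hh, ← pow_two, ← pow_mul]; exact hs4
  obtain ⟨F1, _, _, k1, hk1, hF1, hd1, ⟨e1⟩⟩ := component_sz h3p hm hR hG hK
  have hhn : h ∈ normalizer (K : Set G) := mem_normalizer_iff.2 fun x => ⟨hhK x, fun hx => by
    have := hhK _ hx
    rwa [show h * (h * x * h⁻¹) * h⁻¹ = h ^ 2 * x * (h ^ 2)⁻¹ by rw [pow_two]; group, hh2, one_mul, inv_one, mul_one] at this⟩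
  obtain ⟨φ, hφ⟩ : ∃ φ, φ = MulAut.congr e1 (K.normalizerMonoidHom ⟨h, hhn⟩) := ⟨_, rfl⟩
  obtain ⟨s0, hs0⟩ := inner_of_two hF1 hk1 (φ := φ) (a := 1) (by
    rw [hφ, pow_one, ← map_pow, ← map_pow, show (⟨h, hhn⟩ : normalizer (K : Set G)) ^ 2 = 1 from
      Subtype.ext (by rw [coe_pow]; exact hh2), map_one, map_one])
  obtain ⟨s1, hs1K, hs1⟩ : ∃ s1 ∈ K, ∀ x ∈ K, h * x * h⁻¹ = s1 * x * s1⁻¹ := by
    refine ⟨((e1.symm s0 : K) : G), SetLike.coe_mem _, fun x hx => ?_⟩
    have e : e1.symm (φ (e1 ⟨x, hx⟩)) = e1.symm (MulAut.conj s0 (e1 ⟨x, hx⟩)) := by rw [hs0]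
    rw [hφ, MulAut.conj_apply, map_mul, map_mul, map_inv, e1.symm_apply_apply] at e
    simpa [MulAut.congr] using congrArg Subtype.val e
  obtain ⟨s2, hs2'⟩ : ∃ s2, s2 = s * s1 * s⁻¹ := ⟨_, rfl⟩
  have hs2L : s2 ∈ L := hs2' ▸ hsK s1 hs1K
  have hh12 : (s1 * s2)⁻¹ * h = 1 := by
    rw [← mem_bot, ← centralizer_layer hR, mem_centralizer_iff]
    have key : ∀ x : G, x ∈ K ∨ x ∈ L → h * x * h⁻¹ = s1 * s2 * x * (s1 * s2)⁻¹ := by
      rintro x (hx | hx)
      · rw [hs1 x hx, show s1 * s2 * x * (s1 * s2)⁻¹ = s1 * (s2 * x * s2⁻¹) * s1⁻¹ by group,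
          show s2 * x * s2⁻¹ = x from mul_inv_eq_iff_eq_mul.2 (commute_of_ne hK hL hne hx hs2L).symm.eq]
      · have hx' : s⁻¹ * x * s ∈ K := by
          have := hsL x hx
          rw [show s * x * s⁻¹ = h * (s⁻¹ * x * s) * h⁻¹ by rw [hh]; group] at this
          exact ((mem_normalizer_iff.1 hhn) _).2 this
        have hsx : Commute s1 (s2 * x * s2⁻¹) :=
          commute_of_ne hK hL hne hs1K (mul_mem (mul_mem hs2L hx) (inv_mem hs2L))
        rw [show s1 * s2 * x * (s1 * s2)⁻¹ = s1 * (s2 * x * s2⁻¹) * s1⁻¹ by group, hsx.eq, mul_inv_cancel_right,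
          show h * x * h⁻¹ = s * (h * (s⁻¹ * x * s) * h⁻¹) * s⁻¹ by rw [hh]; group, hs1 _ hx', hs2']
        group
    intro x hx
    have hle : Cfsg.layer G ≤ centralizer ({(s1 * s2)⁻¹ * h} : Set G) := layer_le_iff.2 fun M hM x hx => by
      refine mem_centralizer_singleton_iff.2 ?_
      have hk' := key x (by rcases two M hM with rfl | rfl <;> [exact Or.inl hx; exact Or.inr hx])
      refine (mul_inv_eq_iff_eq_mul.1 ?_).symm
      rw [show (s1 * s2)⁻¹ * h * x * ((s1 * s2)⁻¹ * h)⁻¹ = (s1 * s2)⁻¹ * (h * x * h⁻¹) * (s1 * s2) by group, hk']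
      group
    exact mem_centralizer_singleton_iff.1 (hle hx)
  have hh' : h = s1 * s2 := (inv_mul_eq_one.1 hh12).symm
  have hcs : Commute h s1 := by
    rw [hh']
    exact (Commute.refl s1).mul_left (commute_of_ne hK hL hne hs1K hs2L).symm
  refine swap_false h3p hm hR hG hK hL hne (g := s * s1⁻¹) ?_ fun x hx => ?_
  · have e : s⁻¹ * s1 * s = s2 := by
      rw [hs2', show s⁻¹ * s1 * s = s * (h⁻¹ * s1 * h) * s⁻¹ by rw [hh]; group, mul_assoc h⁻¹, ← hcs.eq,
        inv_mul_cancel_left]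
    calc s * s1⁻¹ * (s * s1⁻¹) = h * (s⁻¹ * s1 * s)⁻¹ * s1⁻¹ := by rw [hh]; group
      _ = 1 := by rw [e, hh']; group
  · rw [show s * s1⁻¹ * x * (s * s1⁻¹)⁻¹ = s * (s1⁻¹ * x * s1) * s⁻¹ by group]
    exact hsK _ (mul_mem (mul_mem (inv_mem hs1K) hx) hs1K)

end CfsgLib.SzSq
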